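import Cfsg.Agent.Lib.PComplement.Reduction
import Cfsg.Agent.Lib.PGroup.Thompson
import Cfsg.Prelude.Def_PLocal
import Cfsg.Prelude.Def_Transfer

/-!
# The Thompson and Glauberman–Thompson normal p-complement theorems

`zjComplement`, `zjAComplement` (elementary and abelian version of J) and `thompsonComplement`,
`thompsonAComplement`.
-/

namespace Cfsg.Agent.PComplement

open Subgroup
open scoped commutatorElement

universe u

variable {p : ℕ}

theorem zOf_map {G H : Type u} [Group G] [Group H] (f : G →* H) (hf : Function.Injective f)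
    (P : Subgroup G) : (zOf P).map f = zOf (P.map f) := by
  ext y
  constructor
  · rintro ⟨x, hx, rfl⟩
    refine mem_inf.2 ⟨⟨x, hx.1, rfl⟩, mem_centralizer_iff.2 ?_⟩
    rintro _ ⟨z, hz, rfl⟩
    rw [← map_mul, ← map_mul, mem_centralizer_iff.1 hx.2 z hz]
  · intro hy
    obtain ⟨x, hx, rfl⟩ := hy.1
    refine ⟨x, mem_inf.2 ⟨hx, mem_centralizer_iff.2 fun z hz => hf ?_⟩, rfl⟩
    rw [map_mul, map_mul, mem_centralizer_iff.1 hy.2 (f z) ⟨z, hz, rfl⟩]

theorem isMulCommutative_zOf {G : Type u} [Group G] (P : Subgroup G) : IsMulCommutative (zOf P) :=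
  ⟨⟨fun a b => Subtype.ext (mem_centralizer_iff.1 b.2.2 a a.2.1)⟩⟩

/-- The functor `Q ↦ J(Q)`, elementary version. -/
abbrev jFunctor (p : ℕ) : ∀ (Q : Type u) [Group Q], Subgroup Q :=
  fun Q _ => Cfsg.thompsonSubgroup p Q

/-- The functor `Q ↦ J(Q)`, abelian version. -/
abbrev jAFunctor : ∀ (Q : Type u) [Group Q], Subgroup Q :=
  fun Q _ => Cfsg.thompsonSubgroupA Q

/-- The functor `Q ↦ Z(J(Q))`, elementary version. -/
abbrev zjFunctor (p : ℕ) : ∀ (Q : Type u) [Group Q], Subgroup Q :=
  fun Q _ => zOf (Cfsg.thompsonSubgroup p Q)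

/-- The functor `Q ↦ Z(J(Q))`, abelian version. -/
abbrev zjAFunctor : ∀ (Q : Type u) [Group Q], Subgroup Q :=
  fun Q _ => zOf (Cfsg.thompsonSubgroupA Q)

theorem wOf_j {G : Type u} [Group G] (P : Subgroup G) :
    wOf (jFunctor p) P = Cfsg.thompsonSubgroupOf p P := rfl

theorem wOf_jA {G : Type u} [Group G] (P : Subgroup G) :
    wOf jAFunctor P = Cfsg.thompsonSubgroupAOf P := rfl

theorem wOf_zj {G : Type u} [Group G] (P : Subgroup G) :
    wOf (zjFunctor p) P = Cfsg.centerThompsonOf p P :=
  zOf_map P.subtype Subtype.coe_injective _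

theorem wOf_zjA {G : Type u} [Group G] (P : Subgroup G) :
    wOf zjAFunctor P = Cfsg.centerThompsonAOf P :=
  zOf_map P.subtype Subtype.coe_injective _

theorem map_thompsonSubgroup {Q R : Type u} [Group Q] [Group R] (φ : Q ≃* R) :
    (Cfsg.thompsonSubgroup p Q).map φ.toMonoidHom = Cfsg.thompsonSubgroup p R := by
  rw [← PGroup.thompsonSubgroupOf_top, PGroup.thompsonSubgroupOf_map_equiv,
    map_top_of_surjective _ φ.surjective, PGroup.thompsonSubgroupOf_top]

theorem map_thompsonSubgroupA {Q R : Type u} [Group Q] [Group R] (φ : Q ≃* R) :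
    (Cfsg.thompsonSubgroupA Q).map φ.toMonoidHom = Cfsg.thompsonSubgroupA R := by
  rw [← PGroup.thompsonSubgroupAOf_top, PGroup.thompsonSubgroupAOf_map_equiv,
    map_top_of_surjective _ φ.surjective, PGroup.thompsonSubgroupAOf_top]

variable [Fact p.Prime]

theorem isCharPFunctor_j : Cfsg.IsCharPFunctor.{u} p (jFunctor p) := by
  refine ⟨fun Q _ _ hQ hne => ?_, fun Q R _ _ _ _ φ => map_thompsonSubgroup φ⟩
  show Cfsg.thompsonSubgroup p Q ≠ ⊥
  rw [← PGroup.thompsonSubgroupOf_top]
  apply PGroup.thompsonSubgroupOf_ne_bot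
  obtain ⟨k, hk⟩ := hQ.exists_card_eq
  rw [card_top, hk]
  rcases k with _ | k
  · rw [pow_zero] at hk
    exact absurd hk Finite.one_lt_card.ne'
  · exact dvd_pow_self p k.succ_ne_zero

theorem isCharPFunctor_jA : Cfsg.IsCharPFunctor.{u} p jAFunctor := by
  refine ⟨fun Q _ _ hQ hne => ?_, fun Q R _ _ _ _ φ => map_thompsonSubgroupA φ⟩
  intro h
  change Cfsg.thompsonSubgroupA Q = ⊥ at h
  rw [← PGroup.thompsonSubgroupAOf_top] at h
  obtain ⟨A, hA⟩ := PGroup.exists_isMaxAb (⊤ : Subgroup Q)
  obtain ⟨x, hx⟩ := exists_ne (1 : Q)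
  have h1 := hA.2.2 (zpowers x) le_top inferInstance
  have hAbot : A = ⊥ := le_bot_iff.1 (h ▸ PGroup.le_thompsonSubgroupAOf hA)
  rw [hAbot, card_bot] at h1
  exact hx (zpowers_eq_bot.1 (card_eq_one.1 (le_antisymm h1 Nat.card_pos)))

theorem isCharPFunctor_zj : Cfsg.IsCharPFunctor.{u} p (zjFunctor p) := by
  refine ⟨fun Q _ _ hQ hne => ?_, fun Q R _ _ _ hQ φ => ?_⟩
  · exact zOf_ne_bot (hQ.to_subgroup _) (isCharPFunctor_j.1 Q hQ hne)
  · show (zOf _).map φ.toMonoidHom = zOf _
    rw [zOf_map _ φ.injective, map_thompsonSubgroup]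

theorem isCharPFunctor_zjA : Cfsg.IsCharPFunctor.{u} p zjAFunctor := by
  refine ⟨fun Q _ _ hQ hne => ?_, fun Q R _ _ _ hQ φ => ?_⟩
  · exact zOf_ne_bot (hQ.to_subgroup _) (isCharPFunctor_jA.1 Q hQ hne)
  · show (zOf _).map φ.toMonoidHom = zOf _
    rw [zOf_map _ φ.injective, map_thompsonSubgroupA]

variable {G : Type u} [Group G] [Finite G] {P : Sylow p G}

omit [Finite G] in
theorem isMember_iff_isMaxEA {A : Subgroup G} :
    IsMember True p P A ↔ PGroup.IsMaxEA p (P : Subgroup G) A := by
  constructor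
  · exact fun h => ⟨h.1.1, ⟨h.1.2.1, h.1.2.2 trivial⟩, fun B hB hBe =>
      h.2 B ⟨hB, hBe.1, fun _ => hBe.2⟩⟩
  · exact fun h => ⟨⟨h.1, h.2.1.1, fun _ => h.2.1.2⟩, fun B hB =>
      h.2.2 B hB.1 ⟨hB.2.1, hB.2.2 trivial⟩⟩

omit [Finite G] in
theorem isMember_iff_isMaxAb {A : Subgroup G} :
    IsMember False p P A ↔ PGroup.IsMaxAb (P : Subgroup G) A := by
  constructor
  · exact fun h => ⟨h.1.1, h.1.2.1, fun B hB hBc => h.2 B ⟨hB, hBc, False.elim⟩⟩
  · exact fun h => ⟨⟨h.1, h.2.1, False.elim⟩, fun B hB => h.2.2 B hB.1 hB.2.1⟩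

omit [Finite G] in
theorem isMember_le_j {A : Subgroup G} (h : IsMember True p P A) :
    A ≤ Cfsg.thompsonSubgroupOf p (P : Subgroup G) :=
  PGroup.le_thompsonSubgroupOf (isMember_iff_isMaxEA.1 h)

omit [Finite G] in
theorem isMember_le_jA {A : Subgroup G} (h : IsMember False p P A) :
    A ≤ Cfsg.thompsonSubgroupAOf (P : Subgroup G) :=
  PGroup.le_thompsonSubgroupAOf (isMember_iff_isMaxAb.1 h)

theorem j_normal_of_le (h : ∀ A, IsMember True p P A → A ≤ Cfsg.pCore p G) :
    (Cfsg.thompsonSubgroupOf p (P : Subgroup G)).Normal := by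
  have hle : Cfsg.thompsonSubgroupOf p (P : Subgroup G) ≤ Cfsg.pCore p G := by
    rw [PGroup.thompsonSubgroupOf_eq]
    exact sSup_le fun A hA => h A (isMember_iff_isMaxEA.2 hA)
  rw [← normalizer_eq_top_iff, eq_top_iff,
    ← PGroup.thompsonSubgroupOf_eq_of_le hle (PCore.pCore_le_sylow P)]
  exact le_trans (le_of_eq (Subgroup.normalizer_eq_top _).symm) (PGroup.normalizer_le_normalizer_thompsonOf _)

theorem jA_normal_of_le (h : ∀ A, IsMember False p P A → A ≤ Cfsg.pCore p G) :
    (Cfsg.thompsonSubgroupAOf (P : Subgroup G)).Normal := by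
  have hle : Cfsg.thompsonSubgroupAOf (P : Subgroup G) ≤ Cfsg.pCore p G := by
    rw [PGroup.thompsonSubgroupAOf_eq]
    exact sSup_le fun A hA => h A (isMember_iff_isMaxAb.2 hA)
  rw [← normalizer_eq_top_iff, eq_top_iff,
    ← PGroup.thompsonSubgroupAOf_eq_of_le hle (PCore.pCore_le_sylow P)]
  exact le_trans (le_of_eq (Subgroup.normalizer_eq_top _).symm) (PGroup.normalizer_le_normalizer_thompsonAOf _)

theorem zOf_normal {J : Subgroup G} [J.Normal] : (zOf J).Normal := by
  rw [← normalizer_eq_top_iff, eq_top_iff]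
  exact le_trans (le_of_eq (Subgroup.normalizer_eq_top _).symm) (normalizer_le_normalizer_zOf J)

/-- `Z(J)` is normal in a minimal configuration. -/
theorem Config.zj_normal (h : Config p P) (hp : p ≠ 2) :
    (Cfsg.centerThompsonOf p (P : Subgroup G)).Normal :=
  h.center_member_normal (e := True) hp _
    (inf_le_left.trans (PGroup.thompsonSubgroupOf_le _))
    (le_normalizer.trans ((PGroup.normalizer_le_normalizer_thompsonOf _).trans
      (normalizer_le_normalizer_zOf _)))
    (isMulCommutative_zOf _)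
    (fun A hA => (isMember_le_j hA).trans (le_centralizer_iff.1 inf_le_right))
    (fun hall => by haveI := j_normal_of_le hall; exact zOf_normal)

/-- `Z(J)` is normal in a minimal configuration, abelian version. -/
theorem Config.zjA_normal (h : Config p P) (hp : p ≠ 2) :
    (Cfsg.centerThompsonAOf (P : Subgroup G)).Normal :=
  h.center_member_normal (e := False) hp _
    (inf_le_left.trans (PGroup.thompsonSubgroupAOf_le _))
    (le_normalizer.trans ((PGroup.normalizer_le_normalizer_thompsonAOf _).trans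
      (normalizer_le_normalizer_zOf _)))
    (isMulCommutative_zOf _)
    (fun A hA => (isMember_le_jA hA).trans (le_centralizer_iff.1 inf_le_right))
    (fun hall => by haveI := jA_normal_of_le hall; exact zOf_normal)

/-- In a minimal configuration, all members lie in `O_p G` if `C(Z(P))` has a normal p-complement. -/
theorem Config.member_le_core_of_centralizer {e : Prop} (h : Config p P) (hp : p ≠ 2)
    (hz : Cfsg.HasNormalPComplement p
      ↥(centralizer ((zOf (P : Subgroup G)) : Set G))) {A : Subgroup G}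
    (hA : IsMember e p P A) : A ≤ Cfsg.pCore p G := by
  set U := Cfsg.pCore p G with hU
  haveI : (zOf U).Normal := zOf_normal
  have hUP : U ≤ (P : Subgroup G) := PCore.pCore_le_sylow P
  set E := closure {x | x ∈ zOf U ∧ x ^ p = 1} with hEdef
  have hEz : E ≤ zOf U := (closure_le _).2 fun x hx => hx.1
  haveI : E.Normal := by
    refine ⟨fun n hn g => ?_⟩
    have hle : E ≤ E.comap (MulAut.conj g).toMonoidHom := by
      conv_lhs => rw [hEdef]
      rw [closure_le]
      intro x hx
      exact subset_closure ⟨(inferInstance : (zOf U).Normal).conj_mem x hx.1 g,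
        by show (g * x * g⁻¹) ^ p = 1; rw [conj_pow, hx.2, mul_one, mul_inv_cancel]⟩
    exact hle hn
  by_cases hC : centralizer (E : Set G) ≤ (P : Subgroup G)
  · refine h.member_le_core hp E (hEz.trans (inf_le_left.trans hUP)) ?_ ?_ hC hA
    · exact ⟨⟨fun a b => Subtype.ext (mem_centralizer_iff.1 (hEz b.2).2 a (hEz a.2).1)⟩⟩
    · intro B hB hBU
      rw [hEdef, closure_le]
      rintro x ⟨hx, hxp⟩
      exact hB.mem_of_centralizes (hUP hx.1) hxp fun a ha =>
        mem_centralizer_iff.1 hx.2 a (hBU ha)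
  · exfalso
    -- all p'-elements centralise Z(P), so G has a normal p-complement and no p'-elements
    have hcent : ∀ k : G, (orderOf k).Coprime p → k ∈ centralizer ((zOf (P : Subgroup G)) : Set G) := by
      intro k hk
      refine centralizer_le (fun z hz => ?_) (centralizes_of_exponent hp (zOf U)
        (P.2.to_le (inf_le_left.trans hUP)) hk fun x hx hxp =>
          mem_centralizer_iff.1 (h.mem_of_coprime _ hC hk) x (subset_closure ⟨hx, hxp⟩))
      have hzC : z ∈ centralizer (U : Set G) := centralizer_le hUP hz.2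
      exact mem_inf.2 ⟨h.cent hzC, hzC⟩
    set C := centralizer ((zOf (P : Subgroup G)) : Set G)
    have hCtop : C = ⊤ := by
      have hPC : (P : Subgroup G) ≤ C := fun x hx =>
        mem_centralizer_iff.2 fun z hz => (mem_centralizer_iff.1 hz.2 x hx).symm
      rcases h.coatom.le_iff.1 hPC with hh | hh
      · exact hh
      · exfalso
        have hG : IsPGroup p (⊤ : Subgroup G) := isPrimePow_orderOf_of_forall fun k _ hk =>
          eq_one_of_mem_sylow (P := P) (hh ▸ hcent k hk) hk
        exact h.coatom.1 (P.3 hG le_top).symm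
    have hG' : Cfsg.HasNormalPComplement p G := by
      rw [hCtop] at hz
      exact Transfer.hasNormalPComplement_of_injective (topEquiv (G := G)).symm.toMonoidHom
        (topEquiv (G := G)).symm.injective hz
    have htriv : ∀ k : G, (orderOf k).Coprime p → k = 1 := by
      intro k hk
      haveI := Transfer.pResidual_normal (G := G) p
      refine eq_one_of_mem_sylow (P := P) (hUP (h.cent (mem_centralizer_iff.2 fun u hu => ?_))) hk
      have h1 : ⁅u, k⁆ ∈ Cfsg.pResidual p G := commutator_le_right ⊤ _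
        (commutator_mem_commutator (mem_top u) ((Transfer.mem_pResidual_iff hG' k).2 hk))
      have h2 : ⁅u, k⁆ ∈ U := commutator_le_left U ⊤ (commutator_mem_commutator hu (mem_top k))
      exact commutatorElement_eq_one_iff_mul_comm.1
        (eq_one_of_mem_sylow (P := P) (hUP h2) ((Transfer.mem_pResidual_iff hG' _).1 h1))
    have hG : IsPGroup p (⊤ : Subgroup G) := isPrimePow_orderOf_of_forall fun k _ hk => htriv k hk
    exact h.coatom.1 (P.3 hG le_top).symm

/-- **Glauberman–Thompson**, elementary version of J. -/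
theorem zjComplement (hp : p ≠ 2) (P : Sylow p G)
    (h : Cfsg.HasNormalPComplement p
      ↥(normalizer (Cfsg.centerThompsonOf p (P : Subgroup G) : Set G))) :
    Cfsg.HasNormalPComplement p G := by
  refine reduction (W := zjFunctor p) False (fun _ _ => True) isCharPFunctor_zj
    (fun _ _ _ _ _ => trivial) (fun _ _ _ _ _ _ => trivial)
    (fun G _ _ P _ hc _ _ => ?_) G trivial P ⟨?_, False.elim⟩
  · rw [wOf_zj]; exact hc.zj_normal hp
  · rw [wOf_zj]; exact h

/-- **Glauberman–Thompson**, abelian version of J. -/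
theorem zjAComplement (hp : p ≠ 2) (P : Sylow p G)
    (h : Cfsg.HasNormalPComplement p
      ↥(normalizer (Cfsg.centerThompsonAOf (P : Subgroup G) : Set G))) :
    Cfsg.HasNormalPComplement p G := by
  refine reduction (W := zjAFunctor) False (fun _ _ => True) isCharPFunctor_zjA
    (fun _ _ _ _ _ => trivial) (fun _ _ _ _ _ _ => trivial)
    (fun G _ _ P _ hc _ _ => ?_) G trivial P ⟨?_, False.elim⟩
  · rw [wOf_zjA]; exact hc.zjA_normal hp
  · rw [wOf_zjA]; exact h

/-- **Thompson's normal p-complement theorem**. -/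
theorem thompsonComplement (hp : p ≠ 2) (P : Sylow p G)
    (hJ : Cfsg.HasNormalPComplement p
      ↥(normalizer (Cfsg.thompsonSubgroupOf p (P : Subgroup G) : Set G)))
    (hZ : Cfsg.HasNormalPComplement p ↥(centralizer ((zOf (P : Subgroup G)) : Set G))) :
    Cfsg.HasNormalPComplement p G := by
  refine reduction (W := jFunctor p) True (fun _ _ => True) isCharPFunctor_j
    (fun _ _ _ _ _ => trivial) (fun _ _ _ _ _ _ => trivial)
    (fun G _ _ P _ hc _ hl => ?_) G trivial P ⟨hJ, fun _ => hZ⟩
  exact j_normal_of_le fun A hA => hc.member_le_core_of_centralizer hp (hl.2 trivial) hA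

/-- **Thompson's normal p-complement theorem**, abelian version of J. -/
theorem thompsonAComplement (hp : p ≠ 2) (P : Sylow p G)
    (hJ : Cfsg.HasNormalPComplement p
      ↥(normalizer (Cfsg.thompsonSubgroupAOf (P : Subgroup G) : Set G)))
    (hZ : Cfsg.HasNormalPComplement p ↥(centralizer ((zOf (P : Subgroup G)) : Set G))) :
    Cfsg.HasNormalPComplement p G := by
  refine reduction (W := jAFunctor) True (fun _ _ => True) isCharPFunctor_jA
    (fun _ _ _ _ _ => trivial) (fun _ _ _ _ _ _ => trivial)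
    (fun G _ _ P _ hc _ hl => ?_) G trivial P ⟨hJ, fun _ => hZ⟩
  exact jA_normal_of_le fun A hA => hc.member_le_core_of_centralizer hp (hl.2 trivial) hA

end Cfsg.Agent.PComplement
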