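import Cfsg.Agent.Lib.PComplement.GlaubermanThompson
import Cfsg.Agent.Lib.Subnormal.Nilpotent
import Mathlib.GroupTheory.FixedPointFree
import Mathlib.GroupTheory.Nilpotent

/-!
# Thompson's theorem on fixed-point-free automorphisms of prime order

`isNilpotent_of_fpf`: a finite group with an automorphism `α`, `α ^ p = 1`, fixing only `1` is
nilpotent.
-/

namespace Cfsg.Agent.PComplement

open Subgroup
open scoped commutatorElement

universe u

/-- The key computation: an automorphism of prime order with trivial norm on the abelian normal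
subgroup `V`, fixed-point-free on the invariant subgroup `R` of coprime order, forces `R` to
centralise `V`. -/
theorem commute_of_norm {G : Type*} [Group G] [Finite G] {p : ℕ} [hp : Fact p.Prime] (α : MulAut G)
    (hα : α ^ p = 1) (V R : Subgroup G) [V.Normal] (hfpf : ∀ g ∈ R, α g = g → g = 1)
    (hnormV : ∀ v ∈ V, ((List.range p).map fun i : ℕ => (α ^ i) v).prod = 1)
    (hVc : IsMulCommutative V) (hV : ∀ v ∈ V, α v ∈ V) (hR : ∀ r ∈ R, α r ∈ R)
    (hcop : (Nat.card R).Coprime (Nat.card V)) : ∀ r ∈ R, ∀ v ∈ V, Commute r v := by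
  classical
  letI : CommGroup V :=
    { (inferInstance : Group V) with mul_comm := fun a b => hVc.is_comm.comm a b }
  haveI : Fintype R := Fintype.ofFinite R
  have hpowV : ∀ i : ℕ, ∀ v ∈ V, (α ^ i) v ∈ V := by
    intro i
    induction i with
    | zero => intro v hv; exact hv
    | succ i ih => intro v hv; rw [pow_succ', MulAut.mul_apply]; exact hV _ (ih v hv)
  have hpowR : ∀ i : ℕ, ∀ r ∈ R, (α ^ i) r ∈ R := by
    intro i
    induction i with
    | zero => intro v hv; exact hv
    | succ i ih => intro v hv; rw [pow_succ', MulAut.mul_apply]; exact hR _ (ih v hv)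
  -- conjugation as an endomorphism of V
  let c : G → (V →* V) := fun y =>
    { toFun := fun v => ⟨y * v * y⁻¹, (inferInstance : V.Normal).conj_mem v v.2 y⟩
      map_one' := Subtype.ext (by simp)
      map_mul' := fun a b => Subtype.ext (by simp [mul_assoc]) }
  have hc : ∀ y z : G, ∀ v, c y (c z v) = c (y * z) v := fun y z v =>
    Subtype.ext (by simp [c, mul_assoc])
  have hc1 : ∀ v, c 1 v = v := fun v => Subtype.ext (by simp [c])
  let a : ℕ → (V →* V) := fun i =>
    { toFun := fun v => ⟨(α ^ i) v, hpowV i v v.2⟩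
      map_one' := Subtype.ext (map_one _)
      map_mul' := fun x y => Subtype.ext (map_mul _ _ _) }
  have ha0 : ∀ v, a 0 v = v := fun v => rfl
  have haadd : ∀ i v, a 1 (a i v) = a (i + 1) v := fun i v => Subtype.ext (by
    show (α ^ 1) ((α ^ i) v) = (α ^ (i + 1)) v
    rw [← MulAut.mul_apply, ← pow_add, add_comm])
  have hnorm : ∀ w : V, ∏ i ∈ Finset.range p, a i w = 1 := by
    intro w
    apply Subtype.ext
    have h1 : ∀ k : ℕ, ((∏ i ∈ Finset.range k, a i w : V) : G) =
        ((List.range k).map fun i : ℕ => (α ^ i) (w : G)).prod := by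
      intro k
      induction k with
      | zero => rfl
      | succ k ihk =>
        rw [Finset.prod_range_succ, List.range_succ, List.map_append, List.prod_append, coe_mul, ihk]
        simp
        rfl
    rw [h1 p]
    exact hnormV w w.2
  -- the R-average
  let P : V →* V :=
    { toFun := fun v => ∏ y : R, c y v
      map_one' := by simp
      map_mul' := fun u v => by simp [Finset.prod_mul_distrib] }
  have hfixP : ∀ (r : R) (v : V), c r (P v) = P v := by
    intro r v
    show c r (∏ y : R, c y v) = ∏ y : R, c y v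
    rw [map_prod]
    simp only [hc]
    exact Equiv.prod_comp (Equiv.mulLeft r) fun y : R => c y v
  have hkey : ∀ v : V, v ^ Nat.card R = P v := by
    intro v
    have h1 : ∏ y : R, c y (∏ i ∈ Finset.range p, a i (c (y : G)⁻¹ v)) = 1 := by
      simp only [hnorm, map_one, Finset.prod_const_one]
    simp only [map_prod] at h1
    rw [Finset.prod_comm, ← Finset.mul_prod_erase _ _ (Finset.mem_range.2 hp.out.pos)] at h1
    have e0 : ∏ y : R, c y (a 0 (c (y : G)⁻¹ v)) = v ^ Nat.card R := by
      simp only [ha0, hc, mul_inv_cancel, hc1]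
      rw [Finset.prod_const, Finset.card_univ, Nat.card_eq_fintype_card]
    have e1 : ∀ i ∈ (Finset.range p).erase 0,
        ∏ y : R, c y (a i (c (y : G)⁻¹ v)) = P (a i v) := by
      intro i hi
      have hi0 : i ≠ 0 := Finset.ne_of_mem_erase hi
      have hip : i < p := Finset.mem_range.1 (Finset.mem_of_mem_erase hi)
      let e : R → R := fun y => y * ⟨((α ^ i) y)⁻¹, inv_mem (hpowR i y y.2)⟩
      have he : Function.Injective e := by
        intro y z h
        have h' : (y : G) * ((α ^ i) y)⁻¹ = z * ((α ^ i) z)⁻¹ := congrArg Subtype.val h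
        have hfix : (α ^ i) ((z : G)⁻¹ * y) = (z : G)⁻¹ * y := by
          rw [map_mul, map_inv]
          calc ((α ^ i) z)⁻¹ * (α ^ i) y =
              (z : G)⁻¹ * (z * ((α ^ i) z)⁻¹) * (α ^ i) y := by group
            _ = _ := by rw [← h']; group
        have h1 : ∀ k : ℕ, ((α ^ i) ^ k) ((z : G)⁻¹ * y) = (z : G)⁻¹ * y := by
          intro k
          induction k with
          | zero => rfl
          | succ k ih => rw [pow_succ', MulAut.mul_apply, ih, hfix]
        obtain ⟨k, -, hk⟩ := Nat.exists_mul_mod_eq_one_of_coprime (n := i) (k := p)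
          ((hp.out.coprime_iff_not_dvd.2 fun h => absurd (Nat.le_of_dvd (Nat.pos_of_ne_zero hi0) h)
            (Nat.not_le.2 hip)).symm) hp.out.one_lt
        have h2 := h1 k
        rw [← pow_mul, ← pow_mod_orderOf] at h2
        have h3 : (α ^ 1) ((z : G)⁻¹ * y) = (z : G)⁻¹ * y := by
          have hd : α ^ (i * k) = α ^ 1 := by
            rw [← Nat.mod_add_div (i * k) p, hk, pow_add, pow_mul α p, hα, one_pow, mul_one]
          rw [pow_mod_orderOf, hd] at h2
          exact h2
        rw [pow_one] at h3
        exact Subtype.ext (inv_mul_eq_one.1 (hfpf _ (mul_mem (inv_mem z.2) y.2) h3)).symm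
      have e2 : ∀ y : R, c y (a i (c (y : G)⁻¹ v)) = c (e y : G) (a i v) := by
        intro y
        apply Subtype.ext
        show (y : G) * (α ^ i) ((y : G)⁻¹ * v * ((y : G)⁻¹)⁻¹) * (y : G)⁻¹ =
          (y : G) * ((α ^ i) y)⁻¹ * (α ^ i) v * ((y : G) * ((α ^ i) y)⁻¹)⁻¹
        rw [map_mul, map_mul, map_inv, map_inv, map_inv]; group
      simp only [e2]
      exact Equiv.prod_comp (Equiv.ofBijective e ((Finite.injective_iff_bijective).1 he))
        fun y : R => c y (a i v)
    rw [e0, Finset.prod_congr rfl e1, ← map_prod] at h1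
    have e3 : ∏ i ∈ (Finset.range p).erase 0, a i v = v⁻¹ := by
      have := hnorm v
      rw [← Finset.mul_prod_erase _ _ (Finset.mem_range.2 hp.out.pos), ha0] at this
      exact eq_inv_of_mul_eq_one_right this
    rw [e3, map_inv] at h1
    exact mul_inv_eq_one.1 h1
  intro r hr v hv
  obtain ⟨k, hk⟩ := exists_pow_eq_self_of_coprime (n := Nat.card R) (x := (⟨v, hv⟩ : V))
    (hcop.coprime_dvd_right (orderOf_dvd_natCard _))
  have hfix : c r (⟨v, hv⟩ : V) = ⟨v, hv⟩ := by
    rw [← hk, map_pow, hkey, hfixP ⟨r, hr⟩]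
  have : r * v * r⁻¹ = v := congrArg Subtype.val hfix
  exact mul_inv_eq_iff_eq_mul.1 this

/-- The fixed-point-free case of `commute_of_norm`. -/
theorem commute_of_fpf {G : Type*} [Group G] [Finite G] {p : ℕ} [hp : Fact p.Prime] (α : MulAut G)
    (hα : α ^ p = 1) (hfpf : ∀ g, α g = g → g = 1) (V R : Subgroup G) [V.Normal]
    (hVc : IsMulCommutative V) (hV : ∀ v ∈ V, α v ∈ V) (hR : ∀ r ∈ R, α r ∈ R)
    (hcop : (Nat.card R).Coprime (Nat.card V)) : ∀ r ∈ R, ∀ v ∈ V, Commute r v := by
  have hff : MonoidHom.FixedPointFree (α : G →* G) := hfpf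
  refine commute_of_norm α hα V R (fun g _ => hfpf g) (fun v _ => ?_) hVc hV hR hcop
  obtain ⟨y, hy⟩ := hff.commutatorMap_surjective v
  rw [MonoidHom.commutatorMap_apply] at hy
  have key : ∀ k : ℕ, ((List.range k).map fun i : ℕ => (α ^ i) v).prod = y * ((α ^ k) y)⁻¹ := by
    intro k
    induction k with
    | zero => simp
    | succ k ihk =>
      rw [List.range_succ, List.map_append, List.prod_append, ihk]
      simp only [List.map_cons, List.map_nil, List.prod_cons, List.prod_nil, mul_one]
      rw [← hy, map_div, div_eq_mul_inv, show (α : G →* G) y = α y from rfl, ← MulAut.mul_apply,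
        ← pow_succ]
      group
  rw [key, hα]
  exact mul_inv_cancel y

/-- A nilpotent finite group has a normal p-complement. -/
theorem hasNormalPComplement_of_isNilpotent {p : ℕ} [Fact p.Prime] {G : Type u} [Group G] [Finite G]
    [Group.IsNilpotent G] : Cfsg.HasNormalPComplement p G := by
  obtain ⟨P⟩ := (inferInstance : Nonempty (Sylow p G))
  refine Transfer.hasNormalPComplement_of_centralizer P fun Q hQ g _ hg => ?_
  refine mem_centralizer_iff.2 fun x hx => ?_
  obtain ⟨k, hk⟩ := P.2 ⟨x, hQ hx⟩
  exact (Subnormal.commute_of_coprime (congrArg Subtype.val hk) hg).eq.symm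

/-- An invariant Sylow subgroup under a fixed-point-free automorphism. -/
theorem exists_invariant_sylow_of_fpf {G : Type u} [Group G] [Finite G] (α : MulAut G)
    (hfpf : ∀ g, α g = g → g = 1) (q : ℕ) [Fact q.Prime] :
    ∃ Q : Sylow q G, (Q : Subgroup G).map α.toMonoidHom = Q := by
  obtain ⟨Q⟩ := (inferInstance : Nonempty (Sylow q G))
  obtain ⟨g, hg⟩ := MulAction.exists_smul_eq G Q (Q.mapSurjective (f := α.toMonoidHom) α.surjective)
  have hff : MonoidHom.FixedPointFree (α : G →* G) := hfpf
  obtain ⟨y, hy⟩ := hff.commutatorMap_surjective (1 * g⁻¹)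
  rw [MonoidHom.commutatorMap_apply, one_mul] at hy
  -- g = α y / y
  have hyg : g = α y / y := by
    rw [← inv_inv g, ← hy, inv_div]; rfl
  refine ⟨y⁻¹ • Q, ?_⟩
  have hco : ((y⁻¹ • Q : Sylow q G) : Subgroup G) = (Q : Subgroup G).map (MulAut.conj y⁻¹).toMonoidHom := by
    rw [Sylow.coe_subgroup_smul]; rfl
  have hgQ : (Q : Subgroup G).map α.toMonoidHom = (Q : Subgroup G).map (MulAut.conj g).toMonoidHom := by
    rw [← Sylow.coe_mapSurjective (f := α.toMonoidHom) α.surjective Q, ← hg, Sylow.coe_subgroup_smul]; rfl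
  rw [hco, Subgroup.map_map]
  have e : α.toMonoidHom.comp (MulAut.conj y⁻¹).toMonoidHom =
      (MulAut.conj (α y)⁻¹).toMonoidHom.comp α.toMonoidHom := by
    ext x; simp [mul_assoc]
  rw [e, ← Subgroup.map_map, hgQ, Subgroup.map_map]
  congr 1
  ext x
  simp [hyg, div_eq_mul_inv, mul_assoc]

/-- The automorphism induced on an invariant subgroup. -/
theorem isNilpotent_of_fpf {p : ℕ} [hp : Fact p.Prime] :
    ∀ (G : Type u) [Group G] [Finite G] (α : MulAut G), α ^ p = 1 → (∀ g, α g = g → g = 1) →
      Group.IsNilpotent G := by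
  suffices H : ∀ (n : ℕ) (G : Type u) [Group G] [Finite G], Nat.card G ≤ n → ∀ α : MulAut G,
      α ^ p = 1 → (∀ g, α g = g → g = 1) → Group.IsNilpotent G from
    fun G _ _ => H _ G le_rfl
  intro n
  induction n with
  | zero => intro G _ _ h; exact absurd h (Nat.not_le.2 Nat.card_pos)
  | succ n ih =>
  intro G _ _ hn α hα hfpf
  have hpowmap : ∀ (H : Subgroup G), H.map α.toMonoidHom = H → ∀ x ∈ H, α x ∈ H :=
    fun H hH x hx => hH ▸ ⟨x, hx, rfl⟩
  -- proper invariant subgroups are nilpotent
  have hsubN : ∀ H : Subgroup G, H.map α.toMonoidHom = H → H ≠ ⊤ → Group.IsNilpotent H := by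
    intro H hH hne
    let β : MulAut H := (α.subgroupMap H).trans (MulEquiv.subgroupCongr hH)
    have hβ : ∀ x : H, ((β x : H) : G) = α x := fun x => rfl
    have hβk : ∀ k : ℕ, ∀ x : H, (((β ^ k) x : H) : G) = (α ^ k) x := by
      intro k
      induction k with
      | zero => intro x; rfl
      | succ k ihk => intro x; rw [pow_succ', MulAut.mul_apply, hβ, ihk, pow_succ', MulAut.mul_apply]
    refine ih H ?_ β (MulEquiv.ext fun x => Subtype.ext ?_) fun x hx => Subtype.ext ?_
    · have : Nat.card H < Nat.card G := by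
        by_contra hh
        exact hne (eq_top_of_card_eq H (le_antisymm (Nat.le_of_dvd Nat.card_pos H.card_subgroup_dvd_card) (not_lt.1 hh)))
      omega
    · rw [hβk, hα]; rfl
    · exact hfpf _ (by rw [← hβ, hx])
  -- quotients by nontrivial invariant normal subgroups are nilpotent
  have hquotN : ∀ (N : Subgroup G) [N.Normal], N.map α.toMonoidHom = N → N ≠ ⊥ →
      Group.IsNilpotent (G ⧸ N) := by
    intro N _ hN hne
    let β : MulAut (G ⧸ N) := QuotientGroup.congr N N α hN
    have hβ : ∀ x : G, β (x : G ⧸ N) = ((α x : G) : G ⧸ N) := fun x => rfl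
    have hβk : ∀ k : ℕ, ∀ x : G, (β ^ k) (x : G ⧸ N) = (((α ^ k) x : G) : G ⧸ N) := by
      intro k
      induction k with
      | zero => intro x; rfl
      | succ k ihk => intro x; rw [pow_succ', MulAut.mul_apply, ihk, hβ, pow_succ', MulAut.mul_apply]
    refine ih (G ⧸ N) ?_ β ?_ ?_
    · have h1 := N.card_mul_index
      have h2 : 1 < Nat.card N := (one_lt_card_iff_ne_bot N).2 hne
      have h3 : 0 < N.index := Nat.pos_of_ne_zero index_ne_zero_of_finite
      have h4 : N.index < Nat.card N * N.index := lt_mul_of_one_lt_left h3 h2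
      change N.index ≤ n
      omega
    · ext x
      induction x using QuotientGroup.induction_on with | _ g =>
      rw [hβk, hα]; rfl
    · intro x hx
      induction x using QuotientGroup.induction_on with | _ g =>
      rw [hβ, QuotientGroup.eq] at hx
      -- write the defect inside N as a commutator
      have hinj : Function.Injective fun m : N =>
          (⟨(m : G)⁻¹ * α m, mul_mem (inv_mem m.2) (hpowmap N hN _ m.2)⟩ : N) := by
        intro m m' h
        have h' : (m : G)⁻¹ * α m = (m' : G)⁻¹ * α m' := congrArg Subtype.val h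
        have hfix : α ((m' : G) * (m : G)⁻¹) = (m' : G) * (m : G)⁻¹ := by
          rw [map_mul, map_inv]
          calc α m' * (α m)⁻¹ = (m' : G) * ((m' : G)⁻¹ * α m') * (α m)⁻¹ := by group
            _ = _ := by rw [← h']; group
        exact Subtype.ext (mul_inv_eq_one.1 (hfpf _ hfix)).symm
      have hx' : g⁻¹ * α g ∈ N := by
        have := inv_mem hx
        rwa [mul_inv_rev, inv_inv] at this
      obtain ⟨m, hm⟩ := (Finite.injective_iff_surjective.1 hinj) ⟨g⁻¹ * α g, hx'⟩
      have hm' : (m : G)⁻¹ * α m = g⁻¹ * α g := congrArg Subtype.val hm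
      have hfix : α (g * (m : G)⁻¹) = g * (m : G)⁻¹ := by
        rw [map_mul, map_inv]
        calc α g * (α m)⁻¹ = g * (g⁻¹ * α g) * (α m)⁻¹ := by group
          _ = _ := by rw [← hm']; group
      rw [QuotientGroup.eq_one_iff, mul_inv_eq_one.1 (hfpf _ hfix)]
      exact m.2
  -- invariant characteristic subgroups
  have hchar : ∀ N : Subgroup G, N.Characteristic → N.map α.toMonoidHom = N := fun N hN =>
    characteristic_iff_map_eq.1 hN α
  -- a nontrivial invariant normal q-subgroup
  suffices hex : Nat.card G = 1 ∨ Group.IsNilpotent G ∨ ∃ (q : ℕ) (U : Subgroup G), q.Prime ∧ U.Normal ∧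
      U.map α.toMonoidHom = U ∧ U ≠ ⊥ ∧ IsPGroup q U by
    rcases hex with h1 | hnil | ⟨q, U, hq, hUn, hU, hUne, hUq⟩
    · haveI := (Nat.card_eq_one_iff_unique.1 h1).1
      infer_instance
    · exact hnil
    haveI := hUn
    haveI := Fact.mk hq
    haveI := hquotN U hU hUne
    let π := QuotientGroup.mk' U
    refine (Group.isNilpotent_of_finite_tfae (G := G)).out 3 0 rfl rfl |>.1 fun r hr R => ?_
    haveI := hr
    have hRn : ((R : Subgroup G).map π).Normal := by
      have h : ((R.mapSurjective (QuotientGroup.mk'_surjective U) : Sylow r (G ⧸ U)) : Subgroup (G ⧸ U)).Normal :=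
        inferInstance
      exact h
    haveI hRU : ((R : Subgroup G) ⊔ U).Normal := by
      have := hRn.comap π
      rwa [comap_map_eq, QuotientGroup.ker_mk'] at this
    by_cases hrq : r = q
    · subst hrq
      have : U ≤ (R : Subgroup G) := (PCore.le_pCore hUq).trans (PCore.pCore_le_sylow R)
      rwa [sup_eq_left.2 this] at hRU
    have hUR : (R : Subgroup G) ⊔ U ≠ ⊤ → (R : Subgroup G).Normal := by
      intro hne
      -- it suffices to treat an invariant Sylow subgroup
      obtain ⟨R₀, hR₀⟩ := exists_invariant_sylow_of_fpf α hfpf r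
      obtain ⟨g, hg⟩ := MulAction.exists_smul_eq G R₀ R
      have hsame : (R₀ : Subgroup G) ⊔ U = (R : Subgroup G) ⊔ U := by
        have h1 : ((R : Subgroup G) ⊔ U).map (MulAut.conj g⁻¹).toMonoidHom = (R : Subgroup G) ⊔ U :=
          mem_normalizer_iff_map_conj_eq.1 ((normalizer_eq_top_iff.2 hRU).symm ▸ mem_top g⁻¹)
        have h2 : U.map (MulAut.conj g⁻¹).toMonoidHom = U :=
          mem_normalizer_iff_map_conj_eq.1 ((normalizer_eq_top_iff.2 hUn).symm ▸ mem_top g⁻¹)
        rw [← h1, Subgroup.map_sup, h2, ← hg, Sylow.coe_subgroup_smul]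
        congr 1
        ext x
        simp [Subgroup.mem_pointwise_smul_iff_inv_smul_mem, mul_assoc]
        exact ⟨fun h => ⟨g * x * g⁻¹, by simpa [mul_assoc] using h, by group⟩,
          fun ⟨y, hy, hyx⟩ => by rw [← hyx]; simpa [mul_assoc] using hy⟩
      have hL : ((R : Subgroup G) ⊔ U).map α.toMonoidHom = (R : Subgroup G) ⊔ U := by
        rw [← hsame, Subgroup.map_sup, hR₀, hU]
      haveI := hsubN _ hL hne
      haveI hLR : ((R : Subgroup G).subgroupOf ((R : Subgroup G) ⊔ U)).Normal :=
        (inferInstance : ((R.subtype (le_sup_left : (R : Subgroup G) ≤ (R : Subgroup G) ⊔ U)) :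
          Subgroup ↥((R : Subgroup G) ⊔ U)).Normal)
      haveI hRc := (R.subtype (le_sup_left : (R : Subgroup G) ≤ (R : Subgroup G) ⊔ U)).characteristic_of_normal
        (by rw [Sylow.coe_subtype]; exact hLR)
      rw [Sylow.coe_subtype] at hRc
      have := ConjAct.normal_of_characteristic_of_normal (H := (R : Subgroup G) ⊔ U)
        (K := (R : Subgroup G).subgroupOf ((R : Subgroup G) ⊔ U))
      rwa [map_subgroupOf_eq_of_le le_sup_left] at this
    by_cases htop : (R : Subgroup G) ⊔ U = ⊤
    swap
    · exact hUR htop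
    -- G = R U : show that R centralises U for an invariant R
    obtain ⟨R₀, hR₀⟩ := exists_invariant_sylow_of_fpf α hfpf r
    have hcopU : (Nat.card (R₀ : Subgroup G)).Coprime (Nat.card U) := by
      obtain ⟨i, hi⟩ := R₀.2.exists_card_eq
      obtain ⟨j, hj⟩ := hUq.exists_card_eq
      rw [hi, hj]
      exact ((Nat.coprime_primes hr.out hq).2 hrq).pow i j
    set Z := zOf U
    haveI : Z.Normal := zOf_normal
    have hZα : Z.map α.toMonoidHom = Z := by rw [zOf_map _ α.injective, hU]
    have hcomm : ∀ x ∈ (R₀ : Subgroup G), ∀ v ∈ Z, Commute x v :=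
      commute_of_fpf α hα hfpf Z (R₀ : Subgroup G) (isMulCommutative_zOf U) (hpowmap Z hZα)
        (hpowmap _ hR₀) (hcopU.coprime_dvd_right (card_dvd_of_le inf_le_left))
    haveI := hquotN Z hZα (zOf_ne_bot hUq hUne)
    have hcent : ∀ x ∈ (R₀ : Subgroup G), ∀ u ∈ U, Commute x u := by
      intro x hx u hu
      obtain ⟨i, hi⟩ := R₀.2 ⟨x, hx⟩
      have hxo : (orderOf x).Coprime q :=
        (((Nat.coprime_primes hr.out hq).2 hrq).pow_left i).coprime_dvd_left
          (orderOf_dvd_of_pow_eq_one (congrArg Subtype.val hi))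
      obtain ⟨j, hj⟩ := hUq ⟨u, hu⟩
      have hj' : u ^ q ^ j = 1 := congrArg Subtype.val hj
      have h1 : Commute (x : G ⧸ Z) (u : G ⧸ Z) :=
        Subnormal.commute_of_coprime (p := q) (k := j)
          (by rw [← QuotientGroup.mk_pow, hj']; rfl)
          (hxo.coprime_dvd_left (orderOf_map_dvd (QuotientGroup.mk' Z) x))
      have hz : ⁅x, u⁆ ∈ Z := by
        refine (QuotientGroup.eq_one_iff _).1 ?_
        show QuotientGroup.mk' Z ⁅x, u⁆ = 1
        rw [map_commutatorElement]
        exact commutatorElement_eq_one_iff_commute.2 h1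
      have hzx : Commute x ⁅x, u⁆ := hcomm x hx _ hz
      have hpow : ∀ k : ℕ, x ^ k * u * (x ^ k)⁻¹ = ⁅x, u⁆ ^ k * u := by
        intro k
        induction k with
        | zero => simp
        | succ k ihk =>
          calc x ^ (k + 1) * u * (x ^ (k + 1))⁻¹ = x * (x ^ k * u * (x ^ k)⁻¹) * x⁻¹ := by
                rw [pow_succ', mul_inv_rev]; simp only [mul_assoc]
            _ = x * ⁅x, u⁆ ^ k * u * x⁻¹ := by rw [ihk]; simp only [mul_assoc]
            _ = ⁅x, u⁆ ^ k * (⁅x, u⁆ * u) := by
                rw [(hzx.pow_right k).eq, commutatorElement_def]; group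
            _ = _ := by rw [pow_succ, mul_assoc]
      have hz1 : ⁅x, u⁆ ^ orderOf x = 1 := by
        have := hpow (orderOf x)
        rw [pow_orderOf_eq_one, inv_one, mul_one, one_mul, right_eq_mul] at this
        exact this
      obtain ⟨l, hl⟩ := hUq ⟨⁅x, u⁆, hz.1⟩
      exact commutatorElement_eq_one_iff_commute.1 (orderOf_eq_one_iff.1 (Nat.eq_one_of_dvd_coprimes
        (hxo.pow_right l) (orderOf_dvd_of_pow_eq_one hz1) (orderOf_dvd_of_pow_eq_one (congrArg Subtype.val hl))))
    obtain ⟨g, hg⟩ := MulAction.exists_smul_eq G R₀ R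
    have hR₀n : (R₀ : Subgroup G).Normal := by
      rw [← normalizer_eq_top_iff, eq_top_iff, ← htop]
      refine sup_le ?_ fun u hu => centralizer_le_normalizer _
        (mem_centralizer_iff.2 fun x hx => (hcent x hx u hu).eq)
      -- R = g R₀ g⁻¹ and g ∈ R ⊔ U
      have h0 : (R₀ : Subgroup G) ⊔ U = ⊤ := by
        have h2 : U.map (MulAut.conj g⁻¹).toMonoidHom = U :=
          mem_normalizer_iff_map_conj_eq.1 ((normalizer_eq_top_iff.2 hUn).symm ▸ mem_top g⁻¹)
        have h3 := congrArg (Subgroup.map (MulAut.conj g⁻¹).toMonoidHom) htop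
        rw [Subgroup.map_sup, map_top_of_surjective _ (MulAut.conj g⁻¹).surjective, h2] at h3
        rw [← h3]
        congr 1
        rw [← hg, Sylow.coe_subgroup_smul]
        ext x
        simp [Subgroup.mem_pointwise_smul_iff_inv_smul_mem, mul_assoc]
        exact ⟨fun h => ⟨g * x * g⁻¹, by simpa [mul_assoc] using h, by group⟩,
          fun ⟨y, hy, hyx⟩ => by rw [← hyx]; simpa [mul_assoc] using hy⟩
      calc (R : Subgroup G) ≤ ⊤ := le_top
        _ = (R₀ : Subgroup G) ⊔ U := h0.symm
        _ ≤ _ := sup_le le_normalizer fun u hu => centralizer_le_normalizer _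
            (mem_centralizer_iff.2 fun x hx => (hcent x hx u hu).eq)
    haveI := hR₀n
    have : (R : Subgroup G) = (R₀ : Subgroup G) := by
      haveI := Sylow.unique_of_normal R₀ hR₀n
      rw [Subsingleton.elim R R₀]
    rwa [this]
  by_cases hall : ∀ q : ℕ, q.Prime → q ≠ 2 → Cfsg.HasNormalPComplement q G
  · by_cases h2 : ∀ q : ℕ, q.Prime → q ∣ Nat.card G → q = 2
    · right; left
      by_cases h1 : Nat.card G = 1
      · haveI := (Nat.card_eq_one_iff_unique.1 h1).1; infer_instance
      haveI : Fact (Nat.Prime 2) := ⟨Nat.prime_two⟩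
      refine (IsPGroup.of_card (p := 2) (n := (Nat.card G).factorization 2) ?_).isNilpotent
      conv_lhs => rw [← Nat.prod_factorization_pow_eq_self (Nat.card_pos (α := G)).ne']
      rw [Finsupp.prod]
      have hsupp : (Nat.card G).factorization.support = {2} := by
        ext q
        simp only [Nat.support_factorization, Finset.mem_singleton, Nat.mem_primeFactors]
        refine ⟨fun h => h2 q h.1 h.2.1, fun h => ?_⟩
        obtain ⟨r, hr, hrd⟩ := Nat.exists_prime_and_dvd h1
        subst h
        exact ⟨Nat.prime_two, h2 r hr hrd ▸ hrd, Nat.card_pos.ne'⟩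
      rw [hsupp, Finset.prod_singleton]
    push Not at h2
    obtain ⟨q, hq, hqd, hq2⟩ := h2
    haveI := Fact.mk hq
    have hN := hall q hq hq2
    set K := Cfsg.pResidual q G with hKdef
    have hKchar : K.Characteristic := Transfer.pResidual_characteristic q
    by_cases hKbot : K = ⊥
    · right; left
      have : IsPGroup q G := by
        intro g
        have hh := Transfer.isPGroup_quotient_pResidual (G := G) q
        obtain ⟨k, hk⟩ := hh (g : G ⧸ Cfsg.pResidual q G)
        rw [← QuotientGroup.mk_pow, QuotientGroup.eq_one_iff, ← hKdef, hKbot, mem_bot] at hk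
        exact ⟨k, hk⟩
      exact this.isNilpotent
    have hKne : K ≠ ⊤ := by
      intro h
      obtain ⟨x, hx⟩ := exists_prime_orderOf_dvd_card' q hqd
      have := (Transfer.mem_pResidual_iff hN x).1 (by rw [← hKdef, h]; exact mem_top x)
      rw [hx, Nat.coprime_self] at this
      exact hq.one_lt.ne' this
    haveI := hsubN K (hchar K hKchar) hKne
    obtain ⟨r, hr, hrd⟩ := Nat.exists_prime_and_dvd
      (fun h => hKbot (card_eq_one.1 h) : Nat.card K ≠ 1)
    haveI := Fact.mk hr
    obtain ⟨S⟩ := (inferInstance : Nonempty (Sylow r K))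
    haveI hSchar : (S : Subgroup K).Characteristic := S.characteristic_of_normal inferInstance
    right; right
    refine ⟨r, (S : Subgroup K).map K.subtype, hr, ?_, ?_, ?_, S.2.map _⟩
    · haveI : K.Normal := by haveI := hKchar; infer_instance
      exact ConjAct.normal_of_characteristic_of_normal
    · have hK := hchar K hKchar
      let e : MulAut K := (α.subgroupMap K).trans (MulEquiv.subgroupCongr hK)
      conv_rhs => rw [← characteristic_iff_map_eq.1 hSchar e]
      rw [Subgroup.map_map, Subgroup.map_map]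
      rfl
    · rw [Ne, Subgroup.map_eq_bot_iff_of_injective _ Subtype.coe_injective]
      intro h
      have := S.card_eq_multiplicity
      rw [h, card_bot] at this
      exact (Nat.one_lt_pow ((hr.dvd_iff_one_le_factorization Nat.card_pos.ne').1 hrd |>
        Nat.one_le_iff_ne_zero.1) hr.one_lt).ne this
  · push Not at hall
    obtain ⟨q, hq, hq2, hbad⟩ := hall
    haveI := Fact.mk hq
    obtain ⟨Q, hQ⟩ := exists_invariant_sylow_of_fpf α hfpf q
    set X := Cfsg.centerThompsonOf q (Q : Subgroup G)
    have hX : X.map α.toMonoidHom = X := by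
      simp only [X, ← wOf_zj]
      rw [wOf_map isCharPFunctor_zj α.toMonoidHom _ Q.2 (fun x _ hx => α.injective (hx.trans (map_one α).symm)), hQ]
    have hQne : (Q : Subgroup G) ≠ ⊥ := by
      intro h
      apply hbad
      refine Transfer.hasNormalPComplement_of_not_dvd fun hd => ?_
      have := Q.card_eq_multiplicity
      rw [h, card_bot] at this
      exact (Nat.one_lt_pow ((hq.dvd_iff_one_le_factorization Nat.card_pos.ne').1 hd |>
        Nat.one_le_iff_ne_zero.1) hq.one_lt).ne this
    have hXne : X ≠ ⊥ := by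
      simp only [X, ← wOf_zj]
      exact wOf_ne_bot isCharPFunctor_zj Q.2 hQne
    right; right
    refine ⟨q, X, hq, ?_, hX, hXne, Q.2.to_le (inf_le_left.trans (PGroup.thompsonSubgroupOf_le _))⟩
    by_contra hXn
    have hNα : (normalizer (X : Set G)).map α.toMonoidHom = normalizer (X : Set G) := by
      have := map_equiv_normalizer_eq X α
      rw [this, hX]
    have hNne : normalizer (X : Set G) ≠ ⊤ := fun h => hXn (normalizer_eq_top_iff.1 h)
    haveI := hsubN _ hNα hNne
    exact hbad (zjComplement hq2 Q hasNormalPComplement_of_isNilpotent)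

end Cfsg.Agent.PComplement
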