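import Cfsg.Agent.Lib.PComplement.Reduction
import Cfsg.Agent.Lib.Coprime.Stabilize
import Cfsg.Agent.Lib.Transfer.OrbitSum
import Cfsg.Prelude.Def_LocalEven
import Cfsg.Prelude.Def_PLocal

/-!
# Groups with abelian p'-part modulo `O_p`

`PCommute p G`: commutators of p'-elements lie in `O_p(G)`.
* inherited by subgroups and quotients; `isNormalizerPStable_of_pCommute` (p odd);
* `commute_of_geom_sum_eq_zero`: the abelian Hall–Higman lemma in a ring;
* `Config.not_engel`: in the minimal configuration no element outside `O_p` acts on a p-chief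
  factor inside `O_p` nontrivially with `[X, g; p - 1] = 1`;
* `hasNormalPComplement_of_config`: the complement criterion through minimal configurations of sections.
-/

set_option linter.style.haveILetI false
set_option linter.unusedSectionVars false

namespace Cfsg.Agent.PComplement

open Subgroup
open scoped commutatorElement

/-- Commutators of p'-elements lie in `O_p`. -/
def PCommute (p : ℕ) (G : Type*) [Group G] : Prop :=
  ∀ x y : G, (orderOf x).Coprime p → (orderOf y).Coprime p → ⁅x, y⁆ ∈ Cfsg.pCore p G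

variable {G : Type*} [Group G] {p : ℕ}

theorem PCommute.subgroup [Finite G] (h : PCommute p G) (K : Subgroup G) : PCommute p K :=
  fun x y hx hy => PCore.pCore_subgroupOf_le K (mem_subgroupOf.2
    (h x y (by rwa [orderOf_coe]) (by rwa [orderOf_coe])))

variable [Fact p.Prime]

/-- p'-elements lift to p'-elements. -/
theorem exists_coprime_lift [Finite G] {H : Type*} [Group H] (f : G →* H) (hf : Function.Surjective f)
    {y : H} (hy : (orderOf y).Coprime p) : ∃ x, (orderOf x).Coprime p ∧ f x = y := by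
  obtain ⟨x₀, rfl⟩ := hf y
  obtain ⟨k, m, hm, hkm⟩ := Nat.exists_eq_pow_mul_and_not_dvd (orderOf_pos x₀).ne' p
    (Fact.out : p.Prime).ne_one
  have hmc : m.Coprime p := ((Fact.out : p.Prime).coprime_iff_not_dvd.2 hm).symm
  obtain ⟨j, hj⟩ := exists_pow_eq_self_of_coprime (x := f x₀) (n := p ^ k) ((hy.pow_right k).symm)
  refine ⟨(x₀ ^ p ^ k) ^ j, ?_, by rw [map_pow, map_pow, hj]⟩
  refine hmc.coprime_dvd_left (orderOf_dvd_of_pow_eq_one ?_)
  rw [← pow_mul, ← pow_mul]
  exact orderOf_dvd_iff_pow_eq_one.1 ⟨j, by rw [hkm]; ring⟩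

theorem PCommute.quotient [Finite G] (h : PCommute p G) {H : Type*} [Group H] (f : G →* H)
    (hf : Function.Surjective f) : PCommute p H := by
  intro x y hx hy
  obtain ⟨x', hx', rfl⟩ := exists_coprime_lift f hf hx
  obtain ⟨y', hy', rfl⟩ := exists_coprime_lift f hf hy
  rw [← map_commutatorElement]
  exact PCore.map_pCore_le f hf ⟨_, h x' y' hx' hy', rfl⟩

/-- `O_p` centralises the p-chief factors. -/
theorem layer_le [Finite G] {B B' : Subgroup G} [B.Normal] [B'.Normal] (hB : B ≤ Cfsg.pCore p G)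
    (hlt : B' < B) (hmax : ∀ N : Subgroup G, N.Normal → N < B → B' ≤ N → N ≤ B') :
    ⁅B, Cfsg.pCore p G⁆ ≤ B' := by
  set U := Cfsg.pCore p G with hU
  set π := QuotientGroup.mk' B' with hπ
  rcases (sup_le (commutator_le_left B U) hlt.le : ⁅B, U⁆ ⊔ B' ≤ B).lt_or_eq with hlt' | heq
  · exact le_sup_left.trans (hmax _ inferInstance hlt' le_sup_right)
  · exfalso
    have hbar : B.map π = ⁅B.map π, U.map π⁆ := by
      conv_lhs => rw [← heq]
      rw [Subgroup.map_sup, Subgroup.map_commutator,
        show B'.map π = ⊥ from QuotientGroup.map_mk'_self B', sup_bot_eq]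
    have hser : ∀ i, B.map π ≤ Subgroup.lowerCentralSeries (U.map π) i := by
      intro i
      induction i with
      | zero => exact map_mono hB
      | succ i ihi => rw [hbar]; exact commutator_mono ihi le_rfl
    haveI : Group.IsNilpotent ↥(U.map π) := (PCore.isPGroup_pCore.map π).isNilpotent
    have := hser (Group.nilpotencyClass ↥(U.map π))
    rw [lowerCentralSeries_eq_bot_of_nilpotencyClass_le le_rfl, le_bot_iff, Subgroup.map_eq_bot_iff,
      QuotientGroup.ker_mk'] at this
    exact hlt.not_ge this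

/-- The conjugation map of `G` on a layer kills `O_p`, so p'-elements commute there. -/
theorem PCommute.commute_conjNormal [Finite G] (h : PCommute p G) {B B' : Subgroup G} [B'.Normal]
    [(B.map (QuotientGroup.mk' B')).Normal] (hlayer : ⁅B, Cfsg.pCore p G⁆ ≤ B') {k l : G}
    (hk : (orderOf k).Coprime p) (hl : (orderOf l).Coprime p) :
    Commute (MulAut.conjNormal (H := B.map (QuotientGroup.mk' B')) (QuotientGroup.mk' B' k))
      (MulAut.conjNormal (H := B.map (QuotientGroup.mk' B')) (QuotientGroup.mk' B' l)) := by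
  rw [← commutatorElement_eq_one_iff_commute, ← map_commutatorElement, ← map_commutatorElement]
  apply MulEquiv.ext
  rintro ⟨_, x, hx, rfl⟩
  apply Subtype.ext
  rw [MulAut.conjNormal_apply]
  show QuotientGroup.mk' B' ⁅k, l⁆ * QuotientGroup.mk' B' x * (QuotientGroup.mk' B' ⁅k, l⁆)⁻¹ =
    QuotientGroup.mk' B' x
  have hxu : QuotientGroup.mk' B' ⁅x, ⁅k, l⁆⁆ = 1 :=
    (QuotientGroup.eq_one_iff _).2 (hlayer (commutator_mem_commutator hx (h k l hk hl)))
  rw [map_commutatorElement, commutatorElement_eq_one_iff_mul_comm] at hxu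
  rw [← hxu, mul_inv_cancel_right]

/-- A quadratic element is trivial, modulo the kernel of the action, on p'-elements: the normal
closure of the `⁅k, a⁆`, `k` of p'-order, has all its p'-elements centralising `B`. -/
theorem PCommute.commute_of_quadratic [Finite G] (h : PCommute p G) (hp : p ≠ 2) {a : G}
    (n : ℕ) : ∀ (B : Subgroup G), B.Normal → Nat.card B ≤ n → IsPGroup p B →
      (∀ b ∈ B, ⁅⁅b, a⁆, a⁆ = 1) →
      ∀ r ∈ normalClosure {c : G | ∃ k : G, (orderOf k).Coprime p ∧ c = ⁅k, a⁆},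
        (orderOf r).Coprime p → ∀ b ∈ B, Commute r b := by
  induction n with
  | zero => intro B _ hn; exact absurd hn (Nat.not_le.2 Nat.card_pos)
  | succ n ih =>
    intro B hBn hn hBp hqB r hr hrp
    by_cases hbot : B = ⊥
    · intro b hb
      rw [hbot, mem_bot] at hb
      rw [hb]
      exact Commute.one_right r
    obtain ⟨B', ⟨hB'n, hB'lt⟩, hmax⟩ :=
      (Set.toFinite {N : Subgroup G | N.Normal ∧ N < B}).exists_maximal
        ⟨⊥, inferInstance, bot_lt_iff_ne_bot.2 hbot⟩
    haveI := hBn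
    haveI := hB'n
    have hIH := ih B' hB'n (by
      have : Nat.card B' < Nat.card B := by
        by_contra hh
        exact hB'lt.ne (eq_of_le_of_card_ge hB'lt.le (not_lt.1 hh))
      omega) (hBp.to_le hB'lt.le) (fun b hb => hqB b (hB'lt.le hb)) r hr hrp
    have hBU : B ≤ Cfsg.pCore p G := PCore.le_pCore hBp
    have hlayer : ⁅B, Cfsg.pCore p G⁆ ≤ B' := layer_le hBU hB'lt fun N h1 h2 h3 => hmax ⟨h1, h2⟩ h3
    set π := QuotientGroup.mk' B' with hπ
    set V := B.map π with hV
    haveI : V.Normal := hBn.map π (QuotientGroup.mk'_surjective B')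
    letI : CommGroup V :=
      { (inferInstance : Group V) with
        mul_comm := by
          rintro ⟨_, x, hx, rfl⟩ ⟨_, y, hy, rfl⟩
          refine Subtype.ext (commutatorElement_eq_one_iff_mul_comm.1 ?_)
          rw [← map_commutatorElement]
          exact (QuotientGroup.eq_one_iff _).2 (hlayer (commutator_mem_commutator hx (hBU hy))) }
    let φ : G →* MulAut V := (MulAut.conjNormal (H := V)).comp π
    have hVp : IsPGroup p V := hBp.map π
    obtain ⟨e, he⟩ := hVp.exists_card_eq
    have hVodd : Odd (Nat.card V) := by rw [he]; exact ((Fact.out : p.Prime).odd_of_ne_two hp).pow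
    have hcomm : ∀ k : G, (orderOf k).Coprime p → Commute (φ a) (φ k) := by
      intro k hk
      have hconj : ∀ g : G, Commute (φ k) (φ g * φ k * (φ g)⁻¹) := by
        intro g
        rw [← map_inv, ← map_mul, ← map_mul]
        refine h.commute_conjNormal hlayer hk ?_
        rwa [show g * k * g⁻¹ = MulAut.conj g k from rfl, MulEquiv.orderOf_eq]
      refine PComplement.commute_of_quadratic hVodd ?_ ?_ (hconj a) ?_
      · rw [he]
        exact (hk.coprime_dvd_left (orderOf_map_dvd φ k)).pow_right e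
      · rintro ⟨_, x, hx, rfl⟩
        have hq1 : ⁅⁅a, x⁆, a⁆ = 1 := by
          rw [← commutatorElement_inv x a, commutatorElement_eq_one_iff_commute]
          exact (commutatorElement_eq_one_iff_commute.1 (hqB x hx)).inv_left
        have hfix : a * ⁅a, x⁆ * a⁻¹ = ⁅a, x⁆ := by
          rw [← (commutatorElement_eq_one_iff_commute.1 hq1).eq, mul_inv_cancel_right]
        apply Subtype.ext
        rw [div_eq_mul_inv]
        show π a * (π a * π x * (π a)⁻¹ * (π x)⁻¹) * (π a)⁻¹ = π a * π x * (π a)⁻¹ * (π x)⁻¹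
        have := congrArg π hfix
        simpa only [map_mul, map_inv, commutatorElement_def] using this
      · have := hconj a⁻¹
        rwa [map_inv, inv_inv] at this
    have hker : normalClosure {c : G | ∃ k : G, (orderOf k).Coprime p ∧ c = ⁅k, a⁆} ≤ φ.ker := by
      refine normalClosure_le_normal ?_
      rintro _ ⟨k, hk, rfl⟩
      rw [SetLike.mem_coe, MonoidHom.mem_ker, map_commutatorElement,
        commutatorElement_eq_one_iff_commute]
      exact (hcomm k hk).symm
    intro b hb
    have hz : ⁅r, b⁆ ∈ B' := by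
      refine (QuotientGroup.eq_one_iff _).1 (?_ : π ⁅r, b⁆ = 1)
      rw [map_commutatorElement, commutatorElement_eq_one_iff_mul_comm]
      have := congrArg Subtype.val (DFunLike.congr_fun (MonoidHom.mem_ker.1 (hker hr))
        (⟨π b, b, hb, rfl⟩ : V))
      exact mul_inv_eq_iff_eq_mul.1 this
    obtain ⟨j, hj⟩ := hBp ⟨⁅r, b⁆, hB'lt.le hz⟩
    refine Coprime.commute_of_translate (z := ⁅r, b⁆) ?_ (hIH _ hz) ((hrp.pow_right j).coprime_dvd_right
      (orderOf_dvd_of_pow_eq_one (congrArg Subtype.val hj)))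
    rw [commutatorElement_def, inv_mul_cancel_right]

/-- A quadratic element of order prime to `p` centralises the p-group it acts on. -/
theorem commute_of_coprime_quadratic {B : Subgroup G} (hB : IsPGroup p B) {c : G}
    (hBn : c ∈ normalizer (B : Set G)) (hq : ∀ b ∈ B, ⁅⁅b, c⁆, c⁆ = 1) (hc : (orderOf c).Coprime p)
    {b : G} (hb : b ∈ B) : Commute c b := by
  have hzB : ⁅c, b⁆ ∈ B := by
    rw [commutatorElement_def]
    exact mul_mem ((mem_normalizer_iff.1 hBn b).1 hb) (inv_mem hb)
  obtain ⟨j, hj⟩ := hB ⟨_, hzB⟩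
  refine Coprime.commute_of_translate (z := ⁅c, b⁆) (by rw [commutatorElement_def, inv_mul_cancel_right]) ?_
    ((hc.pow_right j).coprime_dvd_right (orderOf_dvd_of_pow_eq_one (congrArg Subtype.val hj)))
  rw [← commutatorElement_inv b c]
  exact (commutatorElement_eq_one_iff_commute.1 (hq b hb)).symm.inv_right

/-- In a `PCommute` group with trivial `O_p`, the centraliser of the p'-elements has no p-element. -/
theorem PCommute.eq_one_of_commute [Finite G] (h : PCommute p G) (hO : Cfsg.pCore p G = ⊥) {g : G}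
    {k : ℕ} (hgk : g ^ p ^ k = 1) (hg : ∀ x : G, (orderOf x).Coprime p → Commute g x) : g = 1 := by
  have hab : ∀ x y : G, (orderOf x).Coprime p → (orderOf y).Coprime p → Commute x y := fun x y hx hy =>
    commutatorElement_eq_one_iff_commute.1 (mem_bot.1 (hO ▸ h x y hx hy))
  let M : Subgroup G :=
    { carrier := {u | ∀ x : G, (orderOf x).Coprime p → Commute u x}
      one_mem' := fun x _ => Commute.one_left x
      mul_mem' := fun ha hb x hx => (ha x hx).mul_left (hb x hx)
      inv_mem' := fun ha x hx => (ha x hx).inv_left }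
  haveI hMn : M.Normal := ⟨fun u hu c x hx => by
    have h1 := hu (c⁻¹ * x * c) (by rwa [show c⁻¹ * x * c = MulAut.conj c⁻¹ x by simp, MulEquiv.orderOf_eq])
    have h2 := congrArg (fun z => c * z * c⁻¹) h1.eq
    show c * u * c⁻¹ * x = x * (c * u * c⁻¹)
    simpa [mul_assoc] using h2⟩
  -- p'-elements lie in the centre of `M`, so `M` is nilpotent
  have hZ : ∀ z : M, (orderOf z).Coprime p → z ∈ center M := fun z hz =>
    mem_center_iff.2 fun u => Subtype.ext (u.2 z (by rwa [orderOf_coe]))
  have hnil : Group.IsNilpotent M := by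
    have hq : IsPGroup p (M ⧸ center M) := fun q => by
      obtain ⟨u, rfl⟩ := QuotientGroup.mk'_surjective _ q
      obtain ⟨i, m, hm, him⟩ := Nat.exists_eq_pow_mul_and_not_dvd (orderOf_pos u).ne' p
        (Fact.out : p.Prime).ne_one
      refine ⟨i, ?_⟩
      rw [← map_pow]
      refine (QuotientGroup.eq_one_iff _).2 (hZ _ ?_)
      refine ((Fact.out : p.Prime).coprime_iff_not_dvd.2 hm).symm.coprime_dvd_left
        (orderOf_dvd_of_pow_eq_one ?_)
      rw [← pow_mul, ← him, pow_orderOf_eq_one]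
    haveI := hq.isNilpotent
    exact Subgroup.isNilpotent_of_ker_le_center (QuotientGroup.mk' (center M))
      (by rw [QuotientGroup.ker_mk'])
  have hgM : g ∈ M := hg
  obtain ⟨P, hP⟩ : ∃ P : Sylow p M, zpowers (⟨g, hgM⟩ : M) ≤ P := by
    refine IsPGroup.exists_le_sylow fun x => ⟨k, ?_⟩
    obtain ⟨i, hi⟩ := mem_zpowers_iff.1 x.2
    have e : (⟨g, hgM⟩ : M) ^ p ^ k = 1 := Subtype.ext hgk
    exact Subtype.ext (by rw [coe_pow, ← hi, ← zpow_natCast, ← zpow_mul, mul_comm, zpow_mul, zpow_natCast, e, one_zpow, coe_one])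
  haveI := hnil
  haveI : (P : Subgroup M).Normal := inferInstance
  have h1 : (P : Subgroup M) ≤ Cfsg.pCore p M := PCore.le_pCore P.2
  have h2 : (Cfsg.pCore p M).map M.subtype = Cfsg.pCore p G ⊓ M := PCore.map_pCore_subtype_of_normal M
  have h3 : g ∈ (Cfsg.pCore p M).map M.subtype := ⟨⟨g, hgM⟩, h1 (hP (mem_zpowers _)), rfl⟩
  rw [h2, hO, bot_inf_eq, mem_bot] at h3
  exact h3

/-- `PCommute` groups are p-stable in the normalizer form, `p` odd. -/
theorem isNormalizerPStable_of_pCommute [Finite G] (h : PCommute p G) (hp : p ≠ 2) :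
    Cfsg.IsNormalizerPStable p G := by
  intro P hP g hg hq
  set N := normalizer (P : Set G) with hN
  set B := P.subgroupOf N with hB
  haveI : B.Normal := normal_in_normalizer
  set a : N := ⟨g, hg⟩ with ha
  have hBp : IsPGroup p B := hP.of_equiv (subgroupOfEquivOfLe le_normalizer).symm
  have hqB : ∀ b ∈ B, ⁅⁅b, a⁆, a⁆ = 1 := fun b hb => by
    apply Subtype.ext
    have h1 : ⁅⁅(b : G), g⁆, g⁆ ∈ ⁅⁅P, zpowers g⁆, zpowers g⁆ :=
      commutator_mem_commutator (commutator_mem_commutator hb (mem_zpowers g)) (mem_zpowers g)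
    rw [hq, mem_bot] at h1
    exact h1
  have hN' : PCommute p N := h.subgroup N
  set C := (centralizer (P : Set G)).subgroupOf N with hC
  haveI : C.Normal := by
    rw [hC, ← normalizerMonoidHom_ker]
    infer_instance
  have hmemC : ∀ x : N, (∀ b ∈ B, Commute x b) → x ∈ C := fun x hx =>
    mem_subgroupOf.2 (mem_centralizer_iff.2 fun b hb =>
      (congrArg Subtype.val (hx ⟨b, le_normalizer hb⟩ hb).eq).symm)
  set π := QuotientGroup.mk' C with hπ
  have hsurj : Function.Surjective π := QuotientGroup.mk'_surjective C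
  have hH : PCommute p (↥N ⧸ C) := hN'.quotient π hsurj
  set R := normalClosure {c : N | ∃ k : N, (orderOf k).Coprime p ∧ c = ⁅k, a⁆} with hR
  haveI : R.Normal := normalClosure_normal
  haveI : (R.map π).Normal := ‹R.Normal›.map π hsurj
  have hRp : IsPGroup p (R.map π) := by
    refine isPrimePow_orderOf_of_forall ?_
    rintro _ ⟨r, hr, rfl⟩ hrc
    obtain ⟨j, hj⟩ := exists_pow_eq_self_of_coprime (x := π r) (n := p ^ (orderOf r).factorization p)
      ((hrc.pow_right _).symm)
    rw [← hj, ← map_pow, ← map_pow]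
    refine (QuotientGroup.eq_one_iff _).2 (pow_mem (hmemC _ fun b hb => ?_) _)
    refine hN'.commute_of_quadratic hp _ B inferInstance le_rfl hBp hqB _ (pow_mem hr _) ?_ b hb
    have hm : ¬ p ∣ orderOf r / p ^ (orderOf r).factorization p :=
      Nat.not_dvd_ordCompl Fact.out (orderOf_pos r).ne'
    rw [orderOf_pow_of_dvd (pow_ne_zero _ (Fact.out : p.Prime).ne_zero) (Nat.ordProj_dvd _ _)]
    exact ((Fact.out : p.Prime).coprime_iff_not_dvd.2 hm).symm
  have hRU : R.map π ≤ Cfsg.pCore p (↥N ⧸ C) := PCore.le_pCore hRp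
  -- `π a` is a p-element
  obtain ⟨i, m, hm, him⟩ := Nat.exists_eq_pow_mul_and_not_dvd (orderOf_pos a).ne' p
    (Fact.out : p.Prime).ne_one
  have hai : (π a) ^ p ^ i = 1 := by
    rw [← map_pow]
    refine (QuotientGroup.eq_one_iff _).2 (hmemC _ fun b hb => commute_of_coprime_quadratic hBp
      (by rw [Subgroup.normalizer_eq_top]; trivial) (fun b' hb' => ?_) ?_ hb)
    · apply Subtype.ext
      have h1 : ⁅⁅(b' : G), g ^ p ^ i⁆, g ^ p ^ i⁆ ∈ ⁅⁅P, zpowers g⁆, zpowers g⁆ :=
        commutator_mem_commutator (commutator_mem_commutator hb' (pow_mem (mem_zpowers g) _))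
          (pow_mem (mem_zpowers g) _)
      rw [hq, mem_bot] at h1
      exact h1
    · refine ((Fact.out : p.Prime).coprime_iff_not_dvd.2 hm).symm.coprime_dvd_left
        (orderOf_dvd_of_pow_eq_one ?_)
      rw [← pow_mul, ← him, pow_orderOf_eq_one]
  -- modulo `O_p` it centralises the p'-elements
  set σ := QuotientGroup.mk' (Cfsg.pCore p (↥N ⧸ C))
  show π a ∈ Cfsg.pCore p (↥N ⧸ C)
  refine (QuotientGroup.eq_one_iff _).1 ((hH.quotient σ (QuotientGroup.mk'_surjective _)).eq_one_of_commute
    PCore.pCore_quotient_self_eq_bot (k := i) (show σ (π a) ^ p ^ i = 1 by rw [← map_pow, hai, map_one]) fun x hx => ?_)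
  obtain ⟨k, hk, rfl⟩ := exists_coprime_lift (σ.comp π) ((QuotientGroup.mk'_surjective _).comp hsurj) hx
  rw [MonoidHom.comp_apply, Commute, SemiconjBy, eq_comm, ← commutatorElement_eq_one_iff_mul_comm]
  show ⁅σ (π k), σ (π a)⁆ = 1
  rw [← map_commutatorElement, ← map_commutatorElement]
  exact (QuotientGroup.eq_one_iff _).2 (hRU ⟨_, subset_normalClosure ⟨k, hk, rfl⟩, rfl⟩)

/-! ### The abelian Hall–Higman lemma -/

/-- If `∑ i < p, g ^ i = 0` in a ring of characteristic `p` and `g` normalises a commutative group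
`R` of units, then `g` centralises the elements of `R` of order prime to `p`. -/
theorem commute_of_geom_sum_eq_zero {E : Type*} [Ring E] (hE : (p : E) = 0) (g : Eˣ) (R : Subgroup Eˣ)
    (hR : ∀ x ∈ R, ∀ y ∈ R, Commute x y) (hgR : ∀ x ∈ R, g * x * g⁻¹ ∈ R) (hgp : g ^ p = 1)
    (h : ∑ i ∈ Finset.range p, (g : E) ^ i = 0) {r : Eˣ} (hr : r ∈ R) (hrp : (orderOf r).Coprime p) :
    Commute g r := by
  have hp : p.Prime := Fact.out
  have hpowR : ∀ (i : ℕ), ∀ x ∈ R, g ^ i * x * (g ^ i)⁻¹ ∈ R := by
    intro i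
    induction i with
    | zero => intro x hx; simpa using hx
    | succ i ih =>
      intro x hx
      have e : g ^ (i + 1) * x * (g ^ (i + 1))⁻¹ = g * (g ^ i * x * (g ^ i)⁻¹) * g⁻¹ := by
        rw [pow_succ']; group
      rw [e]
      exact hgR _ (ih x hx)
  set t := r⁻¹ * (g * r * g⁻¹) with ht
  have htR : t ∈ R := mul_mem (inv_mem hr) (hgR r hr)
  have htp : (orderOf t).Coprime p := by
    refine Nat.Coprime.coprime_dvd_left ((hR _ (inv_mem hr) _ (hgR r hr)).orderOf_mul_dvd_lcm) ?_
    rw [orderOf_inv, show g * r * g⁻¹ = MulAut.conj g r from rfl, MulEquiv.orderOf_eq, Nat.lcm_self]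
    exact hrp
  clear_value t
  -- for each shift an element with the same commutator
  have hexs : ∀ j, ∃ s ∈ R, 0 < j → j < p → g ^ j * s * (g ^ j)⁻¹ = s * t := by
    intro j
    by_cases hj : 0 < j ∧ j < p
    swap
    · exact ⟨1, one_mem _, fun h1 h2 => absurd ⟨h1, h2⟩ hj⟩
    obtain ⟨k, hk⟩ : ∃ k, (g ^ j) ^ k = g := exists_pow_eq_self_of_coprime
      ((hp.coprime_iff_not_dvd.2 fun hd => absurd (Nat.le_of_dvd hj.1 hd) (not_le.2 hj.2)).symm.coprime_dvd_right
        (orderOf_dvd_of_pow_eq_one hgp))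
    have key : ∀ n, ∃ s ∈ R, g ^ j * s * (g ^ j)⁻¹ =
        s * r⁻¹ * ((g ^ j) ^ n * r * ((g ^ j) ^ n)⁻¹) := by
      intro n
      induction n with
      | zero => exact ⟨1, one_mem _, by simp⟩
      | succ n ih =>
        obtain ⟨s, hs, e⟩ := ih
        set u := (g ^ j) ^ n * r * ((g ^ j) ^ n)⁻¹ with hu
        have hu' : u ∈ R := by rw [hu, ← pow_mul]; exact hpowR _ _ hr
        refine ⟨u * s, mul_mem hu' hs, ?_⟩
        have e2 : (g ^ j) ^ (n + 1) * r * ((g ^ j) ^ (n + 1))⁻¹ = g ^ j * u * (g ^ j)⁻¹ := by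
          rw [hu, pow_succ']; group
        rw [e2]
        have hv : g ^ j * u * (g ^ j)⁻¹ ∈ R := hpowR _ _ hu'
        calc g ^ j * (u * s) * (g ^ j)⁻¹ = (g ^ j * u * (g ^ j)⁻¹) * (g ^ j * s * (g ^ j)⁻¹) := by group
          _ = (g ^ j * u * (g ^ j)⁻¹) * (s * r⁻¹ * u) := by rw [e]
          _ = (s * r⁻¹ * u) * (g ^ j * u * (g ^ j)⁻¹) := hR _ hv _ (mul_mem (mul_mem hs (inv_mem hr)) hu')
          _ = _ := by
            rw [(hR _ (mul_mem hs (inv_mem hr)) _ hu').eq]
            group
    obtain ⟨s, hs, e⟩ := key k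
    refine ⟨s, hs, fun _ _ => ?_⟩
    rw [e, hk, ht, mul_assoc]
  choose s hsR hs using hexs
  -- eliminate the coefficients one at a time
  let σ : ℕ → Eˣ → Eˣ := fun i x => g ^ i * x * (g ^ i)⁻¹
  let c : ℕ → ℕ → E := Nat.rec (fun _ => 1)
    fun n cn i => ((σ i (s (n + 1)) : E) - (σ (n + 1) (s (n + 1)) : E)) * cn i
  have hc0 : ∀ i, c 0 i = 1 := fun i => rfl
  have hcs : ∀ n i, c (n + 1) i = ((σ i (s (n + 1)) : E) - (σ (n + 1) (s (n + 1)) : E)) * c n i :=
    fun n i => rfl
  have hσR : ∀ i, ∀ x ∈ R, σ i x ∈ R := hpowR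
  have hcomm : ∀ n i, ∀ x ∈ R, Commute (x : E) (c n i) := by
    intro n
    induction n with
    | zero => intro i x _; rw [hc0]; exact Commute.one_right _
    | succ n ih =>
      intro i x hx
      rw [hcs]
      exact (((hR x hx _ (hσR _ _ (hsR _))).map (Units.coeHom E)).sub_right
        ((hR x hx _ (hσR _ _ (hsR _))).map (Units.coeHom E))).mul_right (ih i x hx)
  have hrel : ∀ n, ∑ i ∈ Finset.range p, c n i * (g : E) ^ i = 0 := by
    intro n
    induction n with
    | zero => simpa [hc0] using h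
    | succ n ih =>
      set z := s (n + 1)
      have h1 : ∑ i ∈ Finset.range p, c n i * (g : E) ^ i * (z : E) = 0 := by
        rw [← Finset.sum_mul, ih, zero_mul]
      have h2 : ∑ i ∈ Finset.range p, (σ (n + 1) z : E) * (c n i * (g : E) ^ i) = 0 := by
        rw [← Finset.mul_sum, ih, mul_zero]
      have h3 := congrArg₂ (· - ·) h1 h2
      simp only [← Finset.sum_sub_distrib, sub_zero] at h3
      refine Eq.trans (Finset.sum_congr rfl fun i _ => ?_) h3
      have e : (g : E) ^ i * (z : E) = (σ i z : E) * (g : E) ^ i := by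
        rw [← Units.val_pow_eq_pow_val, ← Units.val_mul, ← Units.val_mul]
        congr 1
        show g ^ i * z = g ^ i * z * (g ^ i)⁻¹ * g ^ i
        rw [inv_mul_cancel_right]
      rw [hcs, sub_mul, sub_mul, mul_assoc (c n i), e, ← mul_assoc (c n i),
        ← (hcomm n i _ (hσR i z (hsR _))).eq, ← mul_assoc (σ (n + 1) z : E)]
  have hvanish : ∀ n i, 0 < i → i ≤ n → c n i = 0 := by
    intro n
    induction n with
    | zero => intro i h1 h2; omega
    | succ n ih =>
      intro i h1 h2
      rw [hcs]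
      rcases eq_or_lt_of_le h2 with rfl | h3
      · rw [sub_self, zero_mul]
      · rw [ih i h1 (by omega), mul_zero]
  have hform : ∀ n, n < p → ∃ u ∈ R, c n 0 = (u : E) * (1 - (t : E)) ^ n := by
    intro n
    induction n with
    | zero => intro _; exact ⟨1, one_mem _, by simp [hc0]⟩
    | succ n ih =>
      intro hn
      obtain ⟨u, hu, e⟩ := ih (by omega)
      refine ⟨s (n + 1) * u, mul_mem (hsR _) hu, ?_⟩
      have e0 : σ 0 (s (n + 1)) = s (n + 1) := by simp [σ]
      have e1 : σ (n + 1) (s (n + 1)) = s (n + 1) * t := hs (n + 1) (by omega) hn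
      rw [hcs, e0, e1, e, Units.val_mul, Units.val_mul, ← mul_one_sub, pow_succ']
      have hcu : Commute (1 - (t : E)) (u : E) :=
        (Commute.one_left _).sub_left ((hR t htR u hu).map (Units.coeHom E))
      rw [mul_assoc, ← mul_assoc (1 - (t : E)), hcu.eq, mul_assoc, mul_assoc]
  have hfin : c (p - 1) 0 = 0 := by
    have h1 := hrel (p - 1)
    rwa [Finset.sum_eq_single 0 (fun i hi hi0 => by
        rw [hvanish (p - 1) i (Nat.pos_of_ne_zero hi0) (by have := Finset.mem_range.1 hi; omega), zero_mul])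
      (fun h0 => absurd (Finset.mem_range.2 hp.pos) h0), pow_zero, mul_one] at h1
  obtain ⟨u, -, hu⟩ := hform (p - 1) (by have := hp.pos; omega)
  rw [hfin] at hu
  have ht1 : (1 - (t : E)) ^ (p - 1) = 0 := by
    have := congrArg (fun z => (↑u⁻¹ : E) * z) hu.symm
    simpa using this
  have htpow : t ^ p = 1 := by
    apply Units.ext
    rw [Units.val_pow_eq_pow_val, Units.val_one]
    have h1 : (1 - (t : E)) ^ p = 0 := by
      rw [show p = (p - 1) + 1 by have := hp.pos; omega, pow_succ, ht1, zero_mul]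
    obtain ⟨w, hw⟩ := (Commute.one_left (1 - (t : E))).neg_right.exists_add_pow_prime_eq hp
    rw [hE, zero_mul, zero_mul, zero_mul, add_zero, one_pow, neg_pow, h1, mul_zero, add_zero] at hw
    rwa [← sub_eq_add_neg, sub_sub_cancel] at hw
  have hone : t = 1 := orderOf_eq_one_iff.1 (Nat.eq_one_of_dvd_coprimes htp dvd_rfl
    (orderOf_dvd_of_pow_eq_one htpow))
  rw [ht, inv_mul_eq_one, eq_mul_inv_iff_mul_eq] at hone
  exact hone.symm

/-- In the minimal configuration an element of `P` outside `O_p` satisfying `[X, g; p - 1] = 1` on a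
chief factor `X` inside `O_p` centralises it. -/
theorem Config.not_engel [Finite G] {P : Sylow p G} (h : Config p P) {g : G}
    (hgP : g ∈ (P : Subgroup G)) (hgU : g ∉ Cfsg.pCore p G) {U V : Subgroup G}
    (hUV : Cfsg.IsChiefFactor U V) (hU : U ≤ Cfsg.pCore p G)
    (hit : Cfsg.iterCommutator U (zpowers g) (p - 1) ≤ V) : ⁅U, zpowers g⁆ ≤ V := by
  obtain ⟨hlt, hUn, hVn, hmax⟩ := hUV
  haveI := hUn
  haveI := hVn
  have hlayer : ⁅U, Cfsg.pCore p G⁆ ≤ V := layer_le hU hlt fun N h1 h2 h3 =>
    ((hmax N h1 h3 h2.le).resolve_right h2.ne).le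
  set π := QuotientGroup.mk' V with hπ
  have hsurj : Function.Surjective π := QuotientGroup.mk'_surjective V
  set W := U.map π with hW
  haveI hWn : W.Normal := hUn.map π hsurj
  letI : CommGroup W :=
    { (inferInstance : Group W) with
      mul_comm := by
        rintro ⟨_, x, hx, rfl⟩ ⟨_, y, hy, rfl⟩
        refine Subtype.ext (commutatorElement_eq_one_iff_mul_comm.1 ?_)
        rw [← map_commutatorElement]
        exact (QuotientGroup.eq_one_iff _).2 (hlayer (commutator_mem_commutator hx (hU hy))) }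
  have hWne : W ≠ ⊥ := fun e => hlt.not_ge (by
    rwa [hW, Subgroup.map_eq_bot_iff, QuotientGroup.ker_mk'] at e)
  -- invariant subgroups of `W`
  have hinv : ∀ N : Subgroup (G ⧸ V), N.Normal → N ≤ W → N ≠ ⊥ → N = W := by
    intro N hN hNW hNne
    have h1 : V ≤ N.comap π := fun x hx => by
      rw [mem_comap, show π x = 1 from (QuotientGroup.eq_one_iff x).2 hx]
      exact one_mem _
    have h2 : N.comap π ≤ U := (comap_mono hNW).trans (by
      rw [hW, comap_map_eq, QuotientGroup.ker_mk']
      exact sup_le le_rfl hlt.le)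
    rcases hmax _ (hN.comap π) h1 h2 with e | e
    · refine absurd ?_ hNne
      rw [← map_comap_eq_self_of_surjective hsurj N, e, QuotientGroup.map_mk'_self]
    · rw [← map_comap_eq_self_of_surjective hsurj N, e]
  have hWp : IsPGroup p W := (PCore.isPGroup_pCore.to_le hU).map π
  -- exponent `p`
  have hexp : ∀ w : W, w ^ p = 1 := by
    set K : Subgroup W := (powMonoidHom p).ker
    have hK : (K.map W.subtype).Normal := ⟨by
      rintro _ ⟨w, hw, rfl⟩ c
      refine ⟨⟨c * w * c⁻¹, hWn.conj_mem w w.2 c⟩, Subtype.ext ?_, rfl⟩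
      have hw' : (w : G ⧸ V) ^ p = 1 := congrArg Subtype.val (MonoidHom.mem_ker.1 hw)
      show (c * (w : G ⧸ V) * c⁻¹) ^ p = 1
      rw [conj_pow, hw', mul_one, mul_inv_cancel]⟩
    have hne : K.map W.subtype ≠ ⊥ := by
      obtain ⟨k, hk⟩ := hWp.exists_card_eq
      have hk0 : k ≠ 0 := fun e => hWne (card_eq_one.1 (by rw [hk, e, pow_zero]))
      obtain ⟨w, hw⟩ := exists_prime_orderOf_dvd_card' p (hk ▸ dvd_pow_self p hk0)
      intro e
      have hmem : (w : G ⧸ V) ∈ K.map W.subtype :=
        ⟨w, MonoidHom.mem_ker.2 (show w ^ p = 1 by rw [← hw, pow_orderOf_eq_one]), rfl⟩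
      rw [e, mem_bot] at hmem
      rw [show w = 1 from Subtype.ext hmem, orderOf_one] at hw
      exact (Fact.out : p.Prime).ne_one hw.symm
    intro w
    obtain ⟨v, hv, e⟩ := (hinv _ hK (map_subtype_le K) hne).ge w.2
    rw [← Subtype.ext (show (v : G ⧸ V) = w from e)]
    exact MonoidHom.mem_ker.1 hv
  -- the representation
  set ρ : G →* MulAut W := (MulAut.conjNormal (H := W)).comp π with hρ
  set ψ : G →* (AddMonoid.End (Additive W))ˣ := ((endHom (V := W)).comp ρ).toHomUnits with hψ
  have hψinj : ∀ x y, ψ x = ψ y → ρ x = ρ y := fun x y e => endHom_injective (congrArg Units.val e :)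
  have hker : ∀ x, x ∈ ρ.ker → ∀ u ∈ U, ⁅u, x⁆ ∈ V := by
    intro x hx u hu
    rw [← QuotientGroup.eq_one_iff]
    show π ⁅u, x⁆ = 1
    rw [map_commutatorElement, commutatorElement_eq_one_iff_mul_comm]
    have := congrArg Subtype.val (DFunLike.congr_fun (MonoidHom.mem_ker.1 hx) (⟨π u, u, hu, rfl⟩ : W))
    exact (mul_inv_eq_iff_eq_mul.1 this).symm
  have hE : ((p : AddMonoid.End (Additive W))) = 0 := AddMonoidHom.ext fun v => by
    show (p : AddMonoid.End (Additive W)) v = 0
    rw [AddMonoid.End.natCast_apply]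
    exact Additive.toMul.injective (hexp v.toMul)
  have hlin : ((ψ g : AddMonoid.End (Additive W)) - 1) ^ (p - 1) = 0 := by
    have hiter : ∀ i, ∀ w : W, ∃ u ∈ Cfsg.iterCommutator U (zpowers g) i, ∃ hu : u ∈ U,
        (((ψ g : AddMonoid.End (Additive W)) - 1) ^ i) (Additive.ofMul w) =
          Additive.ofMul (⟨π u, u, hu, rfl⟩ : W) := by
      intro i
      induction i with
      | zero =>
        intro w
        obtain ⟨_, u, hu, rfl⟩ := w
        exact ⟨u, hu, hu, rfl⟩
      | succ i ih =>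
        intro w
        obtain ⟨u, hui, hu, e⟩ := ih w
        refine ⟨g * u * g⁻¹ * u⁻¹, ?_, mul_mem (hUn.conj_mem u hu g) (inv_mem hu), ?_⟩
        · show _ ∈ ⁅_, _⁆
          rw [Subgroup.commutator_comm, ← commutatorElement_def]
          exact commutator_mem_commutator (mem_zpowers g) hui
        · rw [pow_succ']
          show ((ψ g : AddMonoid.End (Additive W)) - 1)
            ((((ψ g : AddMonoid.End (Additive W)) - 1) ^ i) (Additive.ofMul w)) = _
          rw [e]
          apply Additive.toMul.injective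
          apply Subtype.ext
          show π g * π u * (π g)⁻¹ / π u = π (g * u * g⁻¹ * u⁻¹)
          rw [map_mul, map_mul, map_mul, map_inv, map_inv, div_eq_mul_inv]
    refine AddMonoidHom.ext fun v => ?_
    obtain ⟨u, hui, hu, e⟩ := hiter (p - 1) v.toMul
    refine e.trans (Additive.toMul.injective (Subtype.ext ?_))
    exact (QuotientGroup.eq_one_iff u).2 (hit hui)
  have hgeom : ∑ i ∈ Finset.range p, (ψ g : AddMonoid.End (Additive W)) ^ i = 0 := by
    obtain ⟨q, hq⟩ := Transfer.exists_geom_eq p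
    have h1 := congrArg (Polynomial.aeval (R := ℤ) (ψ g : AddMonoid.End (Additive W))) hq
    simp only [map_sum, map_pow, Polynomial.aeval_X, map_add, map_sub, map_one, map_mul,
      map_natCast] at h1
    rwa [hlin, hE, zero_mul, add_zero] at h1
  have hgp : ψ g ^ p = 1 := by
    apply Units.ext
    rw [Units.val_pow_eq_pow_val, Units.val_one]
    obtain ⟨r, hr⟩ := (Commute.one_right ((ψ g : AddMonoid.End (Additive W)) - 1)).exists_add_pow_prime_eq
      (Fact.out : p.Prime)
    have h0 : ((ψ g : AddMonoid.End (Additive W)) - 1) ^ p = 0 := by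
      conv_lhs => rw [show p = (p - 1) + 1 by have := (Fact.out : p.Prime).pos; omega]
      rw [pow_succ, hlin, zero_mul]
    rwa [sub_add_cancel, h0, zero_add, one_pow, hE, zero_mul, zero_mul, zero_mul, add_zero] at hr
  set R := closure {x | ∃ k : G, (orderOf k).Coprime p ∧ x = ψ k}
  have hRc : IsMulCommutative R := by
    refine Subgroup.isMulCommutative_closure ?_
    rintro _ ⟨k, hk, rfl⟩ _ ⟨l, hl, rfl⟩
    apply Units.ext
    rw [Units.val_mul, Units.val_mul]
    show (endHom (ρ k)) * (endHom (ρ l)) = (endHom (ρ l)) * (endHom (ρ k))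
    exact (map_mul endHom (ρ k) (ρ l)).symm.trans
      ((congrArg (endHom (V := W)) (PCommute.commute_conjNormal (B := U) h.comm hlayer hk hl).eq).trans
        (map_mul endHom (ρ l) (ρ k)))
  have hgR : ∀ x ∈ R, ψ g * x * (ψ g)⁻¹ ∈ R := by
    have h1 : R ≤ R.comap (MulAut.conj (ψ g)).toMonoidHom := by
      rw [closure_le]
      rintro _ ⟨k, hk, rfl⟩
      refine subset_closure ⟨g * k * g⁻¹, ?_, by simp⟩
      rwa [show g * k * g⁻¹ = MulAut.conj g k from rfl, MulEquiv.orderOf_eq]
    exact fun x hx => h1 hx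
  have hcomm : ∀ k : G, (orderOf k).Coprime p → ⁅k, g⁆ ∈ ρ.ker := by
    intro k hk
    have h1 := commute_of_geom_sum_eq_zero hE (ψ g) R
      (fun x hx y hy => congrArg Subtype.val (hRc.1.comm (⟨x, hx⟩ : R) ⟨y, hy⟩)) hgR hgp hgeom
      (subset_closure ⟨k, hk, rfl⟩) (hk.coprime_dvd_left (orderOf_map_dvd ψ k))
    rw [MonoidHom.mem_ker, map_commutatorElement, commutatorElement_eq_one_iff_mul_comm]
    apply endHom_injective
    rw [map_mul, map_mul]
    exact (congrArg Units.val h1.eq).symm
  by_cases hCP : ρ.ker ≤ (P : Subgroup G)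
  · exfalso
    apply hgU
    set σ := QuotientGroup.mk' (Cfsg.pCore p G)
    obtain ⟨j, hj⟩ := P.2 ⟨g, hgP⟩
    refine (QuotientGroup.eq_one_iff g).1 ((PCommute.quotient h.comm σ (QuotientGroup.mk'_surjective _)).eq_one_of_commute
      PCore.pCore_quotient_self_eq_bot (k := j)
      (show σ g ^ p ^ j = 1 by rw [← map_pow, show g ^ p ^ j = 1 from congrArg Subtype.val hj, map_one])
      fun x hx => ?_)
    obtain ⟨k, hk, rfl⟩ := exists_coprime_lift σ (QuotientGroup.mk'_surjective _) hx
    rw [Commute, SemiconjBy, eq_comm, ← commutatorElement_eq_one_iff_mul_comm]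
    show ⁅σ k, σ g⁆ = 1
    rw [← map_commutatorElement]
    exact (QuotientGroup.eq_one_iff _).2 (le_core_of_le_sylow _ hCP (hcomm k hk))
  -- the action of `G` on `W` is that of the p-group `P`
  set Pb := (P : Subgroup G).map π with hPb
  have hWPb : W ≤ Pb := map_mono (hU.trans (PCore.pCore_le_sylow P))
  haveI : (W.subgroupOf Pb).Normal := hWn.comap _
  obtain ⟨z, hz, hz1⟩ := (W.subgroupOf Pb ⊓ center Pb).bot_or_exists_ne_one.resolve_left
    (PGroup.inf_center_ne_bot (P.2.map π) (W.subgroupOf Pb) fun e =>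
      hWne (le_bot_iff.1 (fun w hw => by
        have : (⟨w, hWPb hw⟩ : Pb) ∈ W.subgroupOf Pb := hw
        rw [e, mem_bot] at this
        exact mem_bot.2 (congrArg Subtype.val this))))
  have htop : (P : Subgroup G) ⊔ ρ.ker = ⊤ :=
    h.coatom.2 _ (lt_of_le_of_ne le_sup_left fun e => hCP (e ▸ le_sup_right))
  have hcen : (z : G ⧸ V) ∈ center (G ⧸ V) := by
    refine mem_center_iff.2 fun x => ?_
    obtain ⟨x, rfl⟩ := hsurj x
    obtain ⟨a, ha, c, hc, rfl⟩ := mem_sup_of_normal_right.1 (htop ▸ Subgroup.mem_top x)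
    have h1 : π c * (z : G ⧸ V) = z * π c := by
      have := congrArg Subtype.val (DFunLike.congr_fun (MonoidHom.mem_ker.1 hc) (⟨z, hz.1⟩ : W))
      exact mul_inv_eq_iff_eq_mul.1 this
    have h2 : π a * (z : G ⧸ V) = z * π a :=
      congrArg Subtype.val (mem_center_iff.1 hz.2 ⟨π a, a, ha, rfl⟩)
    rw [map_mul, mul_assoc, h1, ← mul_assoc, h2, mul_assoc]
  have hfull := hinv (W ⊓ center (G ⧸ V)) inferInstance inf_le_left fun e => hz1 (Subtype.ext (by
    simpa [e] using (show (z : G ⧸ V) ∈ W ⊓ center (G ⧸ V) from ⟨hz.1, hcen⟩)))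
  rw [commutator_le]
  intro u hu x hx
  rw [← QuotientGroup.eq_one_iff]
  show π ⁅u, x⁆ = 1
  rw [map_commutatorElement, commutatorElement_eq_one_iff_mul_comm]
  exact (mem_center_iff.1 (hfull.ge (⟨u, hu, rfl⟩ : π u ∈ W)).2 (π x)).symm

universe u

/-- The complement criterion through minimal configurations of sections. -/
theorem hasNormalPComplement_of_config {G : Type u} [Group G] [Finite G]
    {W : ∀ (Q : Type u) [Group Q], Subgroup Q} (hW : Cfsg.IsCharPFunctor.{u} p W) (S : Sylow p G)
    (hN : Cfsg.HasNormalPComplement p ↥(normalizer (wOf W (S : Subgroup G) : Set G)))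
    (hloc : ∀ (K R : Subgroup G) [_hR : (R.subgroupOf K).Normal],
      ∀ T : Sylow p (↥K ⧸ R.subgroupOf K), Config p T →
        (wOf W (T : Subgroup (↥K ⧸ R.subgroupOf K))).Normal) :
    Cfsg.HasNormalPComplement p G := by
  refine PComplement.reduction (W := W) False
    (fun G' _ => ∃ (K : Subgroup G) (f : ↥K →* G'), Function.Surjective f) hW ?_ ?_ ?_ G
    ⟨⊤, (Subgroup.topEquiv (G := G)).toMonoidHom, (Subgroup.topEquiv (G := G)).surjective⟩ S ⟨hN, False.elim⟩
  · rintro G' _ _ H ⟨K, f, hf⟩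
    let e := (H.comap f).equivMapOfInjective K.subtype Subtype.coe_injective
    exact ⟨(H.comap f).map K.subtype, (f.subgroupComap H).comp e.symm.toMonoidHom,
      (f.subgroupComap_surjective_of_surjective H hf).comp e.symm.surjective⟩
  · rintro G' _ _ N _ ⟨K, f, hf⟩
    exact ⟨K, (QuotientGroup.mk' N).comp f, (QuotientGroup.mk'_surjective N).comp hf⟩
  · rintro G' _ _ P ⟨K, f, hf⟩ hc - -
    set R := f.ker.map K.subtype with hR
    have hker : R.subgroupOf K = f.ker := by
      rw [hR, Subgroup.subgroupOf, Subgroup.comap_map_eq_self_of_injective Subtype.coe_injective]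
    have hRn : (R.subgroupOf K).Normal := by rw [hker]; infer_instance
    let e : (↥K ⧸ R.subgroupOf K) ≃* G' :=
      (QuotientGroup.quotientMulEquivOfEq hker).trans (QuotientGroup.quotientKerEquivOfSurjective f hf)
    set T := P.mapSurjective (f := e.symm.toMonoidHom) e.symm.surjective
    have hT : Config p T :=
      ⟨(OrderIso.isCoatom_iff (MulEquiv.mapSubgroup e.symm) _).2 hc.coatom,
        PCore.centralizer_pCore_le_congr e.symm hc.cent,
        PCommute.quotient hc.comm e.symm.toMonoidHom e.symm.surjective⟩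
    have h2 := (@hloc K R hRn T hT).map e.toMonoidHom e.surjective
    rw [wOf_map hW e.toMonoidHom _ T.2 (fun x _ hx => e.injective (hx.trans (map_one e).symm))] at h2
    convert h2 using 2
    show (P : Subgroup G') = ((P : Subgroup G').map e.symm.toMonoidHom).map e.toMonoidHom
    rw [Subgroup.map_map]
    ext x
    simp

end Cfsg.Agent.PComplement
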