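import Cfsg.Agent.Lib.Coprime.Basic
import Cfsg.Prelude.Def_LocalEven
import Mathlib.GroupTheory.Perm.Sign
import Mathlib.GroupTheory.Sylow
import Mathlib.GroupTheory.GroupAction.ConjAct

/-!
# Sections isomorphic to the symmetric group of degree 4

`involves_iff`, closure of involvement under subgroups and quotients, and
`involves_sfour`: a four-subgroup with elements of its normaliser inducing an element of order 3
and an involution gives an S₄ section.
-/

namespace Cfsg.Agent.PComplement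

open Subgroup
open scoped commutatorElement

universe u v

section
variable {H : Type v} [Group H] {G : Type u} [Group G]

theorem involves_iff :
    Cfsg.Involves H G ↔ ∃ (K : Subgroup G) (φ : K →* H), Function.Surjective φ := by
  constructor
  · rintro ⟨K, R, hR, ⟨e⟩⟩
    exact ⟨K, e.toMonoidHom.comp (QuotientGroup.mk' _), e.surjective.comp (QuotientGroup.mk'_surjective _)⟩
  · rintro ⟨K, φ, hφ⟩
    have he : (φ.ker.map K.subtype).subgroupOf K = φ.ker :=
      comap_map_eq_self_of_injective K.subtype_injective _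
    have hn : ((φ.ker.map K.subtype).subgroupOf K).Normal := he.symm ▸ MonoidHom.normal_ker _
    exact ⟨K, _, hn, ⟨(QuotientGroup.quotientMulEquivOfEq he).trans
      (QuotientGroup.quotientKerEquivOfSurjective φ hφ)⟩⟩

theorem involves_of_subgroup {L : Subgroup G} (h : Cfsg.Involves H ↥L) : Cfsg.Involves H G := by
  obtain ⟨K, φ, hφ⟩ := involves_iff.1 h
  exact involves_iff.2 ⟨K.map L.subtype,
    φ.comp (K.equivMapOfInjective L.subtype L.subtype_injective).symm.toMonoidHom,
    hφ.comp (MulEquiv.surjective _)⟩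

theorem involves_of_quotient {N : Subgroup G} [N.Normal] (h : Cfsg.Involves H (G ⧸ N)) :
    Cfsg.Involves H G := by
  obtain ⟨K, φ, hφ⟩ := involves_iff.1 h
  exact involves_iff.2 ⟨K.comap (QuotientGroup.mk' N), φ.comp ((QuotientGroup.mk' N).subgroupComap K),
    hφ.comp ((QuotientGroup.mk' N).subgroupComap_surjective_of_surjective K
      (QuotientGroup.mk'_surjective N))⟩

end

variable {G : Type u} [Group G] [Finite G]

/-- A four-subgroup with elements of its normaliser acting as a 3-cycle and as a transposition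
yields a section isomorphic to S₄. -/
theorem involves_sfour (M : Subgroup G) (hM : Nat.card M = 4) {c t : G}
    (hc : c ∈ normalizer (M : Set G)) (ht : t ∈ normalizer (M : Set G))
    (hcfix : ∀ m ∈ M, Commute c m → m = 1) (htfix : ∃ m ∈ M, m ≠ 1 ∧ Commute t m)
    (htne : ¬ ∀ m ∈ M, Commute t m) :
    Cfsg.Involves (Equiv.Perm (Fin 4)) G := by
  classical
  set N := normalizer (M : Set G) with hN
  -- the action on the three involutions
  let X := {m : G // m ∈ M ∧ m ≠ 1}
  letI : MulAction N X :=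
    { smul := fun n m => ⟨(n : G) * m.1 * (n : G)⁻¹, (mem_normalizer_iff.1 n.2 m.1).1 m.2.1,
        fun h => m.2.2 (conj_eq_one_iff.1 h)⟩
      one_smul := fun m => Subtype.ext (by
        show ((1 : N) : G) * m.1 * ((1 : N) : G)⁻¹ = m.1
        simp)
      mul_smul := fun a b m => Subtype.ext (by
        show ((a * b : N) : G) * m.1 * ((a * b : N) : G)⁻¹ =
          (a : G) * ((b : G) * m.1 * (b : G)⁻¹) * (a : G)⁻¹
        push_cast; group) }
  set ψ := MulAction.toPermHom N X with hψ
  have hX3 : Nat.card X = 3 := by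
    have h1 : Nat.card {m : M // m ≠ 1} = 3 := by
      haveI := Fintype.ofFinite M
      rw [Nat.card_eq_fintype_card, Fintype.card_subtype_compl, Fintype.card_subtype_eq,
        ← Nat.card_eq_fintype_card, hM]
    rw [← h1]
    exact Nat.card_congr
      { toFun := fun x => ⟨⟨x.1, x.2.1⟩, fun h => x.2.2 (congrArg Subtype.val h)⟩
        invFun := fun x => ⟨x.1.1, x.1.2, fun h => x.2 (Subtype.ext h)⟩
        left_inv := fun x => rfl
        right_inv := fun x => rfl }
  haveI := Fintype.ofFinite X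
  have hperm : Nat.card (Equiv.Perm X) = 6 := by rw [Nat.card_perm, hX3]; rfl
  -- c acts without fixed point, t with one
  have hψc : ∀ x, ψ ⟨c, hc⟩ x ≠ x := by
    intro x hx
    have h := congrArg Subtype.val hx
    change c * x.1 * c⁻¹ = x.1 at h
    exact x.2.2 (hcfix _ x.2.1 (mul_inv_eq_iff_eq_mul.1 h))
  have htswap : ∃ y z, y ≠ z ∧ ψ ⟨t, ht⟩ = Equiv.swap y z := by
    set σ := ψ ⟨t, ht⟩ with hσ
    obtain ⟨m₀, hm₀, hm₀1, hfix⟩ := htfix
    have hx₀ : σ ⟨m₀, hm₀, hm₀1⟩ = ⟨m₀, hm₀, hm₀1⟩ :=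
      Subtype.ext (mul_inv_eq_iff_eq_mul.2 hfix.eq)
    have hne : σ ≠ 1 := by
      intro h
      apply htne
      intro m hm
      by_cases hm1 : m = 1
      · rw [hm1]; exact Commute.one_right t
      · exact mul_inv_eq_iff_eq_mul.1 (congrArg Subtype.val (Equiv.ext_iff.1 h ⟨m, hm, hm1⟩))
    have hsup : σ.support.card = 2 := by
      have h1 := Equiv.Perm.two_le_card_support_of_ne_one hne
      have h2 : σ.support.card < 3 := by
        rw [← hX3, Nat.card_eq_fintype_card]
        refine Finset.card_lt_univ_of_notMem (x := ⟨m₀, hm₀, hm₀1⟩) ?_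
        rw [Equiv.Perm.mem_support, not_not]
        exact hx₀
      omega
    exact Equiv.Perm.card_support_eq_two.1 hsup
  obtain ⟨y, z, hyz, hswap⟩ := htswap
  set sg : N →* ℤˣ := Equiv.Perm.sign.comp ψ with hsg
  set L := sg.ker with hL
  have htL : (⟨t, ht⟩ : N) ∉ L := by
    rw [hL, MonoidHom.mem_ker]
    show Equiv.Perm.sign (ψ ⟨t, ht⟩) ≠ 1
    rw [hswap, Equiv.Perm.sign_swap hyz]
    decide
  have hc3 : ψ ⟨c, hc⟩ ^ 3 = 1 ∧ Equiv.Perm.sign (ψ ⟨c, hc⟩) = 1 := by
    have h3 : (ψ ⟨c, hc⟩).support.card = 3 := by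
      rw [show (ψ ⟨c, hc⟩).support = Finset.univ from
        Finset.eq_univ_of_forall fun x => Equiv.Perm.mem_support.2 (hψc x),
        Finset.card_univ, ← Nat.card_eq_fintype_card, hX3]
    have hcyc := card_support_eq_three_iff.1 h3
    exact ⟨by rw [← hcyc.orderOf]; exact pow_orderOf_eq_one _, hcyc.sign⟩
  -- a Sylow 3-subgroup of L and its normaliser in N
  haveI : Fact (Nat.Prime 3) := ⟨Nat.prime_three⟩
  haveI hLn : L.Normal := MonoidHom.normal_ker _
  obtain ⟨T⟩ := (inferInstance : Nonempty (Sylow 3 L))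
  set T' : Subgroup N := (T : Subgroup L).map L.subtype with hT'
  set Y := normalizer (T' : Set N) with hY
  have hT'p : IsPGroup 3 T' := T.2.map _
  obtain ⟨τ, hτT, hτ⟩ : ∃ τ ∈ T', ψ τ ≠ 1 := by
    by_contra hno
    push Not at hno
    have hle : (T : Subgroup L) ≤ (ψ.comp L.subtype).ker := fun x hx => hno _ ⟨x, hx, rfl⟩
    have hdvd : (ψ.comp L.subtype).ker.index ∣ (T : Subgroup L).index := index_dvd_of_le hle
    have h3 : 3 ∣ (ψ.comp L.subtype).ker.index := by
      rw [index_ker]
      have hmem : ψ ⟨c, hc⟩ ∈ (ψ.comp L.subtype).range := ⟨⟨⟨c, hc⟩, hc3.2⟩, rfl⟩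
      have hord : orderOf (ψ ⟨c, hc⟩) = 3 := by
        refine orderOf_eq_prime hc3.1 fun h => ?_
        exact hψc y (by rw [h]; rfl)
      have := orderOf_dvd_natCard (ψ.comp L.subtype).range hmem
      rwa [hord] at this
    exact T.not_dvd_index (h3.trans hdvd)
  obtain ⟨x, hxY, hxL⟩ : ∃ x ∈ Y, x ∉ L := by
    by_contra hno
    push Not at hno
    have hsup : Y ⊔ L = ⊤ := Sylow.normalizer_sup_eq_top T
    rw [sup_eq_right.2 (fun w hw => hno w hw : Y ≤ L)] at hsup
    exact htL (hsup ▸ mem_top _)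
  -- Y acts as the full symmetric group on the involutions
  have hY6 : 6 ≤ Nat.card (ψ.comp Y.subtype).range := by
    have h2 : 2 ∣ Nat.card (ψ.comp Y.subtype).range := by
      have hmem : ψ x ∈ (ψ.comp Y.subtype).range := ⟨⟨x, hxY⟩, rfl⟩
      have h1 := (orderOf_map_dvd Equiv.Perm.sign (ψ x))
      have hs : orderOf (Equiv.Perm.sign (ψ x)) = 2 := by
        rcases Int.units_eq_one_or (Equiv.Perm.sign (ψ x)) with h | h
        · exact absurd h hxL
        · rw [h]; exact orderOf_eq_prime (by decide) (by decide)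
      rw [hs] at h1
      have := orderOf_dvd_natCard (ψ.comp Y.subtype).range hmem
      exact h1.trans this
    have h3 : 3 ∣ Nat.card (ψ.comp Y.subtype).range := by
      have hmem : ψ τ ∈ (ψ.comp Y.subtype).range := ⟨⟨τ, le_normalizer hτT⟩, rfl⟩
      obtain ⟨k, hk⟩ := hT'p ⟨τ, hτT⟩
      obtain ⟨i, -, hi⟩ := (Nat.dvd_prime_pow Nat.prime_three).1
        ((orderOf_map_dvd ψ τ).trans (orderOf_dvd_of_pow_eq_one (congrArg Subtype.val hk : τ ^ 3 ^ k = 1)))
      have := orderOf_dvd_natCard (ψ.comp Y.subtype).range hmem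
      rw [hi] at this
      rcases i with _ | i
      · exact absurd (orderOf_eq_one_iff.1 (by rw [hi, pow_zero])) hτ
      · exact (dvd_pow_self 3 i.succ_ne_zero).trans this
    exact Nat.le_of_dvd Nat.card_pos (Nat.Coprime.mul_dvd_of_dvd_of_dvd (by decide) h2 h3 :)
  -- M and Y
  set M' : Subgroup N := M.subgroupOf N with hM'
  haveI hM'n : M'.Normal := normal_subgroupOf_iff_le_normalizer le_normalizer |>.2 le_rfl
  have hM'4 : Nat.card M' = 4 := by rw [hM', Coprime.card_subgroupOf le_normalizer, hM]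
  have hM'2 : IsPGroup 2 M' := IsPGroup.of_card (n := 2) hM'4
  have hdisj : Y ⊓ M' = ⊥ := by
    rw [eq_bot_iff]
    rintro m ⟨hmY, hmM⟩
    refine mem_bot.2 (Subtype.ext ?_)
    by_contra hne
    have hfix : ψ τ ⟨(m : G), hmM, hne⟩ = ⟨(m : G), hmM, hne⟩ := by
      have h1 : ⁅m, τ⁆ ∈ T' :=
        mul_mem ((mem_normalizer_iff.1 hmY τ).1 hτT) (inv_mem hτT)
      have h2 : ⁅m, τ⁆ ∈ M' := by
        rw [commutatorElement_def, mul_assoc m τ, mul_assoc m]
        exact mul_mem hmM (hM'n.conj_mem _ (inv_mem hmM) τ)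
      have h3 : ⁅m, τ⁆ = 1 := by
        obtain ⟨a, ha⟩ := hT'p ⟨_, h1⟩
        obtain ⟨b, hb⟩ := hM'2 ⟨_, h2⟩
        exact orderOf_eq_one_iff.1 (Nat.eq_one_of_dvd_coprimes (Nat.Coprime.pow a b (by decide))
          (orderOf_dvd_of_pow_eq_one (congrArg Subtype.val ha : ⁅m, τ⁆ ^ 3 ^ a = 1))
          (orderOf_dvd_of_pow_eq_one (congrArg Subtype.val hb : ⁅m, τ⁆ ^ 2 ^ b = 1)))
      refine Subtype.ext (mul_inv_eq_iff_eq_mul.2 ?_)
      exact (congrArg Subtype.val (commutatorElement_eq_one_iff_mul_comm.1 h3)).symm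
    -- a nontrivial element of 3-power order of a symmetric group of degree 3 has no fixed point
    obtain ⟨k, hk⟩ := hT'p ⟨τ, hτT⟩
    have hσ3 : ψ τ ^ 3 = 1 := by
      obtain ⟨i, -, hi⟩ := (Nat.dvd_prime_pow Nat.prime_three).1
        ((orderOf_map_dvd ψ τ).trans (orderOf_dvd_of_pow_eq_one (congrArg Subtype.val hk : τ ^ 3 ^ k = 1)))
      have h6 : orderOf (ψ τ) ∣ 6 := hperm ▸ orderOf_dvd_natCard _
      rw [← orderOf_dvd_iff_pow_eq_one]
      rcases i with _ | _ | i
      · rw [hi]; exact one_dvd _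
      · rw [hi]; exact dvd_rfl
      · exfalso
        rw [hi] at h6
        have := Nat.le_of_dvd (by norm_num) h6
        have : 3 ^ 2 ≤ 3 ^ (i + 1 + 1) := Nat.pow_le_pow_right (by norm_num) (by omega)
        omega
    have hcyc : (ψ τ).IsThreeCycle := by
      rw [← card_support_eq_three_iff]
      have h1 := Equiv.Perm.two_le_card_support_of_ne_one hτ
      have h2 := Finset.card_le_univ (ψ τ).support
      rw [← Nat.card_eq_fintype_card, hX3] at h2
      by_contra h
      have h4 : (ψ τ).IsSwap := Equiv.Perm.card_support_eq_two.1 (by omega)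
      obtain ⟨a, b, hab, he⟩ := h4
      rw [he] at hσ3
      rw [pow_succ, sq, Equiv.swap_mul_self, one_mul] at hσ3
      exact hτ (he.trans hσ3)
    have hlt : (ψ τ).support.card < 3 := by
      rw [← hX3, Nat.card_eq_fintype_card]
      exact Finset.card_lt_univ_of_notMem (x := ⟨(m : G), hmM, hne⟩)
        (by rw [Equiv.Perm.mem_support, not_not]; exact hfix)
    rw [hcyc.card_support] at hlt
    exact lt_irrefl _ hlt
  -- the coset action of M'Y on its four cosets of Y
  have hYM : Y ≤ normalizer (M' : Set N) := by rw [Subgroup.normalizer_eq_top]; exact le_top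
  set H := Y ⊔ M' with hH
  set Y' := Y.subgroupOf H with hY'
  have hidx : Y'.index = 4 := by
    have h1 := Y'.card_mul_index
    rw [Coprime.card_subgroupOf le_sup_left, Coprime.card_sup_of_le_normalizer hYM hdisj, hM'4] at h1
    exact Nat.eq_of_mul_eq_mul_left Nat.card_pos h1
  set f := MulAction.toPermHom H (H ⧸ Y') with hf
  have hker : f.ker ≤ Y' ⊓ (ψ.comp H.subtype).ker := by
    rw [hf, ← normalCore_eq_ker]
    intro h hh
    have hhY : (h : N) ∈ Y := Y'.normalCore_le hh
    refine mem_inf.2 ⟨Y'.normalCore_le hh, MonoidHom.mem_ker.2 (Equiv.ext fun m => Subtype.ext ?_)⟩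
    have hmN : m.1 ∈ N := le_normalizer m.2.1
    set mh : H := ⟨⟨m.1, hmN⟩, mem_sup_right (m.2.1 : (⟨m.1, hmN⟩ : N) ∈ M')⟩
    have h1 : (mh * h * mh⁻¹ : H) ∈ Y' := Y'.normalCore_le ((normalCore_normal Y').conj_mem h hh mh)
    have h2 : ⁅(mh : N), (h : N)⁆ ∈ Y ⊓ M' := by
      refine mem_inf.2 ⟨mul_mem h1 (inv_mem hhY), ?_⟩
      rw [commutatorElement_def, mul_assoc (mh : N) (h : N), mul_assoc (mh : N)]
      exact mul_mem m.2.1 (hM'n.conj_mem _ (inv_mem (m.2.1 : (mh : N) ∈ M')) h)
    rw [hdisj, mem_bot, commutatorElement_eq_one_iff_mul_comm] at h2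
    exact mul_inv_eq_iff_eq_mul.2 (congrArg Subtype.val h2).symm
  have h24 : 24 ≤ Nat.card f.range := by
    rw [← index_ker]
    refine le_trans ?_ (Nat.le_of_dvd (Nat.pos_of_ne_zero index_ne_zero_of_finite) (index_dvd_of_le hker))
    rw [← relIndex_mul_index (inf_le_left : Y' ⊓ (ψ.comp H.subtype).ker ≤ Y'), hidx, inf_relIndex_left,
      relIndex_ker]
    have : (Y'.map (ψ.comp H.subtype)) = (ψ.comp Y.subtype).range := by
      rw [← Subgroup.map_map, hY', subgroupOf_map_subtype, inf_eq_left.2 le_sup_left,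
        ← MonoidHom.map_range, range_subtype]
    rw [this]
    omega
  have hq4 : Nat.card (H ⧸ Y') = 4 := hidx
  haveI := Fintype.ofFinite (H ⧸ Y')
  have hfs : Function.Surjective f := by
    rw [← MonoidHom.range_eq_top]
    refine eq_top_of_le_card _ (le_trans (le_of_eq ?_) h24)
    rw [Nat.card_perm, hq4]
    rfl
  let e : (H ⧸ Y') ≃ Fin 4 := Fintype.equivFinOfCardEq (by rw [← Nat.card_eq_fintype_card, hq4])
  exact involves_of_subgroup (involves_iff.2 ⟨H, e.permCongrHom.toMonoidHom.comp f,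
    e.permCongrHom.surjective.comp hfs⟩)

end Cfsg.Agent.PComplement
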