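import Cfsg.Agent.Lib.PComplement.Offender
import Cfsg.Agent.Lib.PComplement.SFour
import Cfsg.Agent.Lib.PComplement.GlaubermanThompson

/-!
# Thompson's normal p-complement theorem for p = 2 and S₄-free groups

`thompsonATwoComplement`: if S₄ is not involved in `G` and the normaliser of J(P) (abelian version)
and the centraliser of Z(P) have normal 2-complements, so does `G`.
-/

namespace Cfsg.Agent.PComplement

open Subgroup
open scoped commutatorElement

universe u

variable {G : Type u} [Group G] [Finite G] {p : ℕ} [Fact p.Prime]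

omit [Finite G] [Fact p.Prime] in
/-- A p'-element normalising an abelian p-subgroup and centralising its elements of order p
centralises it. -/
theorem commute_of_omega_abelian (Z : Subgroup G) (hZc : IsMulCommutative Z) (hZ : IsPGroup p Z)
    {k : G} (hk : (orderOf k).Coprime p) (hkZ : ∀ x ∈ Z, k * x * k⁻¹ ∈ Z)
    (hfix : ∀ x ∈ Z, x ^ p = 1 → Commute x k) : ∀ x ∈ Z, Commute x k := by
  have key : ∀ n : ℕ, ∀ x ∈ Z, x ^ p ^ n = 1 → Commute x k := by
    intro n
    induction n with
    | zero => intro x _ hx; rw [pow_zero, pow_one] at hx; rw [hx]; exact Commute.one_left k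
    | succ n ih =>
      intro x hx hxn
      set d := k * x * k⁻¹ * x⁻¹ with hd
      have hdZ : d ∈ Z := mul_mem (hkZ x hx) (inv_mem hx)
      have hcomm : Commute (k * x * k⁻¹) x :=
        congrArg Subtype.val (hZc.is_comm.comm ⟨_, hkZ x hx⟩ ⟨x, hx⟩)
      have hxp : Commute (x ^ p) k := ih _ (pow_mem hx p) (by rw [← pow_mul, ← pow_succ']; exact hxn)
      have hdp : d ^ p = 1 := by
        rw [hd, hcomm.inv_right.mul_pow, conj_pow, hxp.eq.symm, mul_inv_cancel_right, inv_pow,
          mul_inv_cancel]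
      have hdk : Commute d k := hfix d hdZ hdp
      have hpow : ∀ i : ℕ, k ^ i * x * (k ^ i)⁻¹ = d ^ i * x := by
        intro i
        induction i with
        | zero => simp
        | succ i ihi =>
          calc k ^ (i + 1) * x * (k ^ (i + 1))⁻¹ = k * (k ^ i * x * (k ^ i)⁻¹) * k⁻¹ := by
                rw [pow_succ', mul_inv_rev]; simp only [mul_assoc]
            _ = k * (d ^ i * x) * k⁻¹ := by rw [ihi]
            _ = (k * d ^ i * k⁻¹) * (k * x * k⁻¹) := by group
            _ = d ^ i * (d * x) := by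
                rw [(hdk.pow_left i).eq.symm, mul_inv_cancel_right, show d * x = k * x * k⁻¹ by
                  rw [hd, inv_mul_cancel_right]]
            _ = d ^ (i + 1) * x := by rw [pow_succ, ← mul_assoc]
      have h1 : d ^ orderOf k = 1 := by
        simpa [pow_orderOf_eq_one] using (hpow (orderOf k)).symm
      have h2 : d = 1 := orderOf_eq_one_iff.1 (Nat.eq_one_of_dvd_coprimes hk
        (orderOf_dvd_of_pow_eq_one h1) (orderOf_dvd_of_pow_eq_one hdp))
      exact (mul_inv_eq_iff_eq_mul.1 (mul_inv_eq_one.1 h2)).symm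
  intro x hx
  obtain ⟨n, hn⟩ := hZ ⟨x, hx⟩
  exact key n x hx (congrArg Subtype.val hn)

/-- In a minimal configuration for p = 2 without S₄, all abelian subgroups of largest order lie in
`O_2 G` if `C(Z(P))` has a normal 2-complement. -/
theorem Config.member_le_core_two {P : Sylow p G} (h : Config p P) (hp : p = 2)
    (hS4 : ¬ Cfsg.Involves (Equiv.Perm (Fin 4)) G)
    (hz : Cfsg.HasNormalPComplement p
      ↥(centralizer ((zOf (P : Subgroup G)) : Set G))) {A : Subgroup G}
    (hA : IsMember False p P A) : A ≤ Cfsg.pCore p G := by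
  set U := Cfsg.pCore p G with hU
  haveI : (zOf U).Normal := zOf_normal
  have hUP : U ≤ (P : Subgroup G) := PCore.pCore_le_sylow P
  have hZc := isMulCommutative_zOf U
  let V : Subgroup G :=
    { carrier := {x | x ∈ zOf U ∧ x ^ p = 1}
      one_mem' := ⟨one_mem _, one_pow p⟩
      mul_mem' := fun {x y} hx hy => ⟨mul_mem hx.1 hy.1, by
        rw [(show Commute x y from congrArg Subtype.val
          (hZc.is_comm.comm ⟨x, hx.1⟩ ⟨y, hy.1⟩)).mul_pow, hx.2, hy.2, one_mul]⟩
      inv_mem' := fun {x} hx => ⟨inv_mem hx.1, by rw [inv_pow, hx.2, inv_one]⟩ }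
  haveI hVn : V.Normal := ⟨fun x hx g => ⟨(inferInstance : (zOf U).Normal).conj_mem x hx.1 g,
    by rw [conj_pow, hx.2, mul_one, mul_inv_cancel]⟩⟩
  have hVU : V ≤ U := fun x hx => hx.1.1
  have hUV : U ≤ centralizer (V : Set G) := fun u hu => mem_centralizer_iff.2 fun x hx =>
    (mem_centralizer_iff.1 hx.1.2 u hu).symm
  by_cases hC : centralizer (V : Set G) ≤ (P : Subgroup G)
  · have hCU : centralizer (V : Set G) ≤ U := le_core_of_le_sylow (P := P) _ hC
    letI : CommGroup V := { (inferInstance : Group V) with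
      mul_comm := fun x y => Subtype.ext (congrArg Subtype.val
        (hZc.is_comm.comm ⟨x, x.2.1⟩ ⟨y, y.2.1⟩) :) }
    let φ : G →* MulAut V := MulAut.conjNormal (H := V)
    have hφ : ∀ g, g ∈ φ.ker ↔ g ∈ U := by
      intro g
      rw [MonoidHom.mem_ker]
      constructor
      · intro hg
        refine hCU (mem_centralizer_iff.2 fun x hx => ?_)
        have := congrArg Subtype.val (DFunLike.congr_fun hg (⟨x, hx⟩ : V))
        exact (mul_inv_eq_iff_eq_mul.1 this).symm
      · intro hg
        ext x
        show g * (x : G) * g⁻¹ = x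
        rw [← mem_centralizer_iff.1 (hUV hg) x x.2, mul_inv_cancel_right]
    set gens : Set (MulAut V) := φ '' {k | (orderOf k).Coprime p} with hgens
    set W := closure gens with hWdef
    have hgc : ∀ x ∈ gens, ∀ y ∈ gens, x * y = y * x := by
      rintro _ ⟨j, hj, rfl⟩ _ ⟨k, hk, rfl⟩
      rw [← commutatorElement_eq_one_iff_mul_comm, ← map_commutatorElement]
      exact (hφ _).2 (h.comm j k hj hk)
    haveI hWc : IsMulCommutative W := Subgroup.isMulCommutative_closure hgc
    have hWcop : ∀ w ∈ W, (orderOf w).Coprime p := by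
      intro w hw
      induction hw using closure_induction with
      | mem y hy => obtain ⟨k, hk, rfl⟩ := hy; exact hk.coprime_dvd_left (orderOf_map_dvd φ k)
      | one => rw [orderOf_one]; exact Nat.coprime_one_left p
      | mul y z hy hz ihy ihz =>
        exact (ihy.mul_left ihz).coprime_dvd_left
          (Commute.orderOf_mul_dvd_mul_orderOf
            (congrArg Subtype.val (hWc.is_comm.comm ⟨y, hy⟩ ⟨z, hz⟩)))
      | inv y _ ih => rwa [orderOf_inv]
    have hWcard : (Nat.card W).Coprime p := by
      refine (Nat.Prime.coprime_iff_not_dvd Fact.out).2 (fun hd => ?_) |>.symm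
      obtain ⟨w, hw⟩ := exists_prime_orderOf_dvd_card' p hd
      have := hWcop w w.2
      rw [Subgroup.orderOf_coe, hw, Nat.coprime_self] at this
      exact (Fact.out : p.Prime).ne_one this
    have hWconj : ∀ g : G, ∀ w ∈ W, φ g * w * (φ g)⁻¹ ∈ W := by
      intro g w hw
      have hle : W ≤ W.comap (MulAut.conj (φ g)).toMonoidHom := by
        conv_lhs => rw [hWdef]
        rw [closure_le]
        rintro _ ⟨k, hk, rfl⟩
        refine subset_closure ⟨g * k * g⁻¹, ?_, by simp⟩
        show (orderOf (g * k * g⁻¹)).Coprime p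
        rwa [show g * k * g⁻¹ = MulAut.conj g k from rfl, MulEquiv.orderOf_eq]
      exact hle hw
    have hfaith : ∀ g ∈ (P : Subgroup G), (∀ w ∈ W, Commute (φ g) w) → g ∈ U := by
      intro g hg hgW
      set N := (centralizer (W : Set (MulAut V))).comap φ with hN
      have hmemN : ∀ x, x ∈ N ↔ ∀ w ∈ W, Commute (φ x) w := fun x =>
        ⟨fun hx w hw => (mem_centralizer_iff.1 hx w hw).symm,
          fun hx => mem_centralizer_iff.2 fun w hw => (hx w hw).eq.symm⟩
      haveI hNn : N.Normal := ⟨fun x hx c => (hmemN _).2 fun w hw => by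
        have h1 := (hmemN x).1 hx _ (hWconj c⁻¹ w hw)
        have h2 := h1.map (MulAut.conj (φ c)).toMonoidHom
        simpa [mul_assoc] using h2⟩
      haveI : (N ⊓ (P : Subgroup G)).Normal := by
        refine h.normal_of (fun x hx => ?_) (fun k hk => ?_)
        · refine mem_normalizer_iff.2 fun m => ⟨fun hm =>
            mem_inf.2 ⟨hNn.conj_mem m hm.1 x, mul_mem (mul_mem (show x ∈ (P : Subgroup G) from hx) hm.2) (inv_mem (show x ∈ (P : Subgroup G) from hx))⟩, fun hm => ?_⟩
          refine ⟨?_, ?_⟩
          · simpa [mul_assoc] using hNn.conj_mem _ hm.1 x⁻¹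
          · have h2 : x⁻¹ * (x * m * x⁻¹) * x ∈ (P : Subgroup G) :=
              mul_mem (mul_mem (inv_mem (show x ∈ (P : Subgroup G) from hx)) hm.2) (show x ∈ (P : Subgroup G) from hx)
            rwa [show x⁻¹ * (x * m * x⁻¹) * x = m by group] at h2
        · have hc : ∀ c : G, (orderOf c).Coprime p → ∀ m ∈ N ⊓ (P : Subgroup G),
              c * m * c⁻¹ ∈ N ⊓ (P : Subgroup G) := by
            intro c hc m hm
            have h1 : ⁅c, m⁆ ∈ U := by
              rw [← hφ, MonoidHom.mem_ker, map_commutatorElement,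
                commutatorElement_eq_one_iff_commute]
              exact ((hmemN m).1 hm.1 _ (subset_closure ⟨c, hc, rfl⟩)).symm
            refine ⟨hNn.conj_mem m hm.1 c, ?_⟩
            rw [show c * m * c⁻¹ = ⁅c, m⁆ * m by rw [commutatorElement_def, inv_mul_cancel_right]]
            exact mul_mem (hUP h1) hm.2
          refine mem_normalizer_iff.2 fun m => ⟨hc k hk m, fun hm => ?_⟩
          simpa [mul_assoc] using hc k⁻¹ (by rwa [orderOf_inv]) _ hm
      exact le_core_of_le_sylow (P := P) _ inf_le_right ⟨(hmemN g).2 hgW, hg⟩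
    have hS3 : NoS3 φ.range := by
      intro M c t hc ht hM hcM htM hcfix htfix
      by_contra htne
      obtain ⟨c, rfl⟩ := hc
      obtain ⟨t, rfl⟩ := ht
      refine hS4 (involves_sfour (M.map V.subtype) ?_ (c := c) (t := t) ?_ ?_ ?_ ?_ ?_)
      · rw [← Nat.card_congr (M.equivMapOfInjective V.subtype Subtype.coe_injective).toEquiv, hM]
      any_goals
        rw [mem_normalizer_iff_map_conj_eq]
        refine eq_of_le_of_card_ge ?_ (le_of_eq
          (Nat.card_congr (((M.map V.subtype).equivMapOfInjective _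
            (MulEquiv.injective _)).toEquiv)))
        rintro _ ⟨_, ⟨m, hm, rfl⟩, rfl⟩
      · exact ⟨_, hcM m hm, rfl⟩
      · exact ⟨_, htM m hm, rfl⟩
      · rintro _ ⟨m, hm, rfl⟩ hcomm
        rw [hcfix m hm (Subtype.ext (mul_inv_eq_iff_eq_mul.2 hcomm.eq)), map_one]
      · obtain ⟨m, hm, hm1, hfix⟩ := htfix
        exact ⟨_, ⟨m, hm, rfl⟩, fun e => hm1 (Subtype.ext e),
          mul_inv_eq_iff_eq_mul.1 (congrArg Subtype.val hfix)⟩
      · intro hall
        exact htne fun m hm => Subtype.ext (mul_inv_eq_iff_eq_mul.2 (hall _ ⟨m, hm, rfl⟩).eq)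
    by_contra hne
    have hWΓ : W ≤ φ.range := by
      rw [hWdef, closure_le]
      rintro _ ⟨k, -, rfl⟩
      exact ⟨k, rfl⟩
    have hAc : IsMulCommutative (A.map φ) := by
      constructor; constructor
      rintro ⟨_, a, ha, rfl⟩ ⟨_, b, hb, rfl⟩
      refine Subtype.ext ?_
      show φ a * φ b = φ b * φ a
      rw [← map_mul, ← map_mul]
      exact congrArg φ (congrArg Subtype.val (hA.1.2.1.is_comm.comm ⟨a, ha⟩ ⟨b, hb⟩))
    have hbound := no_offender_two hp (fun v => Subtype.ext v.2.2) W hWcard φ.range hWΓ hS3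
      (A.map φ) (map_le_range φ A) hAc ((P.2.to_le hA.1.1).map φ)
      (by rintro _ ⟨a, -, rfl⟩ w hw; exact hWconj a w hw)
      (by rintro _ ⟨a, ha, rfl⟩ hcomm; exact MonoidHom.mem_ker.1 ((hφ a).2 (hfaith a (hA.1.1 ha) hcomm)))
      (fun hbot => hne fun a ha => (hφ a).1 (MonoidHom.mem_ker.2 (by
        rw [← Subgroup.mem_bot, ← hbot]; exact ⟨a, ha, rfl⟩)))
    -- compare A with (A ⊓ U) ⊔ V
    set A₀ := A ⊓ U with hA₀
    have hcl : ∀ x ∈ (A₀ : Set G) ∪ (V : Set G), ∀ y ∈ (A₀ : Set G) ∪ (V : Set G), x * y = y * x := by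
      rintro x (hx | hx) y (hy | hy)
      · exact congrArg Subtype.val (hA.1.2.1.is_comm.comm ⟨x, hx.1⟩ ⟨y, hy.1⟩)
      · exact mem_centralizer_iff.1 hy.1.2 x hx.2
      · exact (mem_centralizer_iff.1 hx.1.2 y hy.2).symm
      · exact congrArg Subtype.val (hZc.is_comm.comm ⟨x, hx.1⟩ ⟨y, hy.1⟩)
    have hB : IsCand False p P (V ⊔ A₀) := by
      refine ⟨sup_le (hVU.trans hUP) (inf_le_left.trans hA.1.1), ?_, False.elim⟩
      rw [sup_comm, sup_eq_closure]
      exact Subgroup.isMulCommutative_closure hcl
    have hVA : V ≤ normalizer (A₀ : Set G) := fun x hx => centralizer_le_normalizer _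
      (mem_centralizer_iff.2 fun y hy => mem_centralizer_iff.1 hx.1.2 y hy.2)
    have h1 := hA.2 _ hB
    have h2 : Nat.card ↥(V ⊔ A₀) = Nat.card A₀ * A₀.relIndex V := by
      rw [← Coprime.relIndex_sup_right_of_le_normalizer hVA, ← card_mul_index (A₀.subgroupOf (V ⊔ A₀)),
        Coprime.card_subgroupOf le_sup_right]
      rfl
    have h3 : (fixedBy' (A.map φ)).index ≤ A₀.relIndex V := by
      refine Nat.le_of_dvd (Nat.pos_of_ne_zero index_ne_zero_of_finite) (index_dvd_of_le ?_)
      rintro ⟨x, hx⟩ hxA _ ⟨a, ha, rfl⟩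
      apply Subtype.ext
      show a * x * a⁻¹ = x
      have hax : a * x = x * a :=
        congrArg Subtype.val (hA.1.2.1.is_comm.comm ⟨a, ha⟩ ⟨x, (mem_inf.1 hxA).1⟩)
      rw [hax, mul_inv_cancel_right]
    have h4 : Nat.card A = Nat.card A₀ * Nat.card (A.map φ) := by
      have e : (φ.comp A.subtype).ker = A₀.subgroupOf A := by
        ext a
        rw [MonoidHom.mem_ker, mem_subgroupOf, hA₀, mem_inf, ← hφ, MonoidHom.mem_ker]
        exact ⟨fun ha => ⟨a.2, ha⟩, fun ha => ha.2⟩
      rw [← card_mul_index (φ.comp A.subtype).ker, index_ker, e,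
        Coprime.card_subgroupOf inf_le_left, ← MonoidHom.map_range, range_subtype]
    rw [h2, h4] at h1
    have h5 := Nat.le_of_mul_le_mul_left h1 Nat.card_pos
    have h6 : p * Nat.card (A.map φ) ≤ Nat.card (A.map φ) := hbound.trans (h3.trans h5)
    subst hp
    have := Nat.card_pos (α := A.map φ)
    omega
  · exfalso
    -- all p'-elements centralise Z(P), so G has a normal p-complement and no p'-elements
    have hcent : ∀ k : G, (orderOf k).Coprime p → k ∈ centralizer ((zOf (P : Subgroup G)) : Set G) := by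
      intro k hk
      refine mem_centralizer_iff.2 fun z hz' => ?_
      have hzC : z ∈ centralizer (U : Set G) := centralizer_le hUP hz'.2
      exact (commute_of_omega_abelian (zOf U) hZc (P.2.to_le (inf_le_left.trans hUP)) hk
        (fun x hx => (inferInstance : (zOf U).Normal).conj_mem x hx k)
        (fun x hx hxp => mem_centralizer_iff.1 (h.mem_of_coprime _ hC hk) x ⟨hx, hxp⟩)
        z (mem_inf.2 ⟨h.cent hzC, hzC⟩)).eq
    set C := centralizer ((zOf (P : Subgroup G)) : Set G)
    have hCtop : C = ⊤ := by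
      have hPC : (P : Subgroup G) ≤ C := fun x hx =>
        mem_centralizer_iff.2 fun z hz => (mem_centralizer_iff.1 hz.2 x hx).symm
      rcases h.coatom.le_iff.1 hPC with hh | hh
      · exact hh
      · exfalso
        have hG : IsPGroup p (⊤ : Subgroup G) := isPrimePow_orderOf_of_forall fun k _ hk =>
          eq_one_of_mem_sylow (P := P) (hh ▸ hcent k hk) hk
        exact h.coatom.1 (P.3 hG le_top).symm
    have hG' : Cfsg.HasNormalPComplement p G := by
      rw [hCtop] at hz
      exact Transfer.hasNormalPComplement_of_injective (topEquiv (G := G)).symm.toMonoidHom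
        (topEquiv (G := G)).symm.injective hz
    have htriv : ∀ k : G, (orderOf k).Coprime p → k = 1 := by
      intro k hk
      haveI := Transfer.pResidual_normal (G := G) p
      refine eq_one_of_mem_sylow (P := P) (hUP (h.cent (mem_centralizer_iff.2 fun u hu => ?_))) hk
      have h1 : ⁅u, k⁆ ∈ Cfsg.pResidual p G := commutator_le_right ⊤ _
        (commutator_mem_commutator (mem_top u) ((Transfer.mem_pResidual_iff hG' k).2 hk))
      have h2 : ⁅u, k⁆ ∈ U := commutator_le_left U ⊤ (commutator_mem_commutator hu (mem_top k))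
      exact commutatorElement_eq_one_iff_mul_comm.1
        (eq_one_of_mem_sylow (P := P) (hUP h2) ((Transfer.mem_pResidual_iff hG' _).1 h1))
    have hG : IsPGroup p (⊤ : Subgroup G) := isPrimePow_orderOf_of_forall fun k _ hk => htriv k hk
    exact h.coatom.1 (P.3 hG le_top).symm

/-- **Thompson's normal p-complement theorem** for p = 2, abelian version of J, S₄-free groups. -/
theorem thompsonATwoComplement (hp : p = 2) (hS4 : ¬ Cfsg.Involves (Equiv.Perm (Fin 4)) G)
    (P : Sylow p G)
    (hJ : Cfsg.HasNormalPComplement p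
      ↥(normalizer (Cfsg.thompsonSubgroupAOf (P : Subgroup G) : Set G)))
    (hZ : Cfsg.HasNormalPComplement p ↥(centralizer ((zOf (P : Subgroup G)) : Set G))) :
    Cfsg.HasNormalPComplement p G := by
  refine reduction (W := jAFunctor) True (fun X _ => ¬ Cfsg.Involves (Equiv.Perm (Fin 4)) X)
    isCharPFunctor_jA (fun _ _ _ _ h h' => h (involves_of_subgroup h'))
    (fun _ _ _ _ _ h h' => h (involves_of_quotient h'))
    (fun G _ _ P hG hc _ hl => ?_) G hS4 P ⟨hJ, fun _ => hZ⟩
  exact jA_normal_of_le fun A hA => hc.member_le_core_two hp hG (hl.2 trivial) hA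

end Cfsg.Agent.PComplement
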