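import Mathlib.GroupTheory.OrderOfElement
import Mathlib.GroupTheory.SpecificGroups.Cyclic
import Mathlib.Algebra.Module.End
import Mathlib.GroupTheory.Sylow
import Mathlib.Tactic.NoncommRing

/-!
# Quadratic automorphisms and coprime abelian groups

A quadratic automorphism `a` of an abelian group of odd order commutes with every automorphism `w`
of coprime order that commutes with `a w a⁻¹` and `a⁻¹ w a`. In particular, no automorphism of
order p (p odd) normalising an abelian p'-group without centralising it fixes a subgroup of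
index p pointwise.
-/

namespace Cfsg.Agent.PComplement

theorem comm_of_quadratic_ring {R : Type*} [Ring R] {N w : R} {n : ℕ}
    (hN : N * N = 0) (hw : w ^ n = 1)
    (hc1 : w * ((1 + N) * w * (1 - N)) = (1 + N) * w * (1 - N) * w)
    (hc2 : w * ((1 - N) * w * (1 + N)) = (1 - N) * w * (1 + N) * w)
    (h2 : ∀ x : R, x + x = 0 → x = 0) (hn : ∀ x : R, n • x = 0 → x = 0) :
    N * w = w * N := by
  set d := N * w - w * N with hd
  have hdw : w * d = d * w := by
    rw [← sub_eq_zero]
    apply h2
    have e : w * d - d * w + (w * d - d * w) =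
        (w * ((1 + N) * w * (1 - N)) - (1 + N) * w * (1 - N) * w) -
        (w * ((1 - N) * w * (1 + N)) - (1 - N) * w * (1 + N) * w) := by
      rw [hd]; noncomm_ring
    rw [e, hc1, hc2, sub_self, sub_self, sub_zero]
  have hk : ∀ k : ℕ, N * w ^ (k + 1) = w ^ (k + 1) * N + (k + 1) • (d * w ^ k) := by
    intro k
    induction k with
    | zero => rw [zero_add, one_smul, pow_zero, mul_one, pow_one, hd, add_sub_cancel]
    | succ k ih =>
      have hwd : w ^ (k + 1) * d = d * w ^ (k + 1) :=
        ((show Commute w d from hdw).pow_left (k + 1)).eq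
      calc N * w ^ (k + 1 + 1) = N * w ^ (k + 1) * w := by rw [pow_succ, mul_assoc]
        _ = w ^ (k + 1) * (w * N + d) + (k + 1) • (d * w ^ k * w) := by
          rw [ih, add_mul, smul_mul_assoc, mul_assoc _ N w, hd, add_sub_cancel]
        _ = w ^ (k + 1 + 1) * N + (k + 1 + 1) • (d * w ^ (k + 1)) := by
          rw [mul_add, ← mul_assoc, ← pow_succ, hwd, mul_assoc d (w ^ k) w, ← pow_succ,
            succ_nsmul _ (k + 1)]
          abel
  rcases n with _ | m
  · exact sub_eq_zero.1 (hn _ (zero_nsmul _))
  · have h := hk m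
    rw [hw, mul_one, one_mul, left_eq_add] at h
    have h0 : d * w ^ m = 0 := hn _ h
    have : d = 0 := by
      rw [← mul_one d, ← hw, pow_succ, ← mul_assoc, h0, zero_mul]
    exact sub_eq_zero.1 this

variable {V : Type*} [CommGroup V]

/-- An automorphism as an element of the endomorphism ring. -/
def endHom : MulAut V →* AddMonoid.End (Additive V) where
  toFun f := f.toMonoidHom.toAdditive
  map_one' := rfl
  map_mul' _ _ := rfl

theorem endHom_apply (f : MulAut V) (v : V) :
    endHom f (Additive.ofMul v) = Additive.ofMul (f v) := rfl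

theorem endHom_injective : Function.Injective (endHom (V := V)) := by
  intro f g h
  ext v
  exact Additive.ofMul.injective (DFunLike.congr_fun h (Additive.ofMul v))

/-- A quadratic automorphism of an abelian group of odd order commutes with every `w` of coprime
order commuting with `a w a⁻¹` and `a⁻¹ w a`. -/
theorem commute_of_quadratic {a w : MulAut V} (hodd : Odd (Nat.card V))
    (hw : (orderOf w).Coprime (Nat.card V)) (hq : ∀ v : V, a (a v / v) = a v / v)
    (h1 : Commute w (a * w * a⁻¹)) (h2 : Commute w (a⁻¹ * w * a)) : Commute a w := by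
  set N : AddMonoid.End (Additive V) := endHom a - 1 with hNdef
  have hN : N * N = 0 := by
    apply AddMonoidHom.ext
    intro x
    obtain ⟨v, rfl⟩ := Additive.ofMul.surjective x
    show endHom a (endHom a (Additive.ofMul v) - Additive.ofMul v) -
      (endHom a (Additive.ofMul v) - Additive.ofMul v) = 0
    rw [endHom_apply, ← ofMul_div, endHom_apply, hq v, sub_self]
  have ha : endHom a = 1 + N := by rw [hNdef, add_sub_cancel]
  have hai : endHom a⁻¹ = 1 - N := by
    have h : endHom a * (1 - N) = 1 := by
      rw [ha, mul_sub, mul_one, add_mul, one_mul, hN, add_zero, add_sub_cancel_right]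
    calc endHom a⁻¹ = endHom a⁻¹ * (endHom a * (1 - N)) := by rw [h, mul_one]
      _ = 1 - N := by rw [← mul_assoc, ← map_mul, inv_mul_cancel, map_one, one_mul]
  have hsc : ∀ (m : ℕ), m.Coprime (Nat.card V) → ∀ x : AddMonoid.End (Additive V),
      m • x = 0 → x = 0 := by
    intro m hm x hx
    apply AddMonoidHom.ext
    intro y
    show x y = 0
    have hx1 : m • (x y) = 0 := DFunLike.congr_fun hx y
    have hx2 : (Additive.toMul (x y)) ^ m = 1 := by
      rw [← toMul_nsmul, hx1]; rfl
    have hx3 : (Additive.toMul (x y)) ^ (Nat.card V) = 1 := pow_card_eq_one'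
    have := orderOf_eq_one_iff.1 (Nat.eq_one_of_dvd_coprimes hm
      (orderOf_dvd_of_pow_eq_one hx2) (orderOf_dvd_of_pow_eq_one hx3))
    exact Additive.toMul.injective this
  have key := comm_of_quadratic_ring (N := N) (w := endHom w) hN
    (by rw [← map_pow, pow_orderOf_eq_one, map_one])
    (by rw [← ha, ← hai, ← map_mul, ← map_mul, ← map_mul, ← map_mul]; exact congrArg endHom h1.eq)
    (by rw [← ha, ← hai, ← map_mul, ← map_mul, ← map_mul, ← map_mul]; exact congrArg endHom h2.eq)
    (fun x hx => hsc 2 (Nat.coprime_two_left.2 hodd) x (by rw [two_nsmul, hx]))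
    (fun x hx => hsc _ hw x hx)
  apply endHom_injective
  rw [map_mul, map_mul, ha, add_mul, mul_add, one_mul, mul_one, key]

/-- An automorphism of order dividing p of a finite abelian p-group acts trivially on the quotient
by a fixed subgroup of index at most p. -/
theorem sub_fixed_of_index_le [Finite V] {p : ℕ} [Fact p.Prime] {a : MulAut V} (F : Subgroup V)
    (hV : IsPGroup p V) (hF : ∀ v ∈ F, a v = v) (hi : F.index ≤ p) (hap : a ^ p = 1) (v : V) :
    a v / v ∈ F := by
  have hp : p.Prime := Fact.out
  obtain ⟨i, hi'⟩ := hV.index F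
  have hile : i ≤ 1 := (Nat.pow_le_pow_iff_right hp.one_lt).1 (by rw [← hi', pow_one]; exact hi)
  interval_cases i
  · rw [pow_zero, Subgroup.index_eq_one] at hi'
    rw [hi']; trivial
  rw [pow_one] at hi'
  have hc : Nat.card (V ⧸ F) = p := hi'
  have hmap : F.map (a : V →* V) = F := by
    ext x
    refine ⟨?_, fun hx => ⟨x, hx, hF x hx⟩⟩
    rintro ⟨y, hy, rfl⟩
    show a y ∈ F
    rw [hF y hy]; exact hy
  let b : MulAut (V ⧸ F) := QuotientGroup.congr F F a hmap
  have hb : ∀ k : ℕ, ∀ u : V, (b ^ k) (u : V ⧸ F) = (((a ^ k) u : V) : V ⧸ F) := by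
    intro k
    induction k with
    | zero => intro u; rfl
    | succ k ih => intro u; rw [pow_succ, MulAut.mul_apply, pow_succ, MulAut.mul_apply, ← ih]; rfl
  haveI : IsCyclic (V ⧸ F) := isCyclic_of_prime_card hc
  have hbp : b ^ p = 1 := by
    ext x
    induction x using QuotientGroup.induction_on with | _ u =>
    rw [hb, hap]; rfl
  have hb1 : b = 1 := by
    rw [← orderOf_eq_one_iff]
    have h1 : orderOf b ∣ p - 1 := by
      have := orderOf_dvd_natCard b
      rwa [IsCyclic.card_mulAut, hc, Nat.totient_prime hp] at this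
    refine Nat.eq_one_of_dvd_coprimes ?_ (orderOf_dvd_of_pow_eq_one hbp) h1
    rw [hp.coprime_iff_not_dvd]
    intro h
    have := Nat.le_of_dvd (by have := hp.two_le; omega) h
    have := hp.two_le
    omega
  rw [← QuotientGroup.eq_one_iff, QuotientGroup.mk_div, div_eq_one]
  have := DFunLike.congr_fun hb1 (v : V ⧸ F)
  exact this

end Cfsg.Agent.PComplement
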