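import Mathlib.GroupTheory.OrderOfElement
import Mathlib.GroupTheory.Subgroup.Centralizer
import Mathlib.Algebra.BigOperators.Group.Finset.Basic
import Mathlib.Data.ZMod.Basic
import Mathlib.Algebra.Field.ZMod
import Mathlib.Tactic.Group
import Mathlib.GroupTheory.Sylow

/-!
# A norm identity for two commuting elements acting on a commutative p'-group

If `b`, `y` commute, their p-th powers centralise `w`, and every element of `W` centralised by one
of the p+1 "lines" `b y^l`, `y` (and by the p-th powers) lies in `C`, then `w ∈ C`.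
-/

namespace Cfsg.Agent.PComplement

open Subgroup

theorem mem_of_rank_two {G : Type*} [Group G] {p : ℕ} [Fact p.Prime] (W C : Subgroup G)
    [IsMulCommutative W] {b y w : G} (hby : Commute b y) (hw : w ∈ W)
    (hwp : (orderOf w).Coprime p)
    (hb : ∀ u ∈ W, b * u * b⁻¹ ∈ W) (hy : ∀ u ∈ W, y * u * y⁻¹ ∈ W)
    (hbw : Commute (b ^ p) w) (hyw : Commute (y ^ p) w)
    (hline : ∀ l : ℕ, ∀ u ∈ W, Commute (b ^ p) u → Commute (y ^ p) u →
      Commute (b * y ^ l) u → u ∈ C)
    (hy' : ∀ u ∈ W, Commute (b ^ p) u → Commute (y ^ p) u → Commute y u → u ∈ C) : w ∈ C := by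
  letI : CommGroup W := { (inferInstance : Group W) with mul_comm := fun a b => mul_comm' a b }
  have hpowb : ∀ n : ℕ, ∀ u ∈ W, b ^ n * u * (b ^ n)⁻¹ ∈ W := by
    intro n
    induction n with
    | zero => intro u hu; simpa using hu
    | succ n ih =>
      intro u hu
      have := hb _ (ih u hu)
      simpa [pow_succ', mul_assoc, mul_inv_rev] using this
  have hpowy : ∀ n : ℕ, ∀ u ∈ W, y ^ n * u * (y ^ n)⁻¹ ∈ W := by
    intro n
    induction n with
    | zero => intro u hu; simpa using hu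
    | succ n ih =>
      intro u hu
      have := hy _ (ih u hu)
      simpa [pow_succ', mul_assoc, mul_inv_rev] using this
  let g : ZMod p → ZMod p → W := fun i j =>
    ⟨b ^ i.val * (y ^ j.val * w * (y ^ j.val)⁻¹) * (b ^ i.val)⁻¹, hpowb _ _ (hpowy _ _ hw)⟩
  have hg : ∀ (n m : ℕ), ((g (n : ZMod p) (m : ZMod p) : W) : G) =
      (b ^ n * y ^ m) * w * (b ^ n * y ^ m)⁻¹ := by
    intro n m
    have e1 : b ^ n * y ^ m =
        b ^ (n % p) * y ^ (m % p) * ((b ^ p) ^ (n / p) * (y ^ p) ^ (m / p)) := by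
      conv_lhs => rw [← Nat.mod_add_div n p, ← Nat.mod_add_div m p, pow_add, pow_add, pow_mul, pow_mul]
      have hc : Commute ((b ^ p) ^ (n / p)) (y ^ (m % p)) :=
        ((hby.pow_pow p (m % p)).pow_left _)
      rw [mul_assoc, ← mul_assoc ((b ^ p) ^ (n / p)), hc.eq, mul_assoc, ← mul_assoc (b ^ (n % p))]
    have hcw : Commute ((b ^ p) ^ (n / p) * (y ^ p) ^ (m / p)) w :=
      (hbw.pow_left _).mul_left (hyw.pow_left _)
    rw [e1]
    show b ^ (n : ZMod p).val * (y ^ (m : ZMod p).val * w * (y ^ (m : ZMod p).val)⁻¹) *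
      (b ^ (n : ZMod p).val)⁻¹ = _
    rw [ZMod.val_natCast, ZMod.val_natCast]
    have hh : ((b ^ p) ^ (n / p) * (y ^ p) ^ (m / p)) * w *
        ((b ^ p) ^ (n / p) * (y ^ p) ^ (m / p))⁻¹ = w := by
      rw [hcw.eq, mul_inv_cancel_right]
    calc _ = b ^ (n % p) * y ^ (m % p) * (((b ^ p) ^ (n / p) * (y ^ p) ^ (m / p)) * w *
        ((b ^ p) ^ (n / p) * (y ^ p) ^ (m / p))⁻¹) * (b ^ (n % p) * y ^ (m % p))⁻¹ := by
          rw [hh]; group
      _ = _ := by group
  have hcomm : ∀ i j : ZMod p, Commute (b ^ p) ((g i j : W) : G) ∧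
      Commute (y ^ p) ((g i j : W) : G) := by
    intro i j
    have h0 := hg i.val j.val
    rw [ZMod.natCast_zmod_val, ZMod.natCast_zmod_val] at h0
    rw [h0]
    have hbx : Commute (b ^ p) (b ^ i.val * y ^ j.val) :=
      (Commute.pow_pow_self b p i.val).mul_right (hby.pow_pow p j.val)
    have hyx : Commute (y ^ p) (b ^ i.val * y ^ j.val) :=
      ((hby.pow_pow i.val p).symm).mul_right (Commute.pow_pow_self y p j.val)
    exact ⟨(hbx.mul_right hbw).mul_right hbx.inv_right,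
      (hyx.mul_right hyw).mul_right hyx.inv_right⟩
  let S : Subgroup G := W ⊓ centralizer {b ^ p} ⊓ centralizer {y ^ p}
  have hmemS : ∀ {ι : Type} (s : Finset ι) (f : ι → ZMod p × ZMod p),
      ((∏ i ∈ s, g (f i).1 (f i).2 : W) : G) ∈ S := by
    intro ι s f
    have : (∏ i ∈ s, g (f i).1 (f i).2 : W) ∈ S.subgroupOf W := by
      refine Subgroup.prod_mem _ fun i _ => ?_
      refine ⟨⟨(g _ _).2, ?_⟩, ?_⟩
      · exact mem_centralizer_singleton_iff.2 (hcomm _ _).1.eq.symm
      · exact mem_centralizer_singleton_iff.2 (hcomm _ _).2.eq.symm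
    exact this
  have hS : ∀ {u : G}, u ∈ S → Commute (b ^ p) u ∧ Commute (y ^ p) u := fun hu =>
    ⟨(mem_centralizer_singleton_iff.1 hu.1.2).symm, (mem_centralizer_singleton_iff.1 hu.2).symm⟩
  -- conjugation as a homomorphism of W
  let cj : ∀ x : G, (∀ u ∈ W, x * u * x⁻¹ ∈ W) → (W →* W) := fun x hx =>
    { toFun := fun u => ⟨x * (u : G) * x⁻¹, hx u u.2⟩
      map_one' := Subtype.ext (by simp)
      map_mul' := fun u v => Subtype.ext (by simp [mul_assoc]) }
  have hxW : ∀ l : ℕ, ∀ u ∈ W, (b * y ^ l) * u * (b * y ^ l)⁻¹ ∈ W := by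
    intro l u hu
    have := hb _ (hpowy l u hu)
    simpa [mul_assoc, mul_inv_rev] using this
  have hshift : ∀ l : ℕ, ∀ i j : ZMod p,
      cj (b * y ^ l) (hxW l) (g i j) = g (i + 1) (j + (l : ZMod p)) := by
    intro l i j
    apply Subtype.ext
    have h1 := hg i.val j.val
    have h2 := hg (i.val + 1) (j.val + l)
    rw [ZMod.natCast_zmod_val, ZMod.natCast_zmod_val] at h1
    push_cast [ZMod.natCast_zmod_val] at h2
    show b * y ^ l * (g i j : G) * (b * y ^ l)⁻¹ = _
    rw [h1, h2]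
    have e : b * y ^ l * (b ^ i.val * y ^ j.val) = b ^ (i.val + 1) * y ^ (j.val + l) := by
      rw [pow_succ', Nat.add_comm j.val l, pow_add, mul_assoc b, mul_assoc b,
        ← mul_assoc (y ^ l), ((hby.pow_pow i.val l).symm).eq, mul_assoc]
    rw [← e]; group
  have hyshift : ∀ j : ZMod p, cj y hy (g 0 j) = g 0 (j + 1) := by
    intro j
    apply Subtype.ext
    have h1 := hg 0 j.val
    have h2 := hg 0 (j.val + 1)
    rw [ZMod.natCast_zmod_val, Nat.cast_zero] at h1
    push_cast [ZMod.natCast_zmod_val] at h2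
    show y * (g 0 j : G) * y⁻¹ = _
    rw [h1, h2, pow_zero, one_mul, one_mul, pow_succ']; group
  have hC : ∀ z : W, ∀ x : G, ∀ hx : (∀ u ∈ W, x * u * x⁻¹ ∈ W),
      cj x hx z = z → Commute x (z : G) := fun z x hx h =>
    mul_inv_eq_iff_eq_mul.1 (congrArg Subtype.val h)
  have hT : ∀ l : ZMod p, ((∏ i : ZMod p, g i (i * l) : W) : G) ∈ C := by
    intro l
    have hmem := hmemS Finset.univ (fun i : ZMod p => (i, i * l))
    refine hline l.val _ (∏ i : ZMod p, g i (i * l) : W).2 (hS hmem).1 (hS hmem).2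
      (hC _ _ (hxW l.val) ?_)
    rw [map_prod]
    simp only [hshift, ZMod.natCast_zmod_val]
    refine (Finset.prod_congr rfl fun i _ => ?_).trans
      (Equiv.prod_comp (Equiv.addRight (1 : ZMod p)) fun i => g i (i * l))
    show g (i + 1) (i * l + l) = g (i + 1) ((i + 1) * l)
    rw [add_mul, one_mul]
  have hTy : ((∏ j : ZMod p, g 0 j : W) : G) ∈ C := by
    have hmem := hmemS Finset.univ (fun j : ZMod p => ((0 : ZMod p), j))
    refine hy' _ (∏ j : ZMod p, g 0 j : W).2 (hS hmem).1 (hS hmem).2 (hC _ _ hy ?_)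
    rw [map_prod]
    simp only [hyshift]
    exact Equiv.prod_comp (Equiv.addRight (1 : ZMod p)) fun j => g 0 j
  have hall : ((∏ x : ZMod p × ZMod p, g x.1 x.2 : W) : G) ∈ C := by
    have hmem := hmemS Finset.univ (fun x : ZMod p × ZMod p => x)
    refine hline 0 _ (∏ x : ZMod p × ZMod p, g x.1 x.2 : W).2 (hS hmem).1 (hS hmem).2
      (hC _ _ (hxW 0) ?_)
    rw [map_prod]
    simp only [hshift, Nat.cast_zero, add_zero]
    exact Equiv.prod_comp ((Equiv.addRight (1 : ZMod p)).prodCongr (Equiv.refl (ZMod p)))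
      fun x => g x.1 x.2
  have hid : (∏ l : ZMod p, ∏ i : ZMod p, g i (i * l)) * ∏ j : ZMod p, g 0 j =
      ⟨w, hw⟩ ^ p * ∏ x : ZMod p × ZMod p, g x.1 x.2 := by
    rw [Finset.prod_comm, Fintype.prod_prod_type]
    rw [← Finset.mul_prod_erase Finset.univ (fun i => ∏ l : ZMod p, g i (i * l)) (Finset.mem_univ 0),
      ← Finset.mul_prod_erase Finset.univ (fun i => ∏ l : ZMod p, g i l) (Finset.mem_univ 0)]
    have h0 : ∏ l : ZMod p, g 0 (0 * l) = ⟨w, hw⟩ ^ p := by
      have hw0 : g 0 0 = ⟨w, hw⟩ := Subtype.ext (by simp [g])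
      simp [hw0, Finset.prod_const, ZMod.card]
    have hne : ∀ i ∈ Finset.univ.erase (0 : ZMod p),
        ∏ l : ZMod p, g i (i * l) = ∏ l : ZMod p, g i l := fun i hi =>
      Equiv.prod_comp (Equiv.mulLeft₀ i (Finset.ne_of_mem_erase hi)) fun l => g i l
    rw [h0, Finset.prod_congr rfl hne, mul_assoc, mul_comm (∏ l : ZMod p, g 0 l)]
  have hlhs : (((∏ l : ZMod p, ∏ i : ZMod p, g i (i * l)) * ∏ j : ZMod p, g 0 j : W) : G) ∈ C := by
    refine mul_mem ?_ hTy
    have : (∏ l : ZMod p, ∏ i : ZMod p, g i (i * l)) ∈ C.subgroupOf W :=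
      Subgroup.prod_mem _ fun l _ => hT l
    exact this
  rw [hid] at hlhs
  have hwpC : w ^ p ∈ C := by
    have := mul_mem hlhs (inv_mem hall)
    simpa using this
  obtain ⟨k, hk⟩ := exists_pow_eq_self_of_coprime (n := p) (x := w) hwp.symm
  rw [← hk]
  exact pow_mem hwpC k

end Cfsg.Agent.PComplement
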