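import Cfsg.Agent.Lib.PComplement.Quadratic
import Cfsg.Agent.Lib.PComplement.RankTwo
import Mathlib.GroupTheory.PGroup
import Mathlib.Algebra.CharP.Lemmas
import Mathlib.GroupTheory.Index
import Mathlib.GroupTheory.Subgroup.Centralizer

/-!
# No offenders over an abelian p'-group (p odd)

If an abelian p-group `A` normalises and acts faithfully on an abelian p'-group `W` of
automorphisms of an elementary abelian p-group `V` (p odd) and `A ≠ 1`, then
`p |A| ≤ |V : C_V(A)|`. For p = 2 the same holds when no S₃ is induced on a four-subgroup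
(`no_offender_two`).
-/

namespace Cfsg.Agent.PComplement

open Subgroup

variable {V : Type*} [CommGroup V]

/-- The elements of `V` fixed by every member of `S`. -/
def fixedBy' (S : Subgroup (MulAut V)) : Subgroup V where
  carrier := {v | ∀ s ∈ S, s v = v}
  one_mem' := fun s _ => map_one s
  mul_mem' := fun {a b} ha hb s hs => by rw [map_mul, ha s hs, hb s hs]
  inv_mem' := fun {a} ha s hs => by rw [map_inv, ha s hs]

theorem mem_fixedBy' {S : Subgroup (MulAut V)} {v : V} :
    v ∈ fixedBy' S ↔ ∀ s ∈ S, s v = v := Iff.rfl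

theorem fixedBy'_anti {S T : Subgroup (MulAut V)} (h : S ≤ T) : fixedBy' T ≤ fixedBy' S :=
  fun _ hv s hs => hv s (h hs)

theorem mem_fixedBy'_sup_zpowers {S : Subgroup (MulAut V)} {g : MulAut V} {v : V} :
    v ∈ fixedBy' (S ⊔ zpowers g) ↔ v ∈ fixedBy' S ∧ g v = v := by
  refine ⟨fun h => ⟨fixedBy'_anti le_sup_left h, h g (mem_sup_right (mem_zpowers g))⟩, ?_⟩
  rintro ⟨h1, h2⟩ s hs
  have : S ⊔ zpowers g ≤ MulAction.stabilizer (MulAut V) v :=
    sup_le (fun s hs => h1 s hs) (zpowers_le.2 h2)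
  exact this hs

theorem apply_mem_fixedBy' {S : Subgroup (MulAut V)} {g : MulAut V}
    (hg : g ∈ centralizer (S : Set (MulAut V))) {v : V} (hv : v ∈ fixedBy' S) :
    g v ∈ fixedBy' S := fun s hs => by
  rw [← MulAut.mul_apply, mem_centralizer_iff.1 hg s hs, MulAut.mul_apply, hv s hs]

/-- The centraliser of `S` acts on the fixed points of `S`. -/
def restrictHom (S : Subgroup (MulAut V)) :
    centralizer (S : Set (MulAut V)) →* MulAut (fixedBy' S) where
  toFun g :=
    { toFun := fun v => ⟨(g : MulAut V) v, apply_mem_fixedBy' g.2 v.2⟩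
      invFun := fun v => ⟨(g⁻¹ : centralizer (S : Set (MulAut V))).1 v,
        apply_mem_fixedBy' (g⁻¹).2 v.2⟩
      left_inv := fun v => Subtype.ext ((g : MulAut V).symm_apply_apply v)
      right_inv := fun v => Subtype.ext ((g : MulAut V).apply_symm_apply v)
      map_mul' := fun a b => Subtype.ext (map_mul (g : MulAut V) _ _) }
  map_one' := MulEquiv.ext fun _ => Subtype.ext rfl
  map_mul' _ _ := MulEquiv.ext fun _ => Subtype.ext rfl

theorem mem_sup_zpowers_of_commute {G : Type*} [Group G] {B : Subgroup G} {x g : G}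
    (hc : ∀ t ∈ B, Commute t x) (hg : g ∈ B ⊔ zpowers x) : ∃ s ∈ B, ∃ k : ℤ, s * x ^ k = g := by
  let T : Subgroup G :=
    { carrier := {g | ∃ s ∈ B, ∃ k : ℤ, s * x ^ k = g}
      one_mem' := ⟨1, one_mem _, 0, by simp⟩
      mul_mem' := by
        rintro _ _ ⟨s, hs, k, rfl⟩ ⟨t, ht, l, rfl⟩
        refine ⟨s * t, mul_mem hs ht, k + l, ?_⟩
        rw [zpow_add, mul_assoc, ← mul_assoc t, ((hc t ht).zpow_right k).eq, mul_assoc, ← mul_assoc s]
      inv_mem' := by
        rintro _ ⟨s, hs, k, rfl⟩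
        refine ⟨s⁻¹, inv_mem hs, -k, ?_⟩
        rw [zpow_neg, mul_inv_rev, ((hc s hs).zpow_right k).inv_inv.eq] }
  have : B ⊔ zpowers x ≤ T :=
    sup_le (fun s hs => ⟨s, hs, 0, by simp⟩) (zpowers_le.2 ⟨1, one_mem _, 1, by simp⟩)
  exact this hg

variable [Finite V] {p : ℕ} [Fact p.Prime]

/-- Thompson's P×Q lemma, abelian case. -/
theorem eq_one_of_fix_fixedBy' (hV : ∀ v : V, v ^ p = 1) (B : Subgroup (MulAut V))
    (hB : IsPGroup p B) {w : MulAut V} (hwB : w ∈ centralizer (B : Set (MulAut V)))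
    (hw : (orderOf w).Coprime p) (hfix : ∀ v ∈ fixedBy' B, w v = v) : w = 1 := by
  let f : V →* V :=
    { toFun := fun v => w v / v
      map_one' := by simp
      map_mul' := fun a b => by rw [map_mul, mul_div_mul_comm] }
  have hinv : ∀ b ∈ B, ∀ t ∈ f.range, b t ∈ f.range := by
    rintro b hb _ ⟨y, rfl⟩
    refine ⟨b y, ?_⟩
    show w (b y) / b y = b (w y / y)
    rw [map_div, ← MulAut.mul_apply, ← MulAut.mul_apply, mem_centralizer_iff.1 hwB b hb]
  letI : MulAction B f.range :=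
    { smul := fun b t => ⟨(b : MulAut V) t, hinv b b.2 t t.2⟩
      one_smul := fun t => rfl
      mul_smul := fun a b t => rfl }
  by_contra hne
  have hbot : f.range ≠ ⊥ := by
    intro h
    apply hne
    ext v
    have : f v = 1 := by rw [← Subgroup.mem_bot, ← h]; exact ⟨v, rfl⟩
    exact div_eq_one.1 this
  have hp : p ∣ Nat.card f.range := by
    have hP : IsPGroup p f.range := fun t => ⟨1, Subtype.ext (by simp [hV])⟩
    obtain ⟨k, hk⟩ := hP.exists_card_eq
    rcases k with _ | k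
    · rw [pow_zero, card_eq_one] at hk; exact absurd hk hbot
    · exact hk ▸ dvd_pow_self p k.succ_ne_zero
  obtain ⟨⟨t, y, hy⟩, ht, hne1⟩ :=
    hB.exists_fixed_point_of_prime_dvd_card_of_fixed_point f.range hp
      (a := (1 : f.range)) (fun b => Subtype.ext (map_one (b : MulAut V)))
  have htw : w t = t := hfix t fun s hs => congrArg Subtype.val (ht ⟨s, hs⟩)
  have hy' : w y = y * t := by rw [← hy]; show w y = y * (w y / y); rw [mul_div_cancel]
  have hk : ∀ k : ℕ, (w ^ k) y = y * t ^ k := by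
    intro k
    induction k with
    | zero => simp
    | succ k ih => rw [pow_succ', MulAut.mul_apply, ih, map_mul, map_pow, htw, hy', pow_succ', mul_assoc]
  have h1 : t ^ orderOf w = 1 := by simpa [pow_orderOf_eq_one] using (hk (orderOf w)).symm
  have h2 : t = 1 := orderOf_eq_one_iff.1
    (Nat.eq_one_of_dvd_coprimes hw (orderOf_dvd_of_pow_eq_one h1) (orderOf_dvd_of_pow_eq_one (hV t)))
  exact hne1 (Subtype.ext h2.symm)

/-- If every element of `U` fixed by `a^p` is fixed by `a`, then `a` is trivial on `U`. -/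
theorem fixed_of_pow_fixed (hV : ∀ v : V, v ^ p = 1) (U : Subgroup V) {a : MulAut V} {n : ℕ}
    (hU : ∀ v ∈ U, a v ∈ U) (ha : ∀ v ∈ U, (a ^ p ^ n) v = v)
    (heq : ∀ v ∈ U, (a ^ p) v = v → a v = v) : ∀ v ∈ U, a v = v := by
  intro v hv
  set N : AddMonoid.End (Additive V) := endHom a - 1 with hN
  let d : V → V := fun u => a u / u
  have hNd : ∀ k : ℕ, ∀ u : V, (N ^ k) (Additive.ofMul u) = Additive.ofMul (d^[k] u) := by
    intro k
    induction k with
    | zero => intro u; rfl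
    | succ k ih => intro u; rw [pow_succ, Function.iterate_succ_apply]; exact ih (d u)
  have hdU : ∀ k : ℕ, ∀ u ∈ U, d^[k] u ∈ U := by
    intro k
    induction k with
    | zero => intro u hu; exact hu
    | succ k ih =>
      intro u hu
      rw [Function.iterate_succ_apply]
      exact ih _ (div_mem (hU u hu) hu)
  have htop : d^[p ^ n] v = 1 := by
    obtain ⟨r, hr⟩ := (Commute.one_right N).exists_add_pow_prime_pow_eq (Fact.out : p.Prime) n
    have ha' : N + 1 = endHom a := by rw [hN, sub_add_cancel]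
    have happ := DFunLike.congr_fun hr (Additive.ofMul v)
    rw [ha', ← map_pow, endHom_apply, ha v hv, one_pow, mul_one, mul_assoc, ← nsmul_eq_mul] at happ
    change Additive.ofMul v = (N ^ p ^ n) (Additive.ofMul v) + Additive.ofMul v
      + p • (N * r) (Additive.ofMul v) at happ
    have hp0 : ∀ x : Additive V, p • x = 0 := fun x => Additive.toMul.injective (hV (Additive.toMul x))
    rw [hp0, add_zero, right_eq_add, hNd] at happ
    exact Additive.ofMul.injective happ
  have hstep : ∀ u ∈ U, a (d u) = d u → a u = u := by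
    intro u hu hdu
    apply heq u hu
    have hk : ∀ k : ℕ, (a ^ k) u = u * d u ^ k := by
      intro k
      induction k with
      | zero => simp
      | succ k ih =>
        rw [pow_succ', MulAut.mul_apply, ih, map_mul, map_pow, hdu, pow_succ', ← mul_assoc]
        show a u * d u ^ k = u * (a u / u) * d u ^ k
        rw [mul_div_cancel]
    rw [hk, hV, mul_one]
  have hdown : ∀ k, k ≤ p ^ n → a (d^[p ^ n - k] v) = d^[p ^ n - k] v := by
    intro k
    induction k with
    | zero => intro _; rw [Nat.sub_zero, htop, map_one]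
    | succ k ih =>
      intro hk
      apply hstep _ (hdU _ v hv)
      have e : d (d^[p ^ n - (k + 1)] v) = d^[p ^ n - k] v := by
        rw [← Function.iterate_succ_apply' d]; congr 1; omega
      rw [e]
      exact ih (by omega)
  simpa using hdown (p ^ n) le_rfl

theorem relIndex_pow_dvd (hV : ∀ v : V, v ^ p = 1) (F U : Subgroup V) :
    ∃ i, F.relIndex U = p ^ i :=
  (show IsPGroup p U from fun v => ⟨1, Subtype.ext (by simp [hV])⟩).index (F.subgroupOf U)

/-- An abelian p-subgroup of `Γ` acting faithfully on an abelian p'-group of automorphisms of an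
elementary abelian p-group has no offender, if elements of `Γ` with fixed points of index at most p
commute with those p'-automorphisms. -/
theorem no_offender_of_key (hV : ∀ v : V, v ^ p = 1) (W : Subgroup (MulAut V))
    [hWc : IsMulCommutative W] (hW : (Nat.card W).Coprime p) (Γ : Subgroup (MulAut V))
    (hkey : ∀ (B : Subgroup (MulAut V)) (b w : centralizer (B : Set (MulAut V))), IsPGroup p B →
      (b : MulAut V) ∈ Γ → (w : MulAut V) ∈ W →
      (∀ u ∈ W, (b : MulAut V) * u * (b : MulAut V)⁻¹ ∈ W) →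
      (∀ u ∈ W, (b : MulAut V)⁻¹ * u * (b : MulAut V) ∈ W) → (b : MulAut V) ^ p ∈ B →
      (fixedBy' (B ⊔ zpowers (b : MulAut V))).relIndex (fixedBy' B) ≤ p →
      Commute (restrictHom B b) (restrictHom B w)) :
    ∀ (A : Subgroup (MulAut V)), A ≤ Γ → IsMulCommutative A → IsPGroup p A →
      (∀ a ∈ A, ∀ w ∈ W, a * w * a⁻¹ ∈ W) →
      (∀ a ∈ A, (∀ w ∈ W, Commute a w) → a = 1) →
      A ≠ ⊥ → p * Nat.card A ≤ (fixedBy' A).index := by
  classical
  suffices H : ∀ (n : ℕ) (A : Subgroup (MulAut V)), Nat.card A ≤ n → A ≤ Γ → IsMulCommutative A →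
      IsPGroup p A → (∀ a ∈ A, ∀ w ∈ W, a * w * a⁻¹ ∈ W) →
      (∀ a ∈ A, (∀ w ∈ W, Commute a w) → a = 1) →
      A ≠ ⊥ → p * Nat.card A ≤ (fixedBy' A).index from fun A => H _ A le_rfl
  haveI hfinAut : Finite (MulAut V) := inferInstance
  have hp : p.Prime := Fact.out
  intro n
  induction n with
  | zero => intro A h; exact absurd h (Nat.not_le.2 Nat.card_pos)
  | succ n ih =>
  intro A hcard hAΓ hAc hAp hAW hfaith hAne
  have hAcomm : ∀ x ∈ A, ∀ y ∈ A, x * y = y * x := fun x hx y hy =>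
    congrArg Subtype.val (hAc.is_comm.comm ⟨x, hx⟩ ⟨y, hy⟩)
  set C := W ⊓ centralizer (A : Set (MulAut V)) with hC
  let Bs : Set (Subgroup (MulAut V)) :=
    {B | B ≤ A ∧ ¬ W ⊓ centralizer (B : Set (MulAut V)) ≤ C}
  have hbot : (⊥ : Subgroup (MulAut V)) ∈ Bs := by
    refine ⟨bot_le, fun h => hAne ?_⟩
    rw [eq_bot_iff]
    intro a ha
    refine mem_bot.2 (hfaith a ha fun w hw => ?_)
    have h1 : w ∈ C := h ⟨hw, mem_centralizer_iff.2 fun s hs => by simp [mem_bot.1 hs]⟩
    exact (mem_centralizer_iff.1 h1.2 a ha)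
  obtain ⟨B, ⟨hBA, hBC⟩, hBmax⟩ := (Set.toFinite Bs).exists_maximal ⟨⊥, hbot⟩
  have hlineC : ∀ x ∈ A, x ∉ B → ∀ u ∈ W, u ∈ centralizer (B : Set (MulAut V)) →
      Commute x u → u ∈ C := by
    intro x hx hxB u huW huB hxu
    by_contra hu
    have hmem : B ⊔ zpowers x ∈ Bs := by
      refine ⟨sup_le hBA (zpowers_le.2 hx), fun h => hu (h ⟨huW, ?_⟩)⟩
      refine mem_centralizer_iff.2 fun s hs => ?_
      have : B ⊔ zpowers x ≤ centralizer {u} :=
        sup_le (fun b hb => mem_centralizer_singleton_iff.2 (mem_centralizer_iff.1 huB b hb))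
          (zpowers_le.2 (mem_centralizer_singleton_iff.2 hxu.eq))
      exact mem_centralizer_singleton_iff.1 (this hs)
    exact hxB (hBmax hmem le_sup_left (mem_sup_right (mem_zpowers x)))
  have hBlt : B < A := by
    refine lt_of_le_of_ne hBA ?_
    rintro rfl
    exact hBC le_rfl
  have hpow : ∀ y ∈ A, ∃ j, y ^ p ^ j ∈ B := fun y hy => by
    obtain ⟨m, hm⟩ := hAp ⟨y, hy⟩
    exact ⟨m, by rw [show y ^ p ^ m = 1 from congrArg Subtype.val hm]; exact one_mem B⟩
  obtain ⟨D, hD⟩ : ∃ D, D = W ⊓ centralizer (B : Set (MulAut V)) := ⟨_, rfl⟩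
  rw [← hD] at hBC
  have hDW : D ≤ W := hD ▸ inf_le_left
  haveI : IsMulCommutative D := ⟨⟨fun a b => Subtype.ext (congrArg Subtype.val
    (hWc.is_comm.comm ⟨(a : MulAut V), hDW a.2⟩ ⟨(b : MulAut V), hDW b.2⟩) :)⟩⟩
  have hDconj : ∀ a ∈ A, ∀ u ∈ D, a * u * a⁻¹ ∈ D := by
    intro a ha u hu
    rw [hD] at hu ⊢
    refine ⟨hAW a ha u hu.1, mem_centralizer_iff.2 fun s hs => ?_⟩
    have h1 : Commute s a := hAcomm s (hBA hs) a ha
    have h2 : Commute s u := mem_centralizer_iff.1 hu.2 s hs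
    exact ((h1.mul_right h2).mul_right h1.inv_right).eq
  have hcop : ∀ u ∈ W, (orderOf u).Coprime p := fun u hu =>
    hW.coprime_dvd_left (orderOf_dvd_natCard W hu)
  -- the order-p part of A/B is cyclic
  have huniq : ∀ b ∈ A, b ∉ B → b ^ p ∈ B → ∀ y ∈ A, y ^ p ∈ B → y ∈ B ⊔ zpowers b := by
    intro b hbA hbB hbp y hyA hyp
    by_contra hy
    apply hBC
    intro w hw
    rw [hD] at hw
    have hdist : ∀ l : ℕ, b * y ^ l ∉ B := by
      intro l hl
      by_cases hpl : p ∣ l
      · obtain ⟨m, rfl⟩ := hpl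
        rw [pow_mul] at hl
        exact hbB ((mul_mem_cancel_right (pow_mem hyp m)).1 hl)
      · apply hy
        have h1 : y ^ l ∈ B ⊔ zpowers b := by
          have := mul_mem (inv_mem (mem_sup_right (mem_zpowers b) : b ∈ B ⊔ zpowers b))
            (mem_sup_left hl : b * y ^ l ∈ B ⊔ zpowers b)
          rwa [inv_mul_cancel_left] at this
        obtain ⟨u, v, huv⟩ : ∃ u v : ℤ, (l : ℤ) * u + (p : ℤ) * v = 1 := by
          have h := Int.gcd_eq_gcd_ab l p
          refine ⟨Int.gcdA l p, Int.gcdB l p, ?_⟩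
          rw [← h, Int.gcd_natCast_natCast, (hp.coprime_iff_not_dvd.2 hpl).symm.gcd_eq_one]; rfl
        rw [← zpow_one y, ← huv, zpow_add, zpow_mul, zpow_mul, zpow_natCast, zpow_natCast]
        exact mul_mem (zpow_mem h1 u) (zpow_mem (mem_sup_left hyp) v)
    have hyB : y ∉ B := fun h => hy (mem_sup_left h)
    have hcomm : ∀ u ∈ D, ∀ s ∈ B, Commute s u := fun u hu s hs => by
      rw [hD] at hu; exact mem_centralizer_iff.1 hu.2 s hs
    have hwD : w ∈ D := hD ▸ hw
    refine mem_of_rank_two D C (show Commute b y from hAcomm b hbA y hyA) hwD (hcop w hw.1)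
      (hDconj b hbA) (hDconj y hyA) (hcomm w hwD _ hbp) (hcomm w hwD _ hyp) ?_ ?_
    · intro l u hu _ _ h3
      rw [hD] at hu
      exact hlineC _ (mul_mem hbA (pow_mem hyA l)) (hdist l) u hu.1 hu.2 h3
    · intro u hu _ _ h3
      rw [hD] at hu
      exact hlineC _ hyA hyB u hu.1 hu.2 h3
  -- induction on the exponent of elements modulo B
  set U := fixedBy' B with hU
  have hAU : ∀ a ∈ A, a ∈ centralizer (B : Set (MulAut V)) := fun a ha =>
    mem_centralizer_iff.2 fun s hs => hAcomm s (hBA hs) a ha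
  have hbase : ∀ b ∈ A, b ∉ B → b ^ p ∈ B → p ^ 2 ≤ (fixedBy' (B ⊔ zpowers b)).relIndex U := by
    intro b hbA hbB hbp
    obtain ⟨i, hi⟩ := relIndex_pow_dvd hV (fixedBy' (B ⊔ zpowers b)) U
    rw [hi]
    apply Nat.pow_le_pow_right hp.pos
    by_contra hlt
    apply hBC
    intro w hw
    have hwD : w ∈ D := hw
    rw [hD] at hw
    refine hlineC b hbA hbB w hw.1 hw.2 ?_
    set ρ := restrictHom B
    set b' : centralizer (B : Set (MulAut V)) := ⟨b, hAU b hbA⟩
    set w' : centralizer (B : Set (MulAut V)) := ⟨w, hw.2⟩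
    have key : Commute (ρ b') (ρ w') := hkey B b' w' (hAp.to_le hBA) (hAΓ hbA) hw.1 (hAW b hbA)
      (fun u hu => by simpa using hAW b⁻¹ (inv_mem hbA) u hu) hbp (by
        rw [hi]
        calc p ^ i ≤ p ^ 1 := Nat.pow_le_pow_right hp.pos (by omega)
          _ = p := pow_one p)
    -- faithfulness
    have hc1 : ρ (b' * w' * b'⁻¹ * w'⁻¹) = 1 := by
      rw [map_mul, map_mul, map_mul, key.eq, map_inv, map_inv, mul_inv_cancel_right, mul_inv_cancel]
    have hcW : b * w * b⁻¹ * w⁻¹ ∈ W := mul_mem (hAW b hbA w hw.1) (inv_mem hw.1)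
    have hc : b * w * b⁻¹ * w⁻¹ = 1 := eq_one_of_fix_fixedBy' (w := b * w * b⁻¹ * w⁻¹) hV B
      (hAp.to_le hBA) (b' * w' * b'⁻¹ * w'⁻¹).2 (hcop _ hcW)
      (fun v hv => by
        have h := congrArg Subtype.val (DFunLike.congr_fun hc1 (⟨v, hv⟩ : fixedBy' B))
        exact h)
    exact mul_inv_eq_iff_eq_mul.1 (mul_inv_eq_one.1 hc)
  have hgrow : ∀ j : ℕ, ∀ a ∈ A, a ^ p ^ j ∉ B → a ^ p ^ (j + 1) ∈ B →
      p ^ (j + 2) ≤ (fixedBy' (B ⊔ zpowers a)).relIndex U := by
    intro j
    induction j with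
    | zero =>
      intro a ha h1 h2
      exact hbase a ha (by simpa using h1) (by simpa using h2)
    | succ j ihj =>
      intro a ha h1 h2
      have hap : a ^ p ∈ A := pow_mem ha p
      have h3 := ihj (a ^ p) hap (by rw [← pow_mul, ← pow_succ']; exact h1)
        (by rw [← pow_mul, ← pow_succ']; exact h2)
      set F := fixedBy' (B ⊔ zpowers (a ^ p))
      set F' := fixedBy' (B ⊔ zpowers a)
      have hF'F : F' ≤ F := fixedBy'_anti (sup_le le_sup_left
        (zpowers_le.2 (pow_mem (mem_sup_right (mem_zpowers a)) p)))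
      have hFU : F ≤ U := fixedBy'_anti le_sup_left
      rw [← relIndex_mul_relIndex F' F U hF'F hFU]
      obtain ⟨i, hi⟩ := relIndex_pow_dvd hV F' F
      rcases i with _ | i
      · exfalso
        rw [pow_zero, relIndex_eq_one] at hi
        have htriv : ∀ v ∈ U, a v = v := by
          refine fixed_of_pow_fixed (n := j + 2) hV U
            (fun v hv => apply_mem_fixedBy' (hAU a ha) hv) (fun v hv => hv _ h2) ?_
          intro v hv hvp
          exact (mem_fixedBy'_sup_zpowers.1 (hi (mem_fixedBy'_sup_zpowers.2 ⟨hv, hvp⟩))).2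
        have hFtop : U ≤ F := fun v hv => mem_fixedBy'_sup_zpowers.2 ⟨hv, by
          have hk : ∀ k : ℕ, (a ^ k) v = v := by
            intro k
            induction k with
            | zero => rfl
            | succ k ihk => rw [pow_succ', MulAut.mul_apply, ihk, htriv v hv]
          exact hk p⟩
        rw [relIndex_eq_one.2 hFtop] at h3
        exact absurd h3 (Nat.not_le.2 (Nat.one_lt_pow (by omega) hp.one_lt))
      · rw [hi, pow_succ' p (j + 2)]
        refine Nat.mul_le_mul ?_ h3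
        exact le_self_pow hp.one_le (Nat.succ_ne_zero i)
  -- order modulo B, and a generator
  have hord : ∀ y ∈ A, y ∉ B → ∃ j, y ^ p ^ j ∉ B ∧ y ^ p ^ (j + 1) ∈ B := by
    intro y hy hyB
    have h := hpow y hy
    have hfind := Nat.find_spec h
    rcases hh : Nat.find h with _ | j
    · rw [hh, pow_zero, pow_one] at hfind; exact absurd hfind hyB
    · exact ⟨j, Nat.find_min h (by omega), hh ▸ hfind⟩
  obtain ⟨M, hM⟩ : ∃ M, ∀ y ∈ A, y ^ p ^ M ∈ B := by
    obtain ⟨k, hk⟩ := hAp.exists_card_eq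
    refine ⟨k, fun y hy => ?_⟩
    rw [← hk, show y ^ Nat.card A = 1 from congrArg Subtype.val (pow_card_eq_one' (x := (⟨y, hy⟩ : A)))]
    exact one_mem B
  have hgen : ∀ m, (∀ y ∈ A, y ^ p ^ m ∈ B) → ∃ j, ∃ a ∈ A, a ^ p ^ j ∉ B ∧
      (∀ y ∈ A, y ^ p ^ (j + 1) ∈ B) := by
    intro m
    induction m with
    | zero => intro h; exact absurd hBlt (not_lt_of_ge fun y hy => by simpa using h y hy)
    | succ m ihm =>
      intro h
      by_cases h' : ∀ y ∈ A, y ^ p ^ m ∈ B
      · exact ihm h'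
      · push Not at h'
        obtain ⟨a, ha, hab⟩ := h'
        exact ⟨m, a, ha, hab, h⟩
  obtain ⟨j, a, ha, haB, hexp⟩ := hgen M hM
  have hb'A : a ^ p ^ j ∈ A := pow_mem ha _
  have hb'p : (a ^ p ^ j) ^ p ∈ B := by rw [← pow_mul, ← pow_succ]; exact hexp a ha
  have hall : ∀ i, i ≤ j + 1 → ∀ y ∈ A, y ^ p ^ i ∈ B → y ∈ B ⊔ zpowers a := by
    intro i
    induction i with
    | zero => intro _ y _ hy; exact mem_sup_left (by simpa using hy)
    | succ i ihi =>
      intro hi y hy hyi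
      have hz := huniq _ hb'A haB hb'p (y ^ p ^ i) (pow_mem hy _)
        (by rw [← pow_mul, ← pow_succ]; exact hyi)
      obtain ⟨s, hs, k, hsz⟩ := mem_sup_zpowers_of_commute
        (fun t ht => hAcomm t (hBA ht) _ hb'A) hz
      -- y (a^(-k p^(j-i))) has smaller order modulo B
      set y' := y * (a ^ ((p : ℤ) ^ (j - i) * k))⁻¹ with hy'
      have hy'A : y' ∈ A := mul_mem hy (inv_mem (zpow_mem ha _))
      have hy'i : y' ^ p ^ i ∈ B := by
        rw [hy', (show Commute y _ from hAcomm y hy _ (inv_mem (zpow_mem ha _))).mul_pow, inv_pow]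
        have e : (a ^ ((p : ℤ) ^ (j - i) * k)) ^ p ^ i = (a ^ p ^ j) ^ k := by
          rw [← zpow_natCast, ← zpow_mul, ← zpow_natCast a, ← zpow_mul]
          congr 1
          push_cast
          rw [mul_right_comm, ← pow_add, Nat.sub_add_cancel (by omega)]
        rw [e, ← hsz]
        show s * (a ^ p ^ j) ^ k * ((a ^ p ^ j) ^ k)⁻¹ ∈ B
        rwa [mul_inv_cancel_right]
      have := mul_mem (ihi (by omega) y' hy'A hy'i)
        (zpow_mem (mem_sup_right (mem_zpowers a) : a ∈ B ⊔ zpowers a) ((p : ℤ) ^ (j - i) * k))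
      rwa [hy', inv_mul_cancel_right] at this
  have hAeq : A = B ⊔ zpowers a :=
    le_antisymm (fun y hy => hall (j + 1) le_rfl y hy (hexp y hy)) (sup_le hBA (zpowers_le.2 ha))
  have hcardA : Nat.card A ≤ p ^ (j + 1) * Nat.card B := by
    let f : Fin (p ^ (j + 1)) × B → A := fun x =>
      ⟨(x.2 : MulAut V) * a ^ (x.1 : ℕ), mul_mem (hBA x.2.2) (pow_mem ha _)⟩
    have hsurj : Function.Surjective f := by
      rintro ⟨y, hy⟩
      obtain ⟨s, hs, k, hsz⟩ := mem_sup_zpowers_of_commute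
        (fun t ht => hAcomm t (hBA ht) _ ha) (hAeq ▸ hy)
      set q : ℤ := ((p ^ (j + 1) : ℕ) : ℤ) with hq
      have hqpos : 0 < q := by rw [hq]; exact_mod_cast pow_pos hp.pos _
      refine ⟨(⟨(k % q).toNat, by
        have h1 := Int.emod_lt_of_pos k hqpos
        have h2 := Int.emod_nonneg k hqpos.ne'
        omega⟩, ⟨s * (a ^ q) ^ (k / q), mul_mem hs (zpow_mem (by
          rw [hq, zpow_natCast]; exact hexp a ha) _)⟩), ?_⟩
      apply Subtype.ext
      show s * (a ^ q) ^ (k / q) * a ^ (k % q).toNat = y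
      rw [← zpow_natCast a, Int.toNat_of_nonneg (Int.emod_nonneg k hqpos.ne'), ← zpow_mul,
        mul_assoc, ← zpow_add, Int.mul_ediv_add_emod]
      exact hsz
    have := Nat.card_le_card_of_surjective f hsurj
    rwa [Nat.card_prod, Nat.card_fin] at this
  have hmain := hgrow j a ha haB (hexp a ha)
  rw [← hAeq] at hmain
  have hBidx : Nat.card B ≤ U.index := by
    by_cases hB : B = ⊥
    · rw [hB, card_bot]
      exact Nat.pos_of_ne_zero index_ne_zero_of_finite
    · have hlt : Nat.card B < Nat.card A := by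
        by_contra h
        exact hBlt.ne (eq_of_le_of_card_ge hBA (not_lt.1 h))
      have := ih B (by omega) (hBA.trans hAΓ)
        ⟨⟨fun x y => Subtype.ext (hAcomm _ (hBA x.2) _ (hBA y.2))⟩⟩ (hAp.to_le hBA)
        (fun b hb => hAW b (hBA hb)) (fun b hb => hfaith b (hBA hb)) hB
      exact le_trans (Nat.le_mul_of_pos_left _ hp.pos) this
  rw [← relIndex_mul_index (fixedBy'_anti hBA)]
  calc p * Nat.card A ≤ p * (p ^ (j + 1) * Nat.card B) := Nat.mul_le_mul le_rfl hcardA
    _ = p ^ (j + 2) * Nat.card B := by rw [← mul_assoc, ← pow_succ']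
    _ ≤ _ := Nat.mul_le_mul hmain hBidx


/-- An abelian p-group acting faithfully on an abelian p'-group of automorphisms of an elementary
abelian p-group, p odd, has no offender: `p |A| ≤ |V : C_V(A)|`. -/
theorem no_offender (hp2 : p ≠ 2) (hV : ∀ v : V, v ^ p = 1) (W : Subgroup (MulAut V))
    [hWc : IsMulCommutative W] (hW : (Nat.card W).Coprime p) :
    ∀ (A : Subgroup (MulAut V)), IsMulCommutative A → IsPGroup p A →
      (∀ a ∈ A, ∀ w ∈ W, a * w * a⁻¹ ∈ W) →
      (∀ a ∈ A, (∀ w ∈ W, Commute a w) → a = 1) →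
      A ≠ ⊥ → p * Nat.card A ≤ (fixedBy' A).index := by
  intro A
  refine no_offender_of_key hV W hW ⊤ ?_ A le_top
  intro B b w hB _ hwW hbW hbW' hbp hidx
  have hp : p.Prime := Fact.out
  have hUP : IsPGroup p (fixedBy' B) := fun v => ⟨1, Subtype.ext (by simp [hV])⟩
  have hFfix : ∀ v ∈ (fixedBy' (B ⊔ zpowers (b : MulAut V))).subgroupOf (fixedBy' B),
      restrictHom B b v = v := fun v hv => Subtype.ext (mem_fixedBy'_sup_zpowers.1 hv).2
  have hbp' : restrictHom B b ^ p = 1 := by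
    rw [← map_pow]
    exact MulEquiv.ext fun v => Subtype.ext (v.2 _ hbp)
  have hq : ∀ v : fixedBy' B, restrictHom B b (restrictHom B b v / v) = restrictHom B b v / v :=
    fun v => hFfix _ (sub_fixed_of_index_le _ hUP hFfix hidx hbp' v)
  obtain ⟨k, hk⟩ := hUP.exists_card_eq
  have hodd : Odd (Nat.card (fixedBy' B)) := by rw [hk]; exact (hp.odd_of_ne_two hp2).pow
  have hwU : (orderOf (restrictHom B w)).Coprime (Nat.card (fixedBy' B)) := by
    rw [hk]
    refine Nat.Coprime.pow_right k ?_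
    exact (hW.coprime_dvd_left (orderOf_dvd_natCard W hwW)).coprime_dvd_left
      ((orderOf_map_dvd _ w).trans (by rw [← Subgroup.orderOf_coe]))
  have hWcomm : ∀ u ∈ W, Commute (w : MulAut V) u := fun u hu =>
    congrArg Subtype.val (hWc.is_comm.comm ⟨_, hwW⟩ ⟨u, hu⟩)
  refine commute_of_quadratic hodd hwU hq ?_ ?_
  · rw [← map_inv, ← map_mul, ← map_mul]
    exact (show Commute w (b * w * b⁻¹) from
      Subtype.ext (hWcomm _ (hbW _ hwW)).eq).map _
  · rw [← map_inv, ← map_mul, ← map_mul]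
    exact (show Commute w (b⁻¹ * w * b) from
      Subtype.ext (hWcomm _ (hbW' _ hwW)).eq).map _

/-- No subgroup of `Γ` induces the symmetric group of degree 3 on a four-subgroup of `V`. -/
def NoS3 (Γ : Subgroup (MulAut V)) : Prop :=
  ∀ (M : Subgroup V) (c t : MulAut V), c ∈ Γ → t ∈ Γ → Nat.card M = 4 → (∀ m ∈ M, c m ∈ M) →
    (∀ m ∈ M, t m ∈ M) → (∀ m ∈ M, c m = m → m = 1) → (∃ m ∈ M, m ≠ 1 ∧ t m = m) →
    ∀ m ∈ M, t m = m

/-- The case p = 2: no offender unless a section of `Γ` and `V` is the symmetric group of degree 4. -/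
theorem no_offender_two (hp2 : p = 2) (hV : ∀ v : V, v ^ p = 1) (W : Subgroup (MulAut V))
    [hWc : IsMulCommutative W] (hW : (Nat.card W).Coprime p) (Γ : Subgroup (MulAut V)) (hWΓ : W ≤ Γ)
    (hS3 : NoS3 Γ) :
    ∀ (A : Subgroup (MulAut V)), A ≤ Γ → IsMulCommutative A → IsPGroup p A →
      (∀ a ∈ A, ∀ w ∈ W, a * w * a⁻¹ ∈ W) →
      (∀ a ∈ A, (∀ w ∈ W, Commute a w) → a = 1) →
      A ≠ ⊥ → p * Nat.card A ≤ (fixedBy' A).index := by
  subst hp2
  refine no_offender_of_key hV W hW Γ ?_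
  intro B b w _ hbΓ hwW hbW _ hbp hidx
  set U := fixedBy' B with hU
  set β := restrictHom B b with hβ
  set c₀ : centralizer (B : Set (MulAut V)) := b * w * b⁻¹ * w⁻¹ with hc₀
  set γ := restrictHom B c₀ with hγ
  have hWcomm : ∀ x ∈ W, ∀ y ∈ W, x * y = y * x := fun x hx y hy =>
    congrArg Subtype.val (hWc.is_comm.comm ⟨x, hx⟩ ⟨y, hy⟩)
  have hc₀W : (c₀ : MulAut V) ∈ W := mul_mem (hbW _ hwW) (inv_mem hwW)
  suffices hγ1 : γ = 1 by
    rw [hγ, hc₀, map_mul, map_mul, map_mul, map_inv, map_inv, mul_inv_eq_one,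
      mul_inv_eq_iff_eq_mul] at hγ1
    exact hγ1
  by_contra hne
  set ω := restrictHom B w with hω
  have hβ2 : β ^ 2 = 1 := by
    rw [hβ, ← map_pow]
    exact MulEquiv.ext fun v => Subtype.ext (v.2 _ hbp)
  have hββ : ∀ v : U, β (β v) = v := fun v => by
    rw [← MulAut.mul_apply, ← sq, hβ2]; rfl
  have hβinv : β⁻¹ = β := inv_eq_of_mul_eq_one_left (by rw [← sq, hβ2])
  have hγdef : γ = β * ω * β * ω⁻¹ := by
    rw [hγ, hc₀, map_mul, map_mul, map_mul, map_inv, map_inv, ← hβ, ← hω, hβinv]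
  have hββ' : β * β = 1 := by rw [← sq, hβ2]
  have hinv : β * γ * β = γ⁻¹ := by
    rw [hγdef]
    simp only [mul_inv_rev, inv_inv, hβinv, mul_assoc]
    rw [← mul_assoc β β, hββ', one_mul]
  have hγodd : ∀ v : U, γ (γ v / v) = γ v / v → γ v / v = 1 := by
    intro v hv
    have hk : ∀ k : ℕ, (γ ^ k) v = v * (γ v / v) ^ k := by
      intro k
      induction k with
      | zero => simp
      | succ k ih =>
        rw [pow_succ', MulAut.mul_apply, ih, map_mul, map_pow, hv, pow_succ', ← mul_assoc,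
          mul_div_cancel]
    have h1 : (γ v / v) ^ orderOf γ = 1 := by simpa [pow_orderOf_eq_one] using (hk (orderOf γ)).symm
    have h2 : (γ v / v) ^ 2 = 1 := Subtype.ext (by simp [hV])
    have hc : (orderOf γ).Coprime 2 := (hW.coprime_dvd_left (orderOf_dvd_natCard W hc₀W)).coprime_dvd_left
      ((orderOf_map_dvd _ c₀).trans (by rw [← Subgroup.orderOf_coe]))
    exact orderOf_eq_one_iff.1 (Nat.eq_one_of_dvd_coprimes hc (orderOf_dvd_of_pow_eq_one h1)
      (orderOf_dvd_of_pow_eq_one h2))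
  -- the commutator map
  let f : U →* U :=
    { toFun := fun v => γ v / v
      map_one' := by simp
      map_mul' := fun x y => by rw [map_mul, mul_div_mul_comm] }
  have hfix : ∀ m ∈ f.range, γ m = m → m = 1 := by
    rintro _ ⟨v, rfl⟩ h
    exact hγodd v h
  -- a subgroup of index at most 4 fixed by γ
  set F := (fixedBy' (B ⊔ zpowers (b : MulAut V))).subgroupOf U with hF
  have hFfix : ∀ v ∈ F, β v = v := fun v hv => Subtype.ext (mem_fixedBy'_sup_zpowers.1 hv).2
  set F' := F.comap ω⁻¹.toMonoidHom with hF'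
  have hker : F ⊓ F' ≤ f.ker := by
    rintro v ⟨hv, hv'⟩
    have h1 : ω (β (ω⁻¹ v)) = v := by
      rw [show β (ω⁻¹ v) = ω⁻¹ v from hFfix _ hv']
      exact (ω.apply_symm_apply v :)
    have h2 : γ = β * (ω * β * ω⁻¹) := by rw [hγdef]; simp only [mul_assoc]
    show γ v / v = 1
    rw [h2, MulAut.mul_apply, MulAut.mul_apply, MulAut.mul_apply, h1, hFfix v hv, div_self']
  have hFi : F.index ≤ 2 := hidx
  have hker4 : f.ker.index ≤ 4 := by
    refine (Nat.le_of_dvd (Nat.pos_of_ne_zero index_ne_zero_of_finite) (index_dvd_of_le hker)).trans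
      (index_inf_le.trans ?_)
    rw [hF', index_comap_of_surjective F ω⁻¹.surjective]
    calc F.index * F.index ≤ 2 * 2 := Nat.mul_le_mul hFi hFi
      _ = 4 := rfl
  rw [index_ker] at hker4
  have hUP : IsPGroup 2 U := fun v => ⟨1, Subtype.ext (by simp [hV])⟩
  obtain ⟨k, hk⟩ := (hUP.to_subgroup f.range).exists_card_eq
  have hRstab : ∀ m ∈ f.range, γ m ∈ f.range := by
    rintro _ ⟨v, rfl⟩
    exact ⟨γ v, (map_div γ _ _).symm⟩
  have hk2 : k = 2 := by
    rcases k with _ | _ | _ | k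
    · exfalso
      rw [pow_zero, card_eq_one] at hk
      apply hne
      ext1 v
      have : f v = 1 := by rw [← Subgroup.mem_bot, ← hk]; exact ⟨v, rfl⟩
      exact div_eq_one.1 this
    · exfalso
      haveI : Nontrivial f.range := by
        rw [← Finite.one_lt_card_iff_nontrivial, hk]; norm_num
      obtain ⟨m, hm⟩ := exists_ne (1 : f.range)
      obtain ⟨y, -, hy⟩ := (Nat.card_eq_two_iff' (1 : f.range)).1 hk
      have h1 : (⟨γ m, hRstab _ m.2⟩ : f.range) ≠ 1 := fun h => hm (Subtype.ext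
        (γ.injective ((congrArg Subtype.val h).trans (map_one γ).symm)))
      have h3 : (⟨γ m, hRstab _ m.2⟩ : f.range) = m := (hy _ h1).trans (hy _ hm).symm
      exact hm (Subtype.ext (hfix _ m.2 (congrArg Subtype.val h3)))
    · rfl
    · exfalso
      rw [hk] at hker4
      have : 2 ^ 3 ≤ 2 ^ (k + 1 + 1 + 1) := Nat.pow_le_pow_right (by norm_num) (by omega)
      omega
  subst hk2
  have hβR : ∀ m ∈ f.range, β m ∈ f.range := by
    rintro _ ⟨v, rfl⟩
    refine ⟨(γ⁻¹ (β v))⁻¹, ?_⟩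
    show γ ((γ⁻¹ (β v))⁻¹) / (γ⁻¹ (β v))⁻¹ = β (γ v / v)
    have e : β (γ v) = γ⁻¹ (β v) := by
      rw [← hinv, MulAut.mul_apply, MulAut.mul_apply, hββ]
    rw [map_div, e, map_inv, show γ (γ⁻¹ (β v)) = β v from γ.apply_symm_apply _, inv_div_inv]
  set M : Subgroup V := f.range.map U.subtype
  have hM : Nat.card M = 4 := by
    rw [← Nat.card_congr (f.range.equivMapOfInjective U.subtype Subtype.coe_injective).toEquiv, hk]
    rfl
  have hfix2 : ∃ m ∈ f.range, m ≠ 1 ∧ β m = m := by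
    haveI : Nontrivial f.range := by
      rw [← Finite.one_lt_card_iff_nontrivial, hk]; norm_num
    obtain ⟨⟨m, hm⟩, hm1⟩ := exists_ne (1 : f.range)
    by_cases h : β m * m = 1
    · refine ⟨m, hm, fun e => hm1 (Subtype.ext e), ?_⟩
      rw [eq_inv_of_mul_eq_one_left h]
      refine inv_eq_of_mul_eq_one_left ?_
      rw [← sq]; exact Subtype.ext (by simp [hV])
    · exact ⟨β m * m, mul_mem (hβR m hm) hm, h, by rw [map_mul, hββ, mul_comm]⟩
  obtain ⟨m₁, hm₁, hne₁, hfix₁⟩ := hfix2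
  have hall := hS3 M (c₀ : MulAut V) (b : MulAut V) (hWΓ hc₀W) hbΓ hM
    (by rintro _ ⟨m, hm, rfl⟩; exact ⟨γ m, hRstab m hm, rfl⟩)
    (by rintro _ ⟨m, hm, rfl⟩; exact ⟨β m, hβR m hm, rfl⟩)
    (by rintro _ ⟨m, hm, rfl⟩ h; rw [hfix m hm (Subtype.ext h), map_one])
    ⟨_, ⟨m₁, hm₁, rfl⟩, fun e => hne₁ (Subtype.ext e), congrArg Subtype.val hfix₁⟩
  have hβtriv : ∀ m ∈ f.range, β m = m := fun m hm => Subtype.ext (hall _ ⟨m, hm, rfl⟩)
  -- then γ = γ⁻¹ on the range
  have hγ2 : γ (γ m₁) = m₁ := by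
    have h1 : γ⁻¹ m₁ = γ m₁ := by
      rw [← hinv, MulAut.mul_apply, MulAut.mul_apply, hβtriv _ hm₁, hβtriv _ (hRstab _ hm₁)]
    rw [← h1]
    exact γ.apply_symm_apply m₁
  apply hne₁
  have h1 : γ (γ m₁ * m₁) = γ m₁ * m₁ := by rw [map_mul, hγ2, mul_comm]
  have h2 := hfix _ (mul_mem (hRstab _ hm₁) hm₁) h1
  refine hfix _ hm₁ ?_
  rw [eq_inv_of_mul_eq_one_left h2]
  refine inv_eq_of_mul_eq_one_left ?_
  rw [← sq]; exact Subtype.ext (by simp [hV])

end Cfsg.Agent.PComplement
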