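import Cfsg.Agent.Lib.PGroup.Class2
import Cfsg.Agent.Lib.Coprime.Basic
import Mathlib.GroupTheory.PGroup
import Mathlib.GroupTheory.Nilpotent
import Mathlib.GroupTheory.Sylow

/-!
# Glauberman's replacement for a subgroup of class at most 2

If the abelian p-group `A` normalises the p-group `D` of class at most 2 (p odd), `A` centralises
`D'` and `D` does not normalise `A`, then some abelian `A'` inside `(A ⊔ D) ∩ N(A)` is at least as
big as `A`, contains `A ∩ D` and meets `D` in more than `A` does. It has exponent p if `A` has.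
-/

namespace Cfsg.Agent.PComplement

open Subgroup
open scoped commutatorElement

theorem replacement {G : Type*} [Group G] [Finite G] {p : ℕ} [Fact p.Prime] (hp : p ≠ 2)
    {A D : Subgroup G} (hAc : IsMulCommutative A) (hA : IsPGroup p A) (hD : IsPGroup p D)
    (hAD : A ≤ normalizer (D : Set G)) (hcl : ⁅D, D⁆ ≤ centralizer (D : Set G))
    (hDA : A ≤ centralizer ((⁅D, D⁆ : Subgroup G) : Set G)) (hnot : ¬ D ≤ normalizer (A : Set G)) :
    ∃ A' : Subgroup G, IsMulCommutative A' ∧ A' ≤ A ⊔ D ∧ Nat.card A ≤ Nat.card A' ∧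
      A ⊓ D < A' ⊓ D ∧ A' ≤ normalizer (A : Set G) ∧
      ((∀ a ∈ A, a ^ p = 1) → ∀ a ∈ A', a ^ p = 1) := by
  have hAcomm : ∀ x ∈ A, ∀ y ∈ A, x * y = y * x := fun x hx y hy =>
    congrArg Subtype.val (hAc.is_comm.comm ⟨x, hx⟩ ⟨y, hy⟩)
  have hDD : ⁅D, D⁆ ≤ D := commutator_le.2 fun a ha b hb => by
    rw [commutatorElement_def]; exact mul_mem (mul_mem (mul_mem ha hb) (inv_mem ha)) (inv_mem hb)
  set N := D ⊓ normalizer (A : Set G) with hN
  have hND : N ≤ D := inf_le_left
  have hAN : A ≤ normalizer (N : Set G) := by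
    intro a ha
    rw [mem_normalizer_iff]
    intro d
    have h1 : d ∈ D ↔ a * d * a⁻¹ ∈ D := mem_normalizer_iff.1 (hAD ha) d
    have h2 : d ∈ normalizer (A : Set G) ↔ a * d * a⁻¹ ∈ normalizer (A : Set G) :=
      mem_normalizer_iff.1 (le_normalizer (le_normalizer ha)) d
    exact and_congr h1 h2
  have hADle : A ⊓ D ≤ N := fun z hz => ⟨hz.2, le_normalizer hz.1⟩
  -- choose x
  obtain ⟨x, hxD, hxN, hxa⟩ : ∃ x ∈ D, x ∉ N ∧ ∀ a ∈ A, ⁅x, a⁆ ∈ N := by
    set K := A ⊔ D
    have hK : IsPGroup p K := hA.to_sup_of_normal_right' hD hAD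
    set H := A ⊔ N
    have hHK : H ≤ K := sup_le_sup_left hND A
    have hmul : ∀ g ∈ K, ∃ d ∈ D, ∃ a ∈ A, d * a = g := fun g hg =>
      (Coprime.mem_sup_iff_of_le_normalizer' hAD).1 hg
    have hmulH : ∀ g ∈ H, ∃ d ∈ N, ∃ a ∈ A, d * a = g := fun g hg =>
      (Coprime.mem_sup_iff_of_le_normalizer' hAN).1 hg
    have hne : H.subgroupOf K < ⊤ := by
      rw [lt_top_iff_ne_top]
      intro h
      apply hnot
      intro d hd
      have : (⟨d, mem_sup_right hd⟩ : K) ∈ H.subgroupOf K := h ▸ Subgroup.mem_top _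
      obtain ⟨n, hn, a, ha, hna⟩ := hmulH d this
      rw [← hna]
      exact mul_mem hn.2 (le_normalizer ha)
    haveI : Group.IsNilpotent K := hK.isNilpotent
    obtain ⟨g, hg, hgH⟩ := SetLike.exists_of_lt (Group.normalizerCondition_of_isNilpotent _ hne)
    obtain ⟨d, hd, a, ha, hda⟩ := hmul g g.2
    refine ⟨d, hd, fun hdN => hgH ?_, fun b hb => ?_⟩
    · show (g : G) ∈ H
      rw [← hda]; exact mul_mem (mem_sup_right hdN) (mem_sup_left ha)
    · have haH : a ∈ H := mem_sup_left ha
      have hconj : ∀ h ∈ H, d * h * d⁻¹ ∈ H := by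
        intro h hh
        have h1 := (mem_normalizer_iff.1 hg ⟨a⁻¹ * h * a,
          hHK (mul_mem (mul_mem (inv_mem haH) hh) haH)⟩).1
          (mul_mem (mul_mem (inv_mem haH) hh) haH)
        have e : (g : G) * (a⁻¹ * h * a) * (g : G)⁻¹ = d * h * d⁻¹ := by rw [← hda]; group
        change (g : G) * (a⁻¹ * h * a) * (g : G)⁻¹ ∈ H at h1
        rwa [e] at h1
      have hmem : ⁅d, b⁆ ∈ H := mul_mem (hconj b (mem_sup_left hb)) (inv_mem (mem_sup_left hb))
      have hmemD : ⁅d, b⁆ ∈ D := by
        rw [commutatorElement_def, mul_assoc, mul_assoc]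
        refine mul_mem hd ?_
        rw [← mul_assoc]
        exact (mem_normalizer_iff.1 (hAD hb) d⁻¹).1 (inv_mem hd)
      obtain ⟨n, hn, c, hc, hnc⟩ := hmulH _ hmem
      have hcD : c ∈ D := by
        have := mul_mem (inv_mem (hND hn)) hmemD
        rwa [← hnc, inv_mul_cancel_left] at this
      rw [← hnc]
      exact mul_mem hn (hADle ⟨hc, hcD⟩)
  set u : G → G := fun a => ⁅x, a⁆ with hu
  set i : G → G → G := fun a b => ⁅a, u b⁆ with hi
  have huD : ∀ a ∈ A, u a ∈ D := fun a ha => hND (hxa a ha)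
  have hiI : ∀ a ∈ A, ∀ b ∈ A, i a b ∈ A ⊓ D := by
    intro a ha b hb
    refine mem_inf.2 ⟨?_, ?_⟩
    · show a * u b * a⁻¹ * (u b)⁻¹ ∈ A
      rw [mul_assoc, mul_assoc]
      exact mul_mem ha (by
        rw [← mul_assoc]
        exact (mem_normalizer_iff.1 (hxa b hb).2 a⁻¹).1 (inv_mem ha))
    · exact mul_mem ((mem_normalizer_iff.1 (hAD ha) _).1 (huD b hb)) (inv_mem (huD b hb))
  have hcD : ∀ {c}, c ∈ ⁅D, D⁆ → ∀ d ∈ D, Commute d c := fun hc d hd =>
    mem_centralizer_iff.1 (hcl hc) d hd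
  have hconjx : ∀ a, a * x * a⁻¹ = (u a)⁻¹ * x := fun a => by
    rw [hu]; simp only [commutatorElement_def]; group
  -- (1) the `u a` centralise `A ∩ D`
  have h1 : ∀ a ∈ A, ∀ z ∈ A ⊓ D, Commute (u a) z := by
    intro a ha z hz
    have hzc : ⁅x, z⁆ ∈ ⁅D, D⁆ := commutator_mem_commutator hxD hz.2
    have hfix : a * ⁅x, z⁆ * a⁻¹ = ⁅x, z⁆ := by
      rw [← mem_centralizer_iff.1 (hDA ha) _ hzc, mul_inv_cancel_right]
    have e : a * ⁅x, z⁆ * a⁻¹ = ⁅(u a)⁻¹ * x, z⁆ := by
      rw [← hconjx]
      have haz : a * z * a⁻¹ = z := by rw [hAcomm a ha z hz.1, mul_inv_cancel_right]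
      conv_rhs => rw [← haz]
      simp only [commutatorElement_def]; group
    rw [e, commutatorElement_mul_left_eq_conj_mul,
      (hcD hzc (u a)⁻¹ (inv_mem (huD a ha))).eq, mul_inv_cancel_right] at hfix
    have h2 : ⁅(u a)⁻¹, z⁆ = 1 := mul_eq_left.1 hfix
    exact Commute.inv_left_iff.1 (commutatorElement_eq_one_iff_mul_comm.1 h2)
  -- (2) the product rule
  have h2 : ∀ a ∈ A, ∀ b ∈ A, u a * (i a b * u b) = u b * (i b a * u a) := by
    intro a ha b hb
    have e : ∀ c d : G, u (c * d) = u c * (i c d * u d) := fun c d => by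
      simp only [hu, hi, commutatorElement_def]; group
    rw [← e, ← e, hAcomm a ha b hb]
  -- (3)
  have h3 : ∀ a ∈ A, ∀ b ∈ A, ⁅u a, u b⁆ = ⁅x, i a b⁆ := by
    intro a ha b hb
    have hxu : ⁅x, u b⁆ ∈ ⁅D, D⁆ := commutator_mem_commutator hxD (huD b hb)
    have hfix : a * ⁅x, u b⁆ * a⁻¹ = ⁅x, u b⁆ := by
      rw [← mem_centralizer_iff.1 (hDA ha) _ hxu, mul_inv_cancel_right]
    have e : a * ⁅x, u b⁆ * a⁻¹ = ⁅(u a)⁻¹ * x, i a b * u b⁆ := by
      rw [← hconjx, show i a b * u b = a * u b * a⁻¹ by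
        rw [hi]; simp only [commutatorElement_def]; group]
      simp only [commutatorElement_def]; group
    rw [e] at hfix
    -- compute inside D
    let X : D := ⟨x, hxD⟩
    let U : D := ⟨u a, huD a ha⟩
    let W : D := ⟨u b, huD b hb⟩
    let J : D := ⟨i a b, (hiI a ha b hb).2⟩
    have hz : ∀ s t : D, ⁅s, t⁆ ∈ center D := fun s t => mem_center_iff.2 fun r =>
      Subtype.ext (hcD (commutator_mem_commutator s.2 t.2) r r.2).eq
    have hfix' : ⁅U⁻¹ * X, J * W⁆ = ⁅X, W⁆ := Subtype.ext hfix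
    have hUJ : ⁅U⁻¹, J⁆ = 1 := by
      rw [commutatorElement_eq_one_iff_mul_comm]
      exact Subtype.ext (h1 a ha _ (hiI a ha b hb)).inv_left.eq
    rw [PGroup.commutator_mul_left (hz X (J * W)), PGroup.commutator_mul_right (hz _ W),
      PGroup.commutator_mul_right (hz _ W), hUJ, one_mul,
      PGroup.commutator_inv_left (hz U W), ← mul_assoc, mul_eq_right, inv_mul_eq_one] at hfix'
    exact congrArg Subtype.val hfix'
  -- (4) the u's commute
  have h4 : ∀ a ∈ A, ∀ b ∈ A, Commute (u a) (u b) ∧ i a b = i b a := by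
    intro a ha b hb
    have hs : ∀ a ∈ A, ∀ b ∈ A, i b a = ⁅u a, u b⁆ * i a b := by
      intro a ha b hb
      have e := h2 a ha b hb
      rw [(h1 b hb _ (hiI a ha b hb)).symm.eq, (h1 a ha _ (hiI b hb a ha)).symm.eq,
        ← mul_assoc, ← mul_assoc] at e
      have e3 : ⁅u a, u b⁆ * (u b * u a) = u a * u b := by rw [commutatorElement_def]; group
      have hc := (hcD (commutator_mem_commutator (huD a ha) (huD b hb)) _
        (mul_mem (huD b hb) (huD a ha))).eq
      rw [← e3, ← hc, mul_assoc] at e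
      exact (mul_left_cancel e).symm
    have hsym : ⁅u b, u a⁆ = ⁅u a, u b⁆ := by
      rw [h3 b hb a ha, h3 a ha b hb, hs a ha b hb]
      have hc : ⁅u a, u b⁆ ∈ ⁅D, D⁆ := commutator_mem_commutator (huD a ha) (huD b hb)
      have hxc : ⁅x, ⁅u a, u b⁆⁆ = 1 :=
        commutatorElement_eq_one_iff_mul_comm.2 (hcD hc x hxD).eq
      rw [commutatorElement_mul_right_eq_mul_conj, hxc, one_mul]
      rw [show ⁅u a, u b⁆ * ⁅x, i a b⁆ = ⁅x, i a b⁆ * ⁅u a, u b⁆ from
        (hcD (commutator_mem_commutator hxD (hiI a ha b hb).2) _ (hDD hc)).eq, mul_inv_cancel_right]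
    have hsq : ⁅u a, u b⁆ ^ 2 = 1 := by
      rw [sq]
      nth_rewrite 1 [← hsym]
      rw [← commutatorElement_inv (u a) (u b), inv_mul_cancel]
    have h1' : ⁅u a, u b⁆ = 1 := by
      obtain ⟨k, hk⟩ := hD ⟨_, hDD (commutator_mem_commutator (huD a ha) (huD b hb))⟩
      rw [← orderOf_eq_one_iff]
      exact Nat.eq_one_of_dvd_coprimes
        (((Nat.coprime_primes Nat.prime_two Fact.out).2 (Ne.symm hp)).pow_right k)
        (orderOf_dvd_of_pow_eq_one hsq) (orderOf_dvd_of_pow_eq_one (congrArg Subtype.val hk))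
    exact ⟨commutatorElement_eq_one_iff_mul_comm.1 h1', by rw [hs a ha b hb, h1', one_mul]⟩
  set M := closure (u '' (A : Set G)) with hM
  have hMD : M ≤ D := by
    rw [hM, closure_le]; rintro _ ⟨a, ha, rfl⟩; exact huD a ha
  have hMcI : A ⊓ D ≤ centralizer (M : Set G) := by
    rw [le_centralizer_iff, hM, closure_le]
    rintro _ ⟨a, ha, rfl⟩
    exact mem_centralizer_iff.2 fun z hz => (h1 a ha z hz).eq.symm
  have hMc : M ≤ centralizer (M : Set G) := by
    conv_lhs => rw [hM]
    rw [closure_le]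
    rintro _ ⟨a, ha, rfl⟩
    have : M ≤ centralizer {u a} := by
      rw [hM, closure_le]
      rintro _ ⟨b, hb, rfl⟩
      exact mem_centralizer_singleton_iff.2 (h4 b hb a ha).1.eq
    exact mem_centralizer_iff.2 fun z hz => mem_centralizer_singleton_iff.1 (this hz)
  set A₀ := A ⊓ centralizer (M : Set G) with hA₀
  set A' := A₀ ⊔ M with hA'
  have hA'c : A' ≤ centralizer (A' : Set G) := by
    refine sup_le ?_ ?_
    · rw [le_centralizer_iff]
      refine sup_le (fun z hz => mem_centralizer_iff.2 fun w hw => hAcomm w hw.1 z hz.1) ?_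
      rw [le_centralizer_iff]; exact inf_le_right
    · rw [le_centralizer_iff]
      exact sup_le inf_le_right hMc
  refine ⟨A', ⟨⟨fun z w => Subtype.ext (mem_centralizer_iff.1 (hA'c w.2) z z.2)⟩⟩,
    sup_le (inf_le_left.trans le_sup_left) (hMD.trans le_sup_right), ?_, ?_, ?_, ?_⟩
  · have hkey : A₀.relIndex A ≤ A₀.relIndex M := by
      have hinj : ∀ a b : A,
          (⟨u a, subset_closure ⟨a, a.2, rfl⟩⟩ : M)⁻¹ * ⟨u b, subset_closure ⟨b, b.2, rfl⟩⟩ ∈
            A₀.subgroupOf M → a⁻¹ * b ∈ A₀.subgroupOf A := by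
        intro a b h
        rw [mem_subgroupOf] at h ⊢
        push_cast at h ⊢
        refine mem_inf.2 ⟨mul_mem (inv_mem a.2) b.2, ?_⟩
        set z := (u a)⁻¹ * u b with hz
        have hub : u b = u a * z := by rw [hz, mul_inv_cancel_left]
        have hzI : z ∈ A ⊓ D := mem_inf.2 ⟨h.1, mul_mem (inv_mem (huD a a.2)) (huD b b.2)⟩
        have hcu : ∀ c ∈ A, i c a = i c b := by
          intro c hc
          show ⁅c, u a⁆ = ⁅c, u b⁆
          rw [hub, commutatorElement_mul_right_eq_mul_conj,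
            commutatorElement_eq_one_iff_mul_comm.2 (hAcomm c hc z hzI.1), mul_one,
            mul_inv_cancel_right]
        have hMle : M ≤ centralizer {(a : G)⁻¹ * b} := by
          rw [hM, closure_le]
          rintro _ ⟨c, hc, rfl⟩
          have e : i a c = i b c := by
            rw [(h4 a a.2 c hc).2, (h4 b b.2 c hc).2, hcu c hc]
          have e' : (a : G) * u c * (a : G)⁻¹ = b * u c * (b : G)⁻¹ := by
            have := congrArg (· * u c) e
            simpa only [hi, commutatorElement_def, inv_mul_cancel_right] using this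
          refine mem_centralizer_singleton_iff.2 ?_
          calc u c * ((a : G)⁻¹ * b) = (a : G)⁻¹ * ((a : G) * u c * (a : G)⁻¹) * b := by group
            _ = _ := by rw [e']; group
        exact mem_centralizer_iff.2 fun m hm => mem_centralizer_singleton_iff.1 (hMle hm)
      let f : A ⧸ A₀.subgroupOf A → M ⧸ A₀.subgroupOf M := fun q =>
        QuotientGroup.mk (⟨u q.out, subset_closure ⟨_, q.out.2, rfl⟩⟩ : M)
      refine Nat.card_le_card_of_injective f fun q r h => ?_
      rw [← q.out_eq', ← r.out_eq']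
      exact QuotientGroup.eq.2 (hinj _ _ (QuotientGroup.eq.1 h))
    have e1 := relIndex_mul_relIndex (⊥ : Subgroup G) A₀ A bot_le inf_le_left
    have e2 := relIndex_mul_relIndex (⊥ : Subgroup G) A₀ A' bot_le le_sup_left
    simp only [relIndex_bot_left] at e1 e2
    rw [← e1, ← e2]
    exact Nat.mul_le_mul le_rfl (hkey.trans (relIndex_le_of_le_right le_sup_right FiniteIndex.index_ne_zero))
  · refine lt_of_le_of_ne (le_inf (le_trans (le_inf inf_le_left hMcI) le_sup_left) inf_le_right) ?_
    intro heq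
    apply hxN
    refine ⟨hxD, mem_normalizer_iff.2 fun a => ?_⟩
    have hmem : ∀ a ∈ A, x * a * x⁻¹ ∈ A := by
      intro a ha
      have hua : u a ∈ A ⊓ D :=
        heq ▸ (⟨mem_sup_right (subset_closure ⟨a, ha, rfl⟩), huD a ha⟩ : u a ∈ A' ⊓ D)
      have := mul_mem hua.1 ha
      simpa [hu, commutatorElement_def] using this
    refine ⟨hmem a, fun h => ?_⟩
    have hfin : A.map (MulAut.conj x).toMonoidHom = A := by
      refine eq_of_le_of_card_ge ?_ (le_of_eq ?_)
      · rintro _ ⟨b, hb, rfl⟩; exact hmem b hb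
      · exact Nat.card_congr (A.equivMapOfInjective _ (MulAut.conj x).injective).toEquiv
    obtain ⟨b, hb, hb'⟩ := (hfin.symm ▸ h : x * a * x⁻¹ ∈ A.map (MulAut.conj x).toMonoidHom)
    rw [MulEquiv.coe_toMonoidHom] at hb'
    exact (MulAut.conj x).injective hb' ▸ hb
  · refine sup_le (inf_le_left.trans le_normalizer) ?_
    rw [hM, closure_le]
    rintro _ ⟨a, ha, rfl⟩
    exact (hxa a ha).2
  · intro hAe a ha
    have hexp : ∀ b ∈ A, u b ^ p = 1 := by
      intro b hb
      have hz := hiI b hb b hb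
      have hzb : Commute (i b b) b := hAcomm _ hz.1 b hb
      have hzu : Commute (i b b) (u b) := (h1 b hb _ hz).symm
      have hbu : b * u b = i b b * (u b * b) := by rw [hi]; simp only [commutatorElement_def]; group
      have hk : ∀ n : ℕ, (u b * b) ^ n = i b b ^ n.choose 2 * (u b ^ n * b ^ n) := by
        have hbn : ∀ n : ℕ, b ^ n * u b = i b b ^ n * (u b * b ^ n) := by
          intro n
          induction n with
          | zero => simp
          | succ n ihn =>
            calc b ^ (n + 1) * u b = b * (b ^ n * u b) := by rw [pow_succ', mul_assoc]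
              _ = b * i b b ^ n * (u b * b ^ n) := by rw [ihn, mul_assoc]
              _ = i b b ^ n * (b * u b) * b ^ n := by
                rw [← (hzb.pow_left n).eq]; simp only [mul_assoc]
              _ = _ := by rw [hbu, pow_succ (i b b), pow_succ' b]; simp only [mul_assoc]
        intro n
        induction n with
        | zero => simp
        | succ n ihn =>
          calc (u b * b) ^ (n + 1) = i b b ^ n.choose 2 * u b ^ n * (b ^ n * u b) * b := by
                rw [pow_succ, ihn]; simp only [mul_assoc]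
            _ = i b b ^ n.choose 2 * (u b ^ n * i b b ^ n) * u b * (b ^ n * b) := by
                rw [hbn]; simp only [mul_assoc]
            _ = i b b ^ n.choose 2 * i b b ^ n * (u b ^ n * u b) * (b ^ n * b) := by
                rw [← (hzu.pow_pow n n).eq]; simp only [mul_assoc]
            _ = _ := by
                rw [← pow_add, Nat.choose_succ_succ' n 1, Nat.choose_one_right, add_comm n, pow_succ,
                  pow_succ, mul_assoc]
      have hconj : u b * b = x * b * x⁻¹ := by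
        rw [hu]; simp only [commutatorElement_def]; group
      obtain ⟨c, hc⟩ := PGroup.dvd_choose_two (Fact.out : p.Prime) hp
      have h5 := hk p
      rw [hconj, conj_pow, hAe b hb, mul_one, mul_inv_cancel, hc, pow_mul, hAe _ hz.1, one_pow,
        one_mul, mul_one] at h5
      exact h5.symm
    let T : Subgroup A' :=
      { carrier := {z | z ^ p = 1}
        one_mem' := one_pow p
        mul_mem' := fun {z w} hz hw => by
          show (z * w) ^ p = 1
          rw [(show Commute z w from Subtype.ext (mem_centralizer_iff.1 (hA'c w.2) z z.2)).mul_pow,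
            show z ^ p = 1 from hz, show w ^ p = 1 from hw, one_mul]
        inv_mem' := fun {z} hz => by show z⁻¹ ^ p = 1; rw [inv_pow, show z ^ p = 1 from hz, inv_one] }
    have hMT : M ≤ T.map A'.subtype := by
      rw [hM, closure_le]
      rintro _ ⟨b, hb, rfl⟩
      exact ⟨⟨u b, mem_sup_right (subset_closure ⟨b, hb, rfl⟩)⟩, Subtype.ext (hexp b hb), rfl⟩
    have hle : A' ≤ T.map A'.subtype := sup_le
      (fun z hz => ⟨⟨z, mem_sup_left hz⟩, Subtype.ext (hAe z hz.1), rfl⟩) hMT
    obtain ⟨z, hz, rfl⟩ := hle ha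
    exact congrArg Subtype.val hz

end Cfsg.Agent.PComplement
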