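import Cfsg.Agent.Lib.PComplement.Quadratic
import Cfsg.Agent.Lib.PComplement.Replacement
import Cfsg.Agent.Lib.Coprime.OmegaOne
import Cfsg.Agent.Lib.PCore.Basic
import Cfsg.Prelude.Def_Solvable

/-!
# The minimal configuration of the Glauberman–Thompson complement theorem

`G` with Sylow `P` a maximal subgroup, `C(O_p G) ≤ O_p G` and commutators of p'-elements in
`O_p G` (p odd). Then `Z(J(P))` is normal (for the elementary abelian and for the abelian version
of J), and `J(P)` is normal unless the p'-elements centralise `Z(P)`.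
-/

namespace Cfsg.Agent.PComplement

open Subgroup
open scoped commutatorElement

variable {G : Type*} [Group G] {p : ℕ}

/-- The minimal configuration. -/
structure Config (p : ℕ) (P : Sylow p G) : Prop where
  coatom : IsCoatom (P : Subgroup G)
  cent : centralizer (Cfsg.pCore p G : Set G) ≤ Cfsg.pCore p G
  comm : ∀ x y : G, (orderOf x).Coprime p → (orderOf y).Coprime p → ⁅x, y⁆ ∈ Cfsg.pCore p G

variable [Finite G] [Fact p.Prime] {P : Sylow p G}

theorem isPrimePow_orderOf_of_forall {R : Subgroup G}
    (h : ∀ r ∈ R, (orderOf r).Coprime p → r = 1) : IsPGroup p R := by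
  intro r
  have hr0 : 0 < orderOf (r : G) := orderOf_pos _
  obtain ⟨k, m, hm, hkm⟩ := Nat.exists_eq_pow_mul_and_not_dvd hr0.ne' p (Fact.out : p.Prime).ne_one
  have h1 : (r : G) ^ (p ^ k) = 1 := by
    apply h _ (pow_mem r.2 _)
    rw [orderOf_pow_of_dvd (pow_ne_zero _ (Fact.out : p.Prime).ne_zero) ⟨m, hkm⟩, hkm,
      Nat.mul_div_cancel_left _ (pow_pos (Fact.out : p.Prime).pos k)]
    exact ((Fact.out : p.Prime).coprime_iff_not_dvd.2 hm).symm
  exact ⟨k, Subtype.ext (by rw [coe_pow, h1, coe_one])⟩

theorem eq_one_of_mem_sylow {x : G} (hx : x ∈ (P : Subgroup G)) (h : (orderOf x).Coprime p) :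
    x = 1 := by
  obtain ⟨k, hk⟩ := P.2 ⟨x, hx⟩
  exact orderOf_eq_one_iff.1 (Nat.eq_one_of_dvd_coprimes (h.pow_right k) dvd_rfl
    (orderOf_dvd_of_pow_eq_one (congrArg Subtype.val hk)))

/-- A normal subgroup not inside `P` contains all p'-elements. -/
theorem Config.mem_of_coprime (h : Config p P) (N : Subgroup G) [N.Normal]
    (hN : ¬ N ≤ (P : Subgroup G)) {x : G} (hx : (orderOf x).Coprime p) : x ∈ N := by
  have htop : (P : Subgroup G) ⊔ N = ⊤ :=
    h.coatom.2 _ (lt_of_le_of_ne le_sup_left fun he => hN (he ▸ le_sup_right))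
  have hPG : IsPGroup p (G ⧸ N) := by
    intro q
    obtain ⟨g, rfl⟩ := QuotientGroup.mk'_surjective N q
    obtain ⟨a, ha, n, hn, rfl⟩ := mem_sup_of_normal_right.1 (htop ▸ Subgroup.mem_top g)
    obtain ⟨k, hk⟩ := P.2 ⟨a, ha⟩
    refine ⟨k, ?_⟩
    have : QuotientGroup.mk' N (a * n) = QuotientGroup.mk' N a := by
      rw [map_mul, show QuotientGroup.mk' N n = 1 from (QuotientGroup.eq_one_iff n).2 hn, mul_one]
    rw [this, ← map_pow, show a ^ p ^ k = 1 from congrArg Subtype.val hk, map_one]
  rw [← QuotientGroup.eq_one_iff]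
  obtain ⟨k, hk⟩ := hPG (x : G ⧸ N)
  exact orderOf_eq_one_iff.1 (Nat.eq_one_of_dvd_coprimes (hx.pow_right k)
    (orderOf_map_dvd (QuotientGroup.mk' N) x) (orderOf_dvd_of_pow_eq_one hk))

/-- A normal subgroup of `G` inside `P` lies in `O_p G`. -/
theorem le_core_of_le_sylow (N : Subgroup G) [N.Normal] (hN : N ≤ (P : Subgroup G)) :
    N ≤ Cfsg.pCore p G := PCore.le_pCore (P.2.to_le hN)

/-- `g` normalises every subgroup that `P` and all p'-elements normalise. -/
theorem Config.normal_of (h : Config p P) {H : Subgroup G}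
    (hP : (P : Subgroup G) ≤ normalizer (H : Set G))
    (hK : ∀ k : G, (orderOf k).Coprime p → k ∈ normalizer (H : Set G)) : H.Normal := by
  rw [← normalizer_eq_top_iff]
  refine h.coatom.2 _ (lt_of_le_of_ne hP fun he => ?_)
  -- otherwise all p'-elements are trivial and `G` is a p-group
  have hG : IsPGroup p (⊤ : Subgroup G) := isPrimePow_orderOf_of_forall fun k _ hk =>
    eq_one_of_mem_sylow (P := P) (he ▸ hK k hk) hk
  exact h.coatom.1 (P.3 hG le_top).symm

/-- A quadratic element of `P` on a normal p-subgroup with centraliser inside `P` lies in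
`O_p G`. -/
theorem Config.mem_core_of_quadratic (h : Config p P) (hp : p ≠ 2) (B : Subgroup G) [B.Normal]
    (hB : B ≤ (P : Subgroup G)) (hC : centralizer (B : Set G) ≤ (P : Subgroup G))
    {a : G} (ha : a ∈ (P : Subgroup G)) (hq : ∀ b ∈ B, ⁅⁅b, a⁆, a⁆ = 1) :
    a ∈ Cfsg.pCore p G := by
  set U := Cfsg.pCore p G with hU
  haveI hUn : U.Normal := inferInstance
  have hUP : U ≤ (P : Subgroup G) := PCore.pCore_le_sylow P
  set S : Set G := {c | ∃ k : G, (orderOf k).Coprime p ∧ c = ⁅k, a⁆} with hS
  set R := normalClosure S with hR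
  have key : ∀ (n : ℕ) (B : Subgroup G), B.Normal → Nat.card B ≤ n → B ≤ (P : Subgroup G) →
      (∀ b ∈ B, ⁅⁅b, a⁆, a⁆ = 1) → ∀ r ∈ R, (orderOf r).Coprime p → ∀ b ∈ B, Commute r b := by
    intro n
    induction n with
    | zero => intro B _ hn; exact absurd hn (Nat.not_le.2 Nat.card_pos)
    | succ n ih =>
      intro B hBn hn hBP hqB r hr hrp
      by_cases hbot : B = ⊥
      · intro b hb
        rw [hbot, mem_bot] at hb
        rw [hb]
        exact Commute.one_right r
      obtain ⟨B', ⟨hB'n, hB'lt⟩, hmax⟩ :=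
        (Set.toFinite {N : Subgroup G | N.Normal ∧ N < B}).exists_maximal
          ⟨⊥, inferInstance, bot_lt_iff_ne_bot.2 hbot⟩
      haveI := hBn
      haveI := hB'n
      have hIH := ih B' hB'n (by
        have : Nat.card B' < Nat.card B := by
          by_contra hh
          exact hB'lt.ne (eq_of_le_of_card_ge hB'lt.le (not_lt.1 hh))
        omega) (hB'lt.le.trans hBP) (fun b hb => hqB b (hB'lt.le hb)) r hr hrp
      have hBU : B ≤ U := le_core_of_le_sylow B hBP
      set π := QuotientGroup.mk' B' with hπ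
      have hlayer : ⁅B, U⁆ ≤ B' := by
        rcases (sup_le (commutator_le_left B U) hB'lt.le : ⁅B, U⁆ ⊔ B' ≤ B).lt_or_eq with hlt | heq
        · exact le_sup_left.trans (hmax ⟨inferInstance, hlt⟩ le_sup_right)
        · exfalso
          have hbar : B.map π = ⁅B.map π, U.map π⁆ := by
            conv_lhs => rw [← heq]
            rw [Subgroup.map_sup, Subgroup.map_commutator,
              show B'.map π = ⊥ from QuotientGroup.map_mk'_self B', sup_bot_eq]
          have hser : ∀ i, B.map π ≤ Subgroup.lowerCentralSeries ((P : Subgroup G).map π) i := by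
            intro i
            induction i with
            | zero => exact map_mono hBP
            | succ i ihi => rw [hbar]; exact commutator_mono ihi (map_mono hUP)
          haveI : Group.IsNilpotent ↥((P : Subgroup G).map π) := (P.2.map π).isNilpotent
          have := hser (Group.nilpotencyClass ↥((P : Subgroup G).map π))
          rw [lowerCentralSeries_eq_bot_of_nilpotencyClass_le le_rfl, le_bot_iff, Subgroup.map_eq_bot_iff,
            QuotientGroup.ker_mk'] at this
          exact hB'lt.not_ge this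
      -- the action on the layer
      set V := B.map π with hV
      haveI : V.Normal := hBn.map π (QuotientGroup.mk'_surjective B')
      letI : CommGroup V :=
        { (inferInstance : Group V) with
          mul_comm := by
            rintro ⟨_, x, hx, rfl⟩ ⟨_, y, hy, rfl⟩
            refine Subtype.ext (commutatorElement_eq_one_iff_mul_comm.1 ?_)
            rw [← map_commutatorElement]
            exact (QuotientGroup.eq_one_iff _).2 (hlayer (commutator_mem_commutator hx (hBU hy))) }
      let φ : G →* MulAut V := (MulAut.conjNormal (H := V)).comp π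
      have hφU : ∀ u ∈ U, φ u = 1 := by
        intro u hu
        apply MulEquiv.ext
        rintro ⟨_, x, hx, rfl⟩
        apply Subtype.ext
        show π u * π x * (π u)⁻¹ = π x
        have hxu : π ⁅x, u⁆ = 1 := (QuotientGroup.eq_one_iff _).2 (hlayer (commutator_mem_commutator hx hu))
        rw [map_commutatorElement, commutatorElement_eq_one_iff_mul_comm] at hxu
        rw [← hxu, mul_inv_cancel_right]
      have hVp : IsPGroup p V := (P.2.to_le hBP).map π
      obtain ⟨e, he⟩ := hVp.exists_card_eq
      have hVodd : Odd (Nat.card V) := by rw [he]; exact ((Fact.out : p.Prime).odd_of_ne_two hp).pow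
      have hcomm : ∀ k : G, (orderOf k).Coprime p → Commute (φ a) (φ k) := by
        intro k hk
        have hconj : ∀ g : G, Commute (φ k) (φ g * φ k * (φ g)⁻¹) := by
          intro g
          rw [← map_inv, ← map_mul, ← map_mul, ← commutatorElement_eq_one_iff_commute,
            ← map_commutatorElement]
          refine hφU _ (h.comm k _ hk ?_)
          rwa [show g * k * g⁻¹ = MulAut.conj g k from rfl, MulEquiv.orderOf_eq]
        refine commute_of_quadratic hVodd ?_ ?_ (hconj a) ?_
        · rw [he]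
          exact (hk.coprime_dvd_left (orderOf_map_dvd φ k)).pow_right e
        · rintro ⟨_, x, hx, rfl⟩
          have hq1 : ⁅⁅a, x⁆, a⁆ = 1 := by
            rw [← commutatorElement_inv x a, commutatorElement_eq_one_iff_commute]
            exact (commutatorElement_eq_one_iff_commute.1 (hqB x hx)).inv_left
          have hfix : a * ⁅a, x⁆ * a⁻¹ = ⁅a, x⁆ := by
            rw [← (commutatorElement_eq_one_iff_commute.1 hq1).eq, mul_inv_cancel_right]
          apply Subtype.ext
          rw [div_eq_mul_inv]
          show π a * (π a * π x * (π a)⁻¹ * (π x)⁻¹) * (π a)⁻¹ = π a * π x * (π a)⁻¹ * (π x)⁻¹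
          have := congrArg π hfix
          simpa only [map_mul, map_inv, commutatorElement_def] using this
        · have := hconj a⁻¹
          rwa [map_inv, inv_inv] at this
      have hker : R ≤ φ.ker := by
        refine normalClosure_le_normal ?_
        rintro _ ⟨k, hk, rfl⟩
        rw [SetLike.mem_coe, MonoidHom.mem_ker, map_commutatorElement,
          commutatorElement_eq_one_iff_commute]
        exact (hcomm k hk).symm
      intro b hb
      have hz : ⁅r, b⁆ ∈ B' := by
        refine (QuotientGroup.eq_one_iff _).1 (?_ : π ⁅r, b⁆ = 1)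
        rw [map_commutatorElement, commutatorElement_eq_one_iff_mul_comm]
        have := congrArg Subtype.val (DFunLike.congr_fun (MonoidHom.mem_ker.1 (hker hr))
          (⟨π b, b, hb, rfl⟩ : V))
        exact mul_inv_eq_iff_eq_mul.1 this
      have hzr : Commute r ⁅r, b⁆ := hIH _ hz
      have hpow : ∀ k : ℕ, r ^ k * b * (r ^ k)⁻¹ = ⁅r, b⁆ ^ k * b := by
        intro k
        induction k with
        | zero => simp
        | succ k ihk =>
          calc r ^ (k + 1) * b * (r ^ (k + 1))⁻¹ = r * (r ^ k * b * (r ^ k)⁻¹) * r⁻¹ := by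
                rw [pow_succ', mul_inv_rev]; simp only [mul_assoc]
            _ = r * ⁅r, b⁆ ^ k * b * r⁻¹ := by rw [ihk]; simp only [mul_assoc]
            _ = ⁅r, b⁆ ^ k * (⁅r, b⁆ * b) := by
                rw [(hzr.pow_right k).eq, commutatorElement_def]; group
            _ = _ := by rw [pow_succ, mul_assoc]
      have hz1 : ⁅r, b⁆ ^ orderOf r = 1 := by
        have := hpow (orderOf r)
        rw [pow_orderOf_eq_one, inv_one, mul_one, one_mul, right_eq_mul] at this
        exact this
      obtain ⟨j, hj⟩ := P.2 ⟨⁅r, b⁆, hBP (hB'lt.le hz)⟩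
      exact commutatorElement_eq_one_iff_commute.1 (orderOf_eq_one_iff.1 (Nat.eq_one_of_dvd_coprimes
        (hrp.pow_right j) (orderOf_dvd_of_pow_eq_one hz1) (orderOf_dvd_of_pow_eq_one (congrArg Subtype.val hj))))
  have hR1 : IsPGroup p R := isPrimePow_orderOf_of_forall fun r hr hrp =>
    eq_one_of_mem_sylow (P := P) (hC (mem_centralizer_iff.2 fun b hb =>
      ((key _ B inferInstance le_rfl hB hq r hr hrp b hb).eq).symm)) hrp
  haveI hRn : R.Normal := normalClosure_normal
  have hRU : R ≤ U := PCore.le_pCore hR1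
  -- the elements centralising every p'-element modulo U
  let σ := QuotientGroup.mk' U
  let N : Subgroup G :=
    (⨅ (k : G) (_ : (orderOf k).Coprime p), centralizer ({σ k} : Set (G ⧸ U))).comap σ
  have hmemN : ∀ g, g ∈ N ↔ ∀ k : G, (orderOf k).Coprime p → ⁅k, g⁆ ∈ U := by
    intro g
    rw [Subgroup.mem_comap, Subgroup.mem_iInf]
    refine forall_congr' fun k => ?_
    rw [Subgroup.mem_iInf]
    refine imp_congr_right fun _ => ?_
    rw [mem_centralizer_singleton_iff, ← QuotientGroup.eq_one_iff]
    show _ ↔ σ ⁅k, g⁆ = 1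
    rw [map_commutatorElement, commutatorElement_eq_one_iff_mul_comm]
    exact eq_comm
  haveI hNn : N.Normal := ⟨fun g hg c => (hmemN _).2 fun k hk => by
    have h1 := (hmemN g).1 hg (c⁻¹ * k * c) (by
      rwa [show c⁻¹ * k * c = MulAut.conj c⁻¹ k by simp, MulEquiv.orderOf_eq])
    have h2 := hUn.conj_mem _ h1 c
    have e : c * ⁅c⁻¹ * k * c, g⁆ * c⁻¹ = ⁅k, c * g * c⁻¹⁆ := by
      simp only [commutatorElement_def]; group
    rwa [e] at h2⟩
  have hUN : U ≤ N := fun u hu => (hmemN u).2 fun k _ =>
    commutator_le_right ⊤ U (commutator_mem_commutator (Subgroup.mem_top k) hu)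
  have haN : a ∈ N := (hmemN a).2 fun k hk => hRU (subset_normalClosure ⟨k, hk, rfl⟩)
  set M := N ⊓ (P : Subgroup G)
  haveI hMn : M.Normal := by
    refine h.normal_of (fun x hx => ?_) (fun k hk => ?_)
    · refine mem_normalizer_iff.2 fun m => ⟨fun hm => mem_inf.2 ⟨hNn.conj_mem m hm.1 x,
        mul_mem (mul_mem hx hm.2) (inv_mem hx)⟩, fun hm => ?_⟩
      have h1 := hNn.conj_mem _ hm.1 x⁻¹
      have h2 := mul_mem (mul_mem (inv_mem hx) hm.2) hx
      simp only [mul_assoc, inv_mul_cancel_left, inv_mul_cancel, mul_one, inv_inv] at h1 h2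
      exact ⟨h1, h2⟩
    · have hc : ∀ c : G, (orderOf c).Coprime p → ∀ m ∈ M, c * m * c⁻¹ ∈ M := by
        intro c hc m hm
        have e : c * m * c⁻¹ = ⁅c, m⁆ * m := by rw [commutatorElement_def, inv_mul_cancel_right]
        have h1 : ⁅c, m⁆ ∈ U := (hmemN m).1 hm.1 c hc
        exact ⟨hNn.conj_mem m hm.1 c, e ▸ mul_mem (hUP h1) hm.2⟩
      refine mem_normalizer_iff.2 fun m => ⟨hc k hk m, fun hm => ?_⟩
      have := hc k⁻¹ (by rwa [orderOf_inv]) _ hm
      simpa [mul_assoc] using this
  exact le_core_of_le_sylow M inf_le_right ⟨haN, ha⟩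

/-- A candidate: an abelian subgroup of `P`, of exponent p if `e`. -/
def IsCand (e : Prop) (p : ℕ) (P : Sylow p G) (A : Subgroup G) : Prop :=
  A ≤ (P : Subgroup G) ∧ IsMulCommutative A ∧ (e → ∀ a ∈ A, a ^ p = 1)

/-- A candidate of largest order. -/
def IsMember (e : Prop) (p : ℕ) (P : Sylow p G) (A : Subgroup G) : Prop :=
  IsCand e p P A ∧ ∀ B, IsCand e p P B → Nat.card B ≤ Nat.card A

omit [Fact p.Prime] in
theorem exists_isMember (e : Prop) : ∃ A, IsMember e p P A := by
  have hbot : IsCand e p P ⊥ := ⟨bot_le,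
    ⟨⟨fun a b => Subsingleton.elim _ _⟩⟩, fun _ a ha => by rw [mem_bot.1 ha, one_pow]⟩
  obtain ⟨A, hA, hmax⟩ := (Set.toFinite {A : Subgroup G | IsCand e p P A}).exists_maximalFor
    (fun A : Subgroup G => Nat.card A) _ ⟨⊥, hbot⟩
  exact ⟨A, hA, fun B hB => (le_total _ _).elim (hmax hB) id⟩

/-- Replacement for members. -/
theorem IsMember.exists_replacement {e : Prop} {A B : Subgroup G} (hA : IsMember e p P A) (hp : p ≠ 2)
    [B.Normal] (hB : B ≤ (P : Subgroup G)) (hcl : ⁅B, B⁆ ≤ centralizer (B : Set G))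
    (hAB : A ≤ centralizer ((⁅B, B⁆ : Subgroup G) : Set G)) (hnot : ¬ B ≤ normalizer (A : Set G)) :
    ∃ A', IsMember e p P A' ∧ Nat.card ↥(A ⊓ B) < Nat.card ↥(A' ⊓ B) ∧
      A' ≤ normalizer (A : Set G) := by
  obtain ⟨A', hc, hle, hcard, hlt, hnorm, hexp⟩ := replacement hp hA.1.2.1 (P.2.to_le hA.1.1)
    (P.2.to_le hB) (by rw [Subgroup.normalizer_eq_top]; exact le_top) hcl hAB hnot
  refine ⟨A', ⟨⟨hle.trans (sup_le hA.1.1 hB), hc, fun he => hexp (hA.1.2.2 he)⟩,
    fun C hC => (hA.2 C hC).trans hcard⟩, ?_, hnorm⟩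
  by_contra hge
  exact hlt.ne (eq_of_le_of_card_ge hlt.le (not_lt.1 hge))

omit [Finite G] [Fact p.Prime] in
/-- If a subgroup `B` normalised by the abelian `A` normalises `A`, then `A` is quadratic on it. -/
theorem quadratic_of_le_normalizer {A B : Subgroup G} (hA : IsMulCommutative A)
    (hBA : B ≤ normalizer (A : Set G)) {a : G} (ha : a ∈ A) {b : G} (hb : b ∈ B) :
    ⁅⁅b, a⁆, a⁆ = 1 := by
  rw [commutatorElement_eq_one_iff_mul_comm]
  have h1 : ⁅b, a⁆ ∈ A := mul_mem ((mem_normalizer_iff.1 (hBA hb) a).1 ha) (inv_mem ha)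
  exact congrArg Subtype.val (hA.is_comm.comm ⟨_, h1⟩ ⟨a, ha⟩)

omit [Finite G] in
/-- An element of exponent p centralising a member lies in it. -/
theorem IsMember.mem_of_centralizes [Finite G] {e : Prop} {A : Subgroup G} (hA : IsMember e p P A) {x : G}
    (hx : x ∈ (P : Subgroup G)) (hxp : x ^ p = 1) (hc : ∀ a ∈ A, Commute a x) : x ∈ A := by
  have hcl : ∀ s ∈ (A : Set G) ∪ {x}, ∀ t ∈ (A : Set G) ∪ {x}, s * t = t * s := by
    rintro s (hs | rfl) t (ht | rfl)
    · exact congrArg Subtype.val (hA.1.2.1.is_comm.comm ⟨s, hs⟩ ⟨t, ht⟩)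
    · exact (hc s hs).eq
    · exact (hc t ht).eq.symm
    · rfl
  set C := closure ((A : Set G) ∪ {x}) with hC
  haveI hCc : IsMulCommutative C := Subgroup.isMulCommutative_closure hcl
  have hcand : IsCand e p P C := by
    refine ⟨(closure_le _).2 (Set.union_subset hA.1.1 (Set.singleton_subset_iff.2 hx)), hCc, ?_⟩
    intro he g hg
    induction hg using closure_induction with
    | mem y hy =>
      rcases hy with hy | rfl
      · exact hA.1.2.2 he y hy
      · exact hxp
    | one => exact one_pow p
    | mul y z hy hz ihy ihz =>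
      rw [(show Commute y z from congrArg Subtype.val (hCc.is_comm.comm ⟨y, hy⟩ ⟨z, hz⟩)).mul_pow,
        ihy, ihz, one_mul]
    | inv y _ ih => rw [inv_pow, ih, inv_one]
  have hle : A ≤ C := fun a ha => subset_closure (Or.inl ha)
  exact (eq_of_le_of_card_ge hle (hA.2 C hcand)).symm ▸ subset_closure (Or.inr rfl)

/-- If a normal abelian p-subgroup `E` lies in all members inside `O_p G` and `C(E) ≤ P`, all
members lie in `O_p G`. -/
theorem Config.member_le_core {e : Prop} (h : Config p P) (hp : p ≠ 2) (E : Subgroup G) [E.Normal]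
    (hE : E ≤ (P : Subgroup G)) (hEc : IsMulCommutative E)
    (hEin : ∀ A, IsMember e p P A → A ≤ Cfsg.pCore p G → E ≤ A)
    (hC : centralizer (E : Set G) ≤ (P : Subgroup G)) {A : Subgroup G} (hA : IsMember e p P A) :
    A ≤ Cfsg.pCore p G := by
  by_contra hne
  obtain ⟨A₁, ⟨hA₁, hA₁U⟩, hmax⟩ :=
    (Set.toFinite {A | IsMember e p P A ∧ ¬ A ≤ Cfsg.pCore p G}).exists_maximalFor
      (fun A : Subgroup G => Nat.card ↥(A ⊓ E)) _ ⟨A, hA, hne⟩
  have hEA : E ≤ normalizer (A₁ : Set G) := by
    by_contra hnot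
    have hEE : ⁅E, E⁆ = ⊥ := by
      rw [eq_bot_iff, commutator_le]
      intro x hx y hy
      exact mem_bot.2 (commutatorElement_eq_one_iff_mul_comm.2
        (congrArg Subtype.val (hEc.is_comm.comm ⟨x, hx⟩ ⟨y, hy⟩)))
    obtain ⟨A', hA', hlt, hnorm⟩ := hA₁.exists_replacement hp hE (by rw [hEE]; exact bot_le)
      (by rw [hEE]; intro z _; exact mem_centralizer_iff.2 fun w hw => by simp [mem_bot.1 hw]) hnot
    by_cases hU : A' ≤ Cfsg.pCore p G
    · exact hnot ((hEin A' hA' hU).trans hnorm)
    · exact absurd (hmax ⟨hA', hU⟩ hlt.le) (Nat.not_le.2 hlt)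
  exact hA₁U fun a ha => h.mem_core_of_quadratic hp E hE hC (hA₁.1.1 ha)
    fun b hb => quadratic_of_le_normalizer hA₁.1.2.1 hEA ha hb

/-- p'-elements centralising the elements of order p of a normal p-subgroup centralise it. -/
theorem centralizes_of_exponent (hp : p ≠ 2) (H : Subgroup G) [H.Normal] (hH : IsPGroup p H)
    {k : G} (hk : (orderOf k).Coprime p) (hfix : ∀ x ∈ H, x ^ p = 1 → Commute x k) :
    k ∈ centralizer (H : Set G) :=
  zpowers_le.1 (Coprime.le_centralizer_of_fix_pow_eq_one hp H (zpowers k) hH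
    (by rw [Subgroup.normalizer_eq_top]; exact le_top) (by rwa [Nat.card_zpowers])
    (fun x hx hxp => zpowers_le.2 (mem_centralizer_singleton_iff.2 (hfix x hx hxp).eq.symm)))

/-- `Z(J)` is normal, where `J` is generated by the members. -/
theorem Config.center_member_normal {e : Prop} (h : Config p P) (hp : p ≠ 2) (Z : Subgroup G)
    (hZP : Z ≤ (P : Subgroup G)) (hPZ : (P : Subgroup G) ≤ normalizer (Z : Set G))
    (hZc : IsMulCommutative Z) (hZA : ∀ A, IsMember e p P A → A ≤ centralizer (Z : Set G))
    (hfull : (∀ A, IsMember e p P A → A ≤ Cfsg.pCore p G) → Z.Normal) : Z.Normal := by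
  set U := Cfsg.pCore p G with hU
  have hUP : U ≤ (P : Subgroup G) := PCore.pCore_le_sylow P
  have hUC : centralizer (U : Set G) ≤ (P : Subgroup G) := h.cent.trans hUP
  have hZU : Z ≤ U := fun z hz => h.mem_core_of_quadratic hp U hUP hUC (hZP hz)
    fun b hb => quadratic_of_le_normalizer hZc (hUP.trans hPZ) hz hb
  -- (I) some member lies in U
  by_contra hZn
  obtain ⟨A₀, hA₀, hA₀U⟩ : ∃ A, IsMember e p P A ∧ A ≤ U := by
    by_contra hno
    push Not at hno
    apply hZn
    have key : ∀ (n : ℕ) (B : Subgroup G), B.Normal → Nat.card B ≤ n → B ≤ U → (B ⊓ Z).Normal := by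
      intro n
      induction n with
      | zero => intro B _ hn; exact absurd hn (Nat.not_le.2 Nat.card_pos)
      | succ n ih =>
        intro B hBn hn hBU
        haveI := hBn
        have hsub : ∀ C : Subgroup G, C.Normal → C < B → (C ⊓ Z).Normal := by
          intro C hC hlt
          refine ih C hC ?_ (hlt.le.trans hBU)
          have : Nat.card C < Nat.card B := by
            by_contra hh
            exact hlt.ne (eq_of_le_of_card_ge hlt.le (not_lt.1 hh))
          omega
        set B₀ := normalClosure ((B ⊓ Z : Subgroup G) : Set G) with hB₀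
        haveI : B₀.Normal := normalClosure_normal
        have hB₀le : B₀ ≤ B := normalClosure_le_normal fun x hx => hx.1
        have hge : B ⊓ Z ≤ B₀ := subset_normalClosure
        rcases hB₀le.lt_or_eq with hlt | heq
        · have := hsub B₀ inferInstance hlt
          rwa [le_antisymm (inf_le_inf_right Z hB₀le) (le_inf hge inf_le_right)] at this
        -- now B is generated by conjugates of B ∩ Z
        have hBP : B ≤ (P : Subgroup G) := hBU.trans hUP
        by_cases hbot : B = ⊥
        · rw [hbot, bot_inf_eq]; infer_instance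
        have hB'lt : ⁅B, B⁆ < B := by
          refine lt_of_le_of_ne (commutator_le_left B B) fun he => hbot ?_
          have hser : ∀ i, B ≤ Subgroup.lowerCentralSeries (P : Subgroup G) i := by
            intro i
            induction i with
            | zero => exact hBP
            | succ i ihi => conv_lhs => rw [← he]
                            exact commutator_mono ihi hBP
          haveI : Group.IsNilpotent ↥(P : Subgroup G) := P.2.isNilpotent
          have := hser (Group.nilpotencyClass ↥(P : Subgroup G))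
          rwa [lowerCentralSeries_eq_bot_of_nilpotencyClass_le le_rfl, le_bot_iff] at this
        haveI hN : (⁅B, B⁆ ⊓ Z).Normal := hsub _ inferInstance hB'lt
        have hB'Z : ⁅B, B⁆ ≤ Z := by
          refine le_trans ?_ (inf_le_right (a := ⁅B, B⁆))
          rw [commutator_le]
          intro x hx y hy
          let π := QuotientGroup.mk' (⁅B, B⁆ ⊓ Z)
          have hle : B ≤ (centralizer ((B.map π : Subgroup _) : Set _)).comap π := by
            haveI : (B.map π).Normal := hBn.map π (QuotientGroup.mk'_surjective _)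
            conv_lhs => rw [← heq]
            refine normalClosure_le_normal ?_
            intro z hz
            rw [SetLike.mem_coe, Subgroup.mem_comap, mem_centralizer_iff]
            rintro _ ⟨b, hb, rfl⟩
            refine commutatorElement_eq_one_iff_mul_comm.1 ?_
            rw [← map_commutatorElement]
            refine (QuotientGroup.eq_one_iff _).2 (mem_inf.2 ⟨commutator_mem_commutator hb hz.1, ?_⟩)
            exact mul_mem ((mem_normalizer_iff.1 (hPZ (hBP hb)) z).1 hz.2) (inv_mem hz.2)
          refine (QuotientGroup.eq_one_iff _).1 (?_ : π ⁅x, y⁆ = 1)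
          rw [map_commutatorElement, commutatorElement_eq_one_iff_mul_comm]
          exact mem_centralizer_iff.1 (hle hy) (π x) ⟨x, hx, rfl⟩
        have hcl : ⁅B, B⁆ ≤ centralizer (B : Set G) := by
          rw [le_centralizer_iff]
          conv_lhs => rw [← heq]
          refine normalClosure_le_normal fun z hz => mem_centralizer_iff.2 fun c hc => ?_
          exact congrArg Subtype.val (hZc.is_comm.comm ⟨c, hB'Z hc⟩ ⟨z, hz.2⟩)
        obtain ⟨A₁, hA₁, hmax⟩ := (Set.toFinite {A | IsMember e p P A}).exists_maximalFor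
          (fun A : Subgroup G => Nat.card ↥(A ⊓ B)) _ (exists_isMember e)
        have hBA : B ≤ normalizer (A₁ : Set G) := by
          by_contra hnot
          obtain ⟨A', hA', hlt, -⟩ := hA₁.exists_replacement hp hBP hcl
            ((hZA A₁ hA₁).trans (centralizer_le hB'Z)) hnot
          exact absurd (hmax hA' hlt.le) (Nat.not_le.2 hlt)
        have hCB : ¬ centralizer (B : Set G) ≤ (P : Subgroup G) := fun hC =>
          hno A₁ hA₁ fun a ha => h.mem_core_of_quadratic hp B hBP hC (hA₁.1.1 ha)
            fun b hb => quadratic_of_le_normalizer hA₁.1.2.1 hBA ha hb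
        refine h.normal_of (fun x hx => ?_) fun k hk => ?_
        · refine mem_normalizer_iff.2 fun m => ⟨fun hm => ⟨hBn.conj_mem m hm.1 x,
            (mem_normalizer_iff.1 (hPZ hx) m).1 hm.2⟩, fun hm => ⟨?_, (mem_normalizer_iff.1 (hPZ hx) m).2 hm.2⟩⟩
          have := hBn.conj_mem _ hm.1 x⁻¹
          simpa [mul_assoc] using this
        · exact centralizer_le_normalizer _
            (centralizer_le (inf_le_left : B ⊓ Z ≤ B) (h.mem_of_coprime _ hCB hk))
    have := key _ U inferInstance le_rfl le_rfl
    rwa [inf_eq_right.2 hZU] at this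
  -- (II)
  set JU : Subgroup G := ⨆ (A : Subgroup G) (_ : IsMember e p P A ∧ A ≤ U), A with hJU
  haveI hJn : JU.Normal := by
    rw [← normalizer_eq_top_iff, eq_top_iff]
    intro g _
    rw [mem_normalizer_iff_map_conj_eq]
    refine eq_of_le_of_card_ge ?_ (le_of_eq ?_)
    · rw [hJU, Subgroup.map_iSup]
      refine iSup_le fun A => ?_
      rw [Subgroup.map_iSup]
      refine iSup_le fun hA => ?_
      have hle : A.map (MulAut.conj g).toMonoidHom ≤ U := by
        rintro _ ⟨a, ha, rfl⟩
        exact (inferInstance : U.Normal).conj_mem a (hA.2 ha) g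
      refine le_iSup₂_of_le (A.map (MulAut.conj g).toMonoidHom) ⟨⟨⟨hle.trans hUP, ?_, ?_⟩, ?_⟩, hle⟩ le_rfl
      · constructor; constructor
        rintro ⟨_, a, ha, rfl⟩ ⟨_, b, hb, rfl⟩
        refine Subtype.ext ?_
        simp only [coe_mul]
        rw [← map_mul, ← map_mul]
        exact congrArg _ (congrArg Subtype.val (hA.1.1.2.1.is_comm.comm ⟨a, ha⟩ ⟨b, hb⟩))
      · rintro he _ ⟨a, ha, rfl⟩
        rw [← map_pow, hA.1.1.2.2 he a ha, map_one]
      · intro C hC
        rw [← Nat.card_congr (A.equivMapOfInjective _ (MulAut.conj g).injective).toEquiv]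
        exact hA.1.2 C hC
    · exact Nat.card_congr (JU.equivMapOfInjective _ (MulAut.conj g).injective).toEquiv
  set Y := U ⊓ centralizer (JU : Set G) with hY
  haveI : Y.Normal := inferInstance
  set E := closure {x | x ∈ Y ∧ x ^ p = 1} with hEdef
  haveI : E.Normal := by
    refine ⟨fun n hn g => ?_⟩
    have hle : E ≤ E.comap (MulAut.conj g).toMonoidHom := by
      conv_lhs => rw [hEdef]
      rw [closure_le]
      intro x hx
      exact subset_closure ⟨(inferInstance : Y.Normal).conj_mem x hx.1 g,
        by show (g * x * g⁻¹) ^ p = 1; rw [conj_pow, hx.2, mul_one, mul_inv_cancel]⟩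
    exact hle hn
  have hEin : ∀ A, IsMember e p P A → A ≤ U → E ≤ A := by
    intro A hA hAU
    rw [hEdef, closure_le]
    rintro x ⟨hx, hxp⟩
    refine hA.mem_of_centralizes (hUP hx.1) hxp fun a ha => ?_
    exact mem_centralizer_iff.1 hx.2 a ((le_iSup₂_of_le (f := fun (A : Subgroup G) (_ : IsMember e p P A ∧ A ≤ U) => A) A ⟨hA, hAU⟩ le_rfl) ha)
  have hEY : E ≤ Y := (closure_le _).2 fun x hx => hx.1
  have hEA₀ : E ≤ A₀ := hEin A₀ hA₀ hA₀U
  have hEc : IsMulCommutative E := ⟨⟨fun a b => Subtype.ext
    (congrArg Subtype.val (hA₀.1.2.1.is_comm.comm ⟨a, hEA₀ a.2⟩ ⟨b, hEA₀ b.2⟩) :)⟩⟩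
  have hEP : E ≤ (P : Subgroup G) := hEY.trans (inf_le_left.trans hUP)
  by_cases hC : centralizer (E : Set G) ≤ (P : Subgroup G)
  · exact hZn (hfull fun A hA => h.member_le_core hp E hEP hEc hEin hC hA)
  · refine hZn (h.normal_of hPZ fun k hk => centralizer_le_normalizer _ ?_)
    have hkY : k ∈ centralizer (Y : Set G) := by
      refine centralizes_of_exponent hp Y (P.2.to_le (inf_le_left.trans hUP)) hk fun x hx hxp => ?_
      exact mem_centralizer_iff.1 (h.mem_of_coprime _ hC hk) x (subset_closure ⟨hx, hxp⟩)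
    refine centralizer_le (fun z hz => ?_) hkY
    refine ⟨hZU hz, ?_⟩
    have hle : JU ≤ centralizer {z} := iSup₂_le fun A hA a ha =>
      mem_centralizer_singleton_iff.2 (mem_centralizer_iff.1 (hZA A hA.1 ha) z hz).symm
    exact mem_centralizer_iff.2 fun a ha => mem_centralizer_singleton_iff.1 (hle ha)

end Cfsg.Agent.PComplement
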