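import Cfsg.Agent.Lib.Transfer.Frobenius
import Cfsg.Agent.Lib.Coprime.Stabilize
import Cfsg.Agent.Lib.PCore.Basic

/-!
# Normalisers of p-subgroups containing their centraliser

If `X ≤ S` is normalised by the Sylow subgroup `S`, `C_S(X) ≤ X` and the p'-elements of `N(X)`
centralise `X`, then `N(X)` has a normal p-complement.
-/

namespace Cfsg.Agent.PComplement

open Subgroup
open scoped commutatorElement

theorem hasNormalPComplement_normalizer_of_centralizes {G : Type*} [Group G] [Finite G] {p : ℕ}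
    [Fact p.Prime] (S : Sylow p G) (X : Subgroup G)
    (hSX : (S : Subgroup G) ≤ normalizer (X : Set G))
    (hc : (S : Subgroup G) ⊓ centralizer (X : Set G) ≤ X)
    (h : ∀ g ∈ normalizer (X : Set G), (orderOf g).Coprime p → g ∈ centralizer (X : Set G)) :
    Cfsg.HasNormalPComplement p ↥(normalizer (X : Set G)) := by
  set N := normalizer (X : Set G) with hN
  set S' := S.subtype hSX with hS'
  refine Transfer.hasNormalPComplement_of_centralizer S' fun Q hQ g hg hgp => ?_
  refine mem_centralizer_iff.2 fun q hq => ?_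
  have hgC : (g : G) ∈ centralizer (X : Set G) := h g g.2 (by rwa [Subgroup.orderOf_coe])
  -- the p-elements of N centralising X lie in X
  have key : ∀ d : N, (∃ k, d ^ p ^ k = 1) → (d : G) ∈ centralizer (X : Set G) → (d : G) ∈ X := by
    rintro d ⟨k, hk⟩ hdC
    have hdp : IsPGroup p (zpowers d) := by
      rintro ⟨z, hz⟩
      obtain ⟨i, rfl⟩ := mem_zpowers_iff.1 hz
      refine ⟨k, Subtype.ext ?_⟩
      rw [coe_pow, coe_one, ← zpow_natCast, ← zpow_mul, mul_comm, zpow_mul, zpow_natCast, hk, one_zpow]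
    obtain ⟨R, hR⟩ := hdp.exists_le_sylow
    obtain ⟨m, hm⟩ := MulAction.exists_smul_eq N R S'
    have hmd : m * d * m⁻¹ ∈ (S' : Subgroup N) := by
      rw [← hm]
      exact ⟨d, hR (mem_zpowers d), rfl⟩
    have hinv : ∀ n : N, ∀ x ∈ X, (n : G) * x * (n : G)⁻¹ ∈ X := fun n x hx =>
      (mem_normalizer_iff.1 n.2 x).1 hx
    have h1 : ((m * d * m⁻¹ : N) : G) ∈ X := by
      refine hc (mem_inf.2 ⟨hmd, mem_centralizer_iff.2 fun x hx => ?_⟩)
      have h2 := mem_centralizer_iff.1 hdC _ (hinv m⁻¹ x hx)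
      calc x * ((m * d * m⁻¹ : N) : G) = (m : G) * ((m⁻¹ : N) * x * ((m⁻¹ : N) : G)⁻¹ * d) * (m : G)⁻¹ := by
            push_cast; group
        _ = ((m * d * m⁻¹ : N) : G) * x := by rw [h2]; push_cast; group
    have h2 := hinv m⁻¹ _ h1
    push_cast at h2
    simpa [mul_assoc] using h2
  set d := ⁅g, q⁆ with hd
  have hdQ : d ∈ Q := mul_mem ((mem_normalizer_iff.1 hg q).1 hq) (inv_mem hq)
  have hQp : IsPGroup p Q := S'.2.to_le hQ
  obtain ⟨k, hk⟩ := hQp ⟨d, hdQ⟩
  have hdk : d ^ p ^ k = 1 := congrArg Subtype.val hk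
  have hdC : (d : G) ∈ centralizer (X : Set G) := by
    haveI : ((centralizer (X : Set G)).subgroupOf N).Normal :=
      normal_subgroupOf_iff_le_normalizer (centralizer_le_normalizer _) |>.2
        (fun n hn => by
          have hinv : ∀ n ∈ N, ∀ c ∈ centralizer (X : Set G), n * c * n⁻¹ ∈ centralizer (X : Set G) := by
            intro n hn c hc
            refine mem_centralizer_iff.2 fun x hx => ?_
            have h2 := mem_centralizer_iff.1 hc _ ((mem_normalizer_iff.1 (inv_mem hn) x).1 hx)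
            calc x * (n * c * n⁻¹) = n * (n⁻¹ * x * n⁻¹⁻¹ * c) * n⁻¹ := by group
              _ = n * c * n⁻¹ * x := by rw [h2]; group
          refine mem_normalizer_iff.2 fun c => ⟨hinv n hn c, fun hc => ?_⟩
          simpa [mul_assoc] using hinv n⁻¹ (inv_mem hn) _ hc)
    exact commutator_le_left ((centralizer (X : Set G)).subgroupOf N) ⊤
      (commutator_mem_commutator (mem_subgroupOf.2 hgC) (mem_top q))
  have hdX := key d ⟨k, hdk⟩ hdC
  have hgd : Commute g d := Subtype.ext (mem_centralizer_iff.1 hgC (d : G) hdX).symm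
  refine (Coprime.commute_of_translate (z := d) ?_ hgd ?_).eq.symm
  · rw [hd, commutatorElement_def, inv_mul_cancel_right]
  · exact (hgp.pow_right k).coprime_dvd_right (orderOf_dvd_of_pow_eq_one hdk)

end Cfsg.Agent.PComplement
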