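import Cfsg.Agent.Lib.PComplement.Reduction
import Cfsg.Agent.Lib.PComplement.SelfCentralizing
import Cfsg.Agent.Lib.ConjFun.Quadratic
import Cfsg.Agent.Lib.PGroup.Critical

/-!
# The normal p-complement criterion for the K-infinity subgroup

`kInfComplement`: for odd p, `G` has a normal p-complement if `N(K_∞(S))` has one.
-/

namespace Cfsg.Agent.PComplement

open Subgroup
open scoped commutatorElement

universe u

variable {G : Type u} [Group G] [Finite G] {p : ℕ} [Fact p.Prime]

/-- A critical subgroup of `O_p G`. -/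
theorem exists_isCritIn : ∃ A : Subgroup G, ConjFun.IsCritIn p A := by
  set T := Cfsg.pCore p G with hT
  have hTp : IsPGroup p T := PCore.isPGroup_pCore
  obtain ⟨H, hH, -, hcomm, hcent⟩ := PGroup.exists_critical hTp
  set A := H.map T.subtype with hA
  have hAT : A ≤ T := map_subtype_le _
  have hAn : A.Normal := ConjAct.normal_of_characteristic_of_normal
  have hAc : ∀ t ∈ T, ∀ a ∈ A, ⁅t, a⁆ ∈ A ⊓ centralizer (A : Set G) := by
    rintro t ht _ ⟨a, ha, rfl⟩
    have h1 : ⁅(⟨t, ht⟩ : T), a⁆ ∈ H ⊓ centralizer (H : Set T) := by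
      rw [← commutatorElement_inv]
      exact inv_mem (hcomm (commutator_mem_commutator ha (mem_top _)))
    refine mem_inf.2 ⟨⟨_, h1.1, rfl⟩, mem_centralizer_iff.2 ?_⟩
    rintro _ ⟨b, hb, rfl⟩
    exact congrArg Subtype.val (mem_centralizer_iff.1 h1.2 b hb)
  have hcent' : T ⊓ centralizer (A : Set G) ≤ A := fun x hx =>
    ⟨⟨x, hx.1⟩, hcent (mem_centralizer_iff.2 fun b hb =>
      Subtype.ext (mem_centralizer_iff.1 hx.2 _ ⟨b, hb, rfl⟩)), rfl⟩
  refine ⟨A, hAn, hAT, ?_, ?_, ?_, ?_⟩
  · rw [commutator_le]
    exact fun a ha b hb => (hAc a (hAT ha) b hb).2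
  · rw [commutator_le]
    exact hAc
  · exact le_antisymm (le_inf hcent' inf_le_right) (le_inf (inf_le_left.trans hAT) inf_le_right)
  · intro φ hφ hfix
    have key : ∀ t : T, φ t = t := by
      intro t
      set d := t⁻¹ * φ t with hd
      have hdA : (d : G) ∈ A := by
        refine hcent' (mem_inf.2 ⟨d.2, mem_centralizer_iff.2 fun a ha => ?_⟩)
        set a' : T := ⟨a, hAT ha⟩
        have h1 : φ a' = a' := hfix a' ha
        have h2 : φ (t * a' * t⁻¹) = t * a' * t⁻¹ := hfix _ (by
          have h3 := mul_mem (hAc t t.2 a ha).1 ha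
          rwa [commutatorElement_def, inv_mul_cancel_right] at h3)
        rw [map_mul, map_mul, map_inv, h1] at h2
        have h3 : a' * d = d * a' := by
          rw [hd]
          calc a' * (t⁻¹ * φ t) = t⁻¹ * (t * a' * t⁻¹) * φ t := by group
            _ = t⁻¹ * (φ t * a' * (φ t)⁻¹) * φ t := by rw [h2]
            _ = t⁻¹ * φ t * a' := by group
        exact congrArg Subtype.val h3
      have hdfix : φ d = d := hfix d hdA
      have hk : ∀ k : ℕ, (φ ^ k) t = t * d ^ k := by
        intro k
        induction k with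
        | zero => simp
        | succ k ih =>
          rw [pow_succ', MulAut.mul_apply, ih, map_mul, map_pow, hdfix, pow_succ', ← mul_assoc, hd,
            mul_inv_cancel_left]
      have h1 := hk (orderOf φ)
      rw [pow_orderOf_eq_one, MulAut.one_apply, left_eq_mul] at h1
      obtain ⟨j, hj⟩ := hTp d
      have h2 : d = 1 := orderOf_eq_one_iff.1 (Nat.eq_one_of_dvd_coprimes (hφ.pow_right j)
        (orderOf_dvd_of_pow_eq_one h1) (orderOf_dvd_of_pow_eq_one hj))
      exact (inv_mul_eq_one.1 h2).symm
    exact MulEquiv.ext key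

/-- In a minimal configuration nothing acts quadratically and nontrivially on a chief factor. -/
theorem Config.not_quadratic_chiefFactor {P : Sylow p G} (h : Config p P) (hp : p ≠ 2)
    {U V : Subgroup G} (hUV : Cfsg.IsChiefFactor U V) (hU : U ≤ Cfsg.pCore p G) {g : G}
    (hg : g ∈ (P : Subgroup G)) (hq : ⁅⁅U, zpowers g⁆, zpowers g⁆ ≤ V) :
    ⁅U, zpowers g⁆ ≤ V := by
  obtain ⟨hlt, hUn, hVn, hmax⟩ := hUV
  haveI := hUn
  haveI := hVn
  set π := QuotientGroup.mk' V with hπ
  have hsurj : Function.Surjective π := QuotientGroup.mk'_surjective V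
  set M := U.map π with hM
  haveI : M.Normal := hUn.map π hsurj
  have hUP : U ≤ (P : Subgroup G) := hU.trans (PCore.pCore_le_sylow P)
  have hMp : IsPGroup p M := (P.2.to_le hUP).map π
  have hMne : M ≠ ⊥ := by
    rw [hM, Ne, Subgroup.map_eq_bot_iff, QuotientGroup.ker_mk']
    exact hlt.not_ge
  have hmin : ∀ L : Subgroup (G ⧸ V), L.Normal → L ≤ M → L = ⊥ ∨ L = M := by
    intro L hL hLM
    have hle : L.comap π ≤ U := by
      refine (comap_mono hLM).trans (le_of_eq ?_)
      rw [hM, comap_map_eq, QuotientGroup.ker_mk', sup_eq_left.2 hlt.le]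
    rcases hmax (L.comap π) (hL.comap π) (by
      intro x hx
      rw [Subgroup.mem_comap, show π x = 1 from (QuotientGroup.eq_one_iff x).2 hx]
      exact one_mem L) hle with e | e
    · left; rw [← map_comap_eq_self_of_surjective hsurj L, e, QuotientGroup.map_mk'_self]
    · right; rw [← map_comap_eq_self_of_surjective hsurj L, e]
  have hMc : IsMulCommutative M := by
    have hlt' : ⁅M, M⁆ ≠ M := by
      intro he
      have hser : ∀ i, M ≤ Subgroup.lowerCentralSeries M i := by
        intro i
        induction i with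
        | zero => exact le_rfl
        | succ i ihi => conv_lhs => rw [← he]
                        exact commutator_mono ihi le_rfl
      haveI : Group.IsNilpotent M := hMp.isNilpotent
      have := hser (Group.nilpotencyClass M)
      rw [lowerCentralSeries_eq_bot_of_nilpotencyClass_le le_rfl, le_bot_iff] at this
      exact hMne this
    rcases hmin ⁅M, M⁆ inferInstance (commutator_le_left M M) with e | e
    · exact ⟨⟨fun a b => Subtype.ext (commutatorElement_eq_one_iff_mul_comm.1
        (mem_bot.1 (e ▸ commutator_mem_commutator a.2 b.2)))⟩⟩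
    · exact absurd e hlt'
  letI : CommGroup M := { (inferInstance : Group M) with mul_comm := fun a b => hMc.is_comm.comm a b }
  let φ : G →* MulAut M := (MulAut.conjNormal (H := M)).comp π
  -- O_p G acts trivially
  have hφU : ∀ u ∈ Cfsg.pCore p G, φ u = 1 := by
    intro u hu
    have hcore : IsPGroup p ((Cfsg.pCore p G).map π) := PCore.isPGroup_pCore.map π
    haveI : ((Cfsg.pCore p G).map π).Normal := (inferInstance : (Cfsg.pCore p G).Normal).map π hsurj
    rcases hmin ⁅M, (Cfsg.pCore p G).map π⁆ inferInstance (commutator_le_left _ _) with e | e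
    · ext1 m
      apply Subtype.ext
      show π u * (m : G ⧸ V) * (π u)⁻¹ = m
      have h1 := commutatorElement_eq_one_iff_mul_comm.1
        (mem_bot.1 (e ▸ commutator_mem_commutator m.2 (mem_map_of_mem π hu)))
      rw [← h1, mul_inv_cancel_right]
    · exfalso
      have hMle : M ≤ (Cfsg.pCore p G).map π := map_mono hU
      have hser : ∀ i, M ≤ Subgroup.lowerCentralSeries ((Cfsg.pCore p G).map π) i := by
        intro i
        induction i with
        | zero => exact hMle
        | succ i ihi => conv_lhs => rw [← e]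
                        exact commutator_mono ihi le_rfl
      haveI : Group.IsNilpotent ↥((Cfsg.pCore p G).map π) := hcore.isNilpotent
      have := hser (Group.nilpotencyClass ↥((Cfsg.pCore p G).map π))
      rw [lowerCentralSeries_eq_bot_of_nilpotencyClass_le le_rfl, le_bot_iff] at this
      exact hMne this
  obtain ⟨e, he⟩ := hMp.exists_card_eq
  have hodd : Odd (Nat.card M) := by rw [he]; exact ((Fact.out : p.Prime).odd_of_ne_two hp).pow
  have hcommk : ∀ k : G, (orderOf k).Coprime p → Commute (φ g) (φ k) := by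
    intro k hk
    have hconj : ∀ x : G, Commute (φ k) (φ x * φ k * (φ x)⁻¹) := by
      intro x
      rw [← map_inv, ← map_mul, ← map_mul, ← commutatorElement_eq_one_iff_commute,
        ← map_commutatorElement]
      refine hφU _ (h.comm k _ hk ?_)
      rwa [show x * k * x⁻¹ = MulAut.conj x k from rfl, MulEquiv.orderOf_eq]
    refine commute_of_quadratic hodd ?_ ?_ (hconj g) (by have := hconj g⁻¹; rwa [map_inv, inv_inv] at this)
    · rw [he]
      exact (hk.coprime_dvd_left (orderOf_map_dvd φ k)).pow_right e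
    · rintro ⟨_, x, hx, rfl⟩
      have hxg : ⁅⁅x, g⁆, g⁆ ∈ V := hq (commutator_mem_commutator
        (commutator_mem_commutator hx (mem_zpowers g)) (mem_zpowers g))
      have h1 : ⁅⁅π x, π g⁆, π g⁆ = 1 := by
        rw [← map_commutatorElement, ← map_commutatorElement]
        exact (QuotientGroup.eq_one_iff _).2 hxg
      have h2 : ⁅⁅π g, π x⁆, π g⁆ = 1 := by
        rw [← commutatorElement_inv (π x) (π g), commutatorElement_eq_one_iff_commute]
        exact (commutatorElement_eq_one_iff_commute.1 h1).inv_left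
      have hfix : π g * ⁅π g, π x⁆ * (π g)⁻¹ = ⁅π g, π x⁆ := by
        rw [← (commutatorElement_eq_one_iff_commute.1 h2).eq, mul_inv_cancel_right]
      apply Subtype.ext
      rw [div_eq_mul_inv]
      show π g * (π g * π x * (π g)⁻¹ * (π x)⁻¹) * (π g)⁻¹ = π g * π x * (π g)⁻¹ * (π x)⁻¹
      simpa only [commutatorElement_def] using hfix
  -- the p-elements commuting with all p'-elements act trivially
  set K := Subgroup.closure (φ '' {k | (orderOf k).Coprime p}) with hK
  set Q := (P : Subgroup G).map φ ⊓ centralizer (K : Set (MulAut M)) with hQ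
  have hgQ : φ g ∈ Q := by
    refine mem_inf.2 ⟨mem_map_of_mem φ hg, mem_centralizer_iff.2 fun w hw => ?_⟩
    induction hw using closure_induction with
    | mem y hy => obtain ⟨k, hk, rfl⟩ := hy; exact (hcommk k hk).eq.symm
    | one => simp
    | mul y z _ _ hy hz => exact (Commute.mul_left (hy : Commute y _) (hz : Commute z _)).eq
    | inv y _ hy => exact (Commute.inv_left (hy : Commute y _)).eq
  have hQp : IsPGroup p Q := (P.2.map φ).to_le inf_le_left
  letI : MulAction Q M :=
    { smul := fun q m => (q : MulAut M) m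
      one_smul := fun m => rfl
      mul_smul := fun a b m => rfl }
  have hd : p ∣ Nat.card M := by
    obtain ⟨k, hk⟩ := hMp.exists_card_eq
    rcases k with _ | k
    · rw [pow_zero, card_eq_one] at hk; exact absurd hk hMne
    · exact hk ▸ dvd_pow_self p k.succ_ne_zero
  obtain ⟨m₀, hm₀, hm₀ne⟩ := hQp.exists_fixed_point_of_prime_dvd_card_of_fixed_point M hd
    (a := (1 : M)) (fun q => map_one (q : MulAut M))
  let F : Subgroup M :=
    { carrier := {m | ∀ q ∈ Q, q m = m}
      one_mem' := fun q _ => map_one q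
      mul_mem' := fun {a b} ha hb q hq => by rw [map_mul, ha q hq, hb q hq]
      inv_mem' := fun {a} ha q hq => by rw [map_inv, ha q hq] }
  have hFne : F.map M.subtype ≠ ⊥ := by
    intro e
    have : (m₀ : G ⧸ V) ∈ F.map M.subtype := ⟨m₀, fun q hq => hm₀ ⟨q, hq⟩, rfl⟩
    rw [e, mem_bot] at this
    exact hm₀ne (Subtype.ext this).symm
  have hFinv : ∀ x : G, ∀ m : M, m ∈ F → φ x m ∈ F := by
    -- P and the p'-elements normalise Q
    have hN : ∀ x : G, ∀ q ∈ Q, (φ x)⁻¹ * q * φ x ∈ Q := by
      let R : Subgroup G :=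
        { carrier := {x | (∀ q ∈ Q, (φ x)⁻¹ * q * φ x ∈ Q) ∧ ∀ q ∈ Q, φ x * q * (φ x)⁻¹ ∈ Q}
          one_mem' := by simp
          mul_mem' := fun {a b} ha hb => ⟨fun q hq => by
              simpa [mul_assoc] using hb.1 _ (ha.1 q hq), fun q hq => by
              simpa [mul_assoc] using ha.2 _ (hb.2 q hq)⟩
          inv_mem' := fun {a} ha => ⟨fun q hq => by simpa using ha.2 q hq,
            fun q hq => by simpa using ha.1 q hq⟩ }
      have hKconj : ∀ x : G, ∀ w ∈ K, φ x * w * (φ x)⁻¹ ∈ K := by
        intro x w hw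
        have hle : K ≤ K.comap (MulAut.conj (φ x)).toMonoidHom := by
          conv_lhs => rw [hK]
          rw [closure_le]
          rintro _ ⟨k, hk, rfl⟩
          refine subset_closure ⟨x * k * x⁻¹, ?_, by simp⟩
          show (orderOf (x * k * x⁻¹)).Coprime p
          rwa [show x * k * x⁻¹ = MulAut.conj x k from rfl, MulEquiv.orderOf_eq]
        exact hle hw
      have hPR : ∀ x ∈ (P : Subgroup G), ∀ q ∈ Q, φ x * q * (φ x)⁻¹ ∈ Q := by
        intro x hx q hq'
        refine mem_inf.2 ⟨mul_mem (mul_mem (mem_map_of_mem φ hx) hq'.1) (inv_mem (mem_map_of_mem φ hx)),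
          mem_centralizer_iff.2 fun w hw => ?_⟩
        have h1 := mem_centralizer_iff.1 hq'.2 _ (hKconj x⁻¹ w hw)
        rw [map_inv] at h1
        calc w * (φ x * q * (φ x)⁻¹) = φ x * ((φ x)⁻¹ * w * (φ x)⁻¹⁻¹ * q) * (φ x)⁻¹ := by group
          _ = φ x * q * (φ x)⁻¹ * w := by rw [h1]; group
      have hRtop : R = ⊤ := by
        have hPle : (P : Subgroup G) ≤ R := fun x hx =>
          ⟨fun q hq => by simpa using hPR x⁻¹ (inv_mem hx) q hq, hPR x hx⟩
        have hKle : ∀ k : G, (orderOf k).Coprime p → k ∈ R := fun k hk => by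
          have hc : ∀ q ∈ Q, φ k * q = q * φ k := fun q hq =>
            mem_centralizer_iff.1 hq.2 _ (subset_closure ⟨k, hk, rfl⟩)
          exact ⟨fun q hq => by rw [mul_assoc, ← hc q hq, inv_mul_cancel_left]; exact hq,
            fun q hq => by rw [hc q hq, mul_inv_cancel_right]; exact hq⟩
        rcases h.coatom.le_iff.1 hPle with e | e
        · exact e
        · exfalso
          have hG : IsPGroup p (⊤ : Subgroup G) := isPrimePow_orderOf_of_forall fun k _ hk =>
            eq_one_of_mem_sylow (P := P) (e ▸ hKle k hk) hk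
          exact h.coatom.1 (P.3 hG le_top).symm
      intro x q hq
      exact (show x ∈ R from hRtop ▸ mem_top x).1 q hq
    intro x m hm q hq
    have h1 := hm _ (hN x q hq)
    rw [MulAut.mul_apply, MulAut.mul_apply] at h1
    calc q (φ x m) = φ x ((φ x)⁻¹ (q (φ x m))) := ((φ x).apply_symm_apply _).symm
      _ = φ x m := by rw [h1]
  haveI hFn : (F.map M.subtype).Normal := by
    refine ⟨fun z hz q => ?_⟩
    obtain ⟨m, hm, rfl⟩ := hz
    obtain ⟨x, rfl⟩ := hsurj q
    exact ⟨_, hFinv x m hm, rfl⟩
  rcases hmin _ hFn (map_subtype_le _) with e | e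
  · exact absurd e hFne
  rw [commutator_le]
  intro u hu z hz
  refine (QuotientGroup.eq_one_iff _).1 (?_ : π ⁅u, z⁆ = 1)
  obtain ⟨i, rfl⟩ := mem_zpowers_iff.1 hz
  obtain ⟨m, hm, hmu⟩ := (e.ge (mem_map_of_mem π hu) : π u ∈ F.map M.subtype)
  have h1 : φ g m = m := hm _ hgQ
  have h2 : Commute (π g) (π u) := by
    rw [← hmu]
    exact mul_inv_eq_iff_eq_mul.1 (congrArg Subtype.val h1)
  rw [map_commutatorElement, map_zpow, commutatorElement_eq_one_iff_commute]
  exact (h2.zpow_left i).symm

/-- For odd p, `G` has a normal p-complement if the normaliser of `K_∞(S)` has one. -/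
theorem kInfComplement (hp : p ≠ 2) (S : Sylow p G)
    (hN : Cfsg.HasNormalPComplement p
      ↥(normalizer ((Cfsg.inducedFunctor Cfsg.kInfLower (S : Subgroup G) : Subgroup G) : Set G))) :
    Cfsg.HasNormalPComplement p G := by
  refine reduction (W := Cfsg.kInfLower) False (fun _ _ => True) KInf.isCharPFunctor_kInfLower
    (fun _ _ _ _ _ => trivial) (fun _ _ _ _ _ _ => trivial)
    (fun G _ _ P _ hc _ _ => ?_) G trivial S ⟨hN, False.elim⟩
  by_contra hK
  obtain ⟨A, hA⟩ := exists_isCritIn (G := G) (p := p)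
  obtain ⟨g, hgP, -, -, -, -, hq⟩ := ConjFun.exists_witness hA P (Or.inl hK)
  obtain ⟨U, V, hUV, hUA, h2, h1⟩ := hq hc.cent
  exact h1 (hc.not_quadratic_chiefFactor hp hUV (hUA.trans hA.le) hgP h2)

end Cfsg.Agent.PComplement
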