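import Cfsg.Agent.Lib.PComplement.Final
import Cfsg.Agent.Lib.Transfer.Frobenius
import Cfsg.Agent.Lib.PCore.HallHigman
import Cfsg.Agent.Lib.PCore.PSolvable
import Cfsg.Agent.Lib.Coprime.Basic
import Cfsg.Agent.Lib.Coprime.Sylow
import Cfsg.Prelude.Def_ConjugacyFunctors

/-!
# Reduction of complement theorems of Thompson type to the minimal configuration

For a characteristic p-functor `W` (and optionally the centraliser of the centre of the Sylow
subgroup): if `W(P)` is normal in every minimal configuration, then `G` has a normal p-complement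
as soon as `N_G(W(P))` has one.
-/

namespace Cfsg.Agent.PComplement

open Subgroup
open scoped commutatorElement

universe u

variable {p : ℕ} (W : ∀ (Q : Type u) [Group Q], Subgroup Q)

/-- `W(P)` inside `G`. -/
abbrev wOf {G : Type u} [Group G] (P : Subgroup G) : Subgroup G := (W ↥P).map P.subtype

/-- The local hypotheses. -/
def Loc (useZ : Prop) (p : ℕ) (G : Type u) [Group G] (P : Sylow p G) : Prop :=
  Cfsg.HasNormalPComplement p ↥(normalizer (wOf W (P : Subgroup G) : Set G)) ∧
    (useZ → Cfsg.HasNormalPComplement p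
      ↥(centralizer ((((P : Subgroup G) ⊓ centralizer (P : Set G)) : Subgroup G) : Set G)))

variable {W}

theorem wOf_map (hW : Cfsg.IsCharPFunctor.{u} p W) {G H : Type u} [Group G] [Group H] [Finite G]
    (f : G →* H) (P : Subgroup G) (hP : IsPGroup p P)
    (hinj : ∀ x ∈ P, f x = 1 → x = 1) : (wOf W P).map f = wOf W (P.map f) := by
  have hb : Function.Bijective (f.subgroupMap P) := by
    refine ⟨(injective_iff_map_eq_one _).2 fun x hx => Subtype.ext (hinj x x.2 ?_),
      f.subgroupMap_surjective P⟩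
    exact congrArg Subtype.val hx
  have h := hW.2 ↥P ↥(P.map f) hP (MulEquiv.ofBijective (f.subgroupMap P) hb)
  show ((W ↥P).map P.subtype).map f = (W ↥(P.map f)).map (P.map f).subtype
  rw [← h, Subgroup.map_map, Subgroup.map_map]
  rfl

theorem wOf_le {G : Type u} [Group G] (P : Subgroup G) : wOf W P ≤ P := map_subtype_le _

theorem normalizer_le_normalizer_wOf (hW : Cfsg.IsCharPFunctor.{u} p W) {G : Type u} [Group G]
    [Finite G] (P : Subgroup G) (hP : IsPGroup p P) :
    normalizer (P : Set G) ≤ normalizer (wOf W P : Set G) := by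
  intro g hg
  rw [mem_normalizer_iff_map_conj_eq] at hg ⊢
  exact (wOf_map hW (MulAut.conj g).toMonoidHom P hP
    fun x _ hx => (MulAut.conj g).injective (hx.trans (map_one _).symm)).trans (congrArg (wOf W) hg)

theorem wOf_ne_bot (hW : Cfsg.IsCharPFunctor.{u} p W) {G : Type u} [Group G] [Finite G]
    {P : Subgroup G} (hP : IsPGroup p P) (hne : P ≠ ⊥) : wOf W P ≠ ⊥ := by
  haveI : Nontrivial P := (nontrivial_iff_ne_bot P).2 hne
  intro h
  refine hW.1 ↥P hP this ?_
  rwa [wOf, Subgroup.map_eq_bot_iff_of_injective _ Subtype.coe_injective] at h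

/-- The centre of `P` in `G`. -/
abbrev zOf {G : Type u} [Group G] (P : Subgroup G) : Subgroup G := P ⊓ centralizer (P : Set G)

theorem zOf_ne_bot [Fact p.Prime] {G : Type u} [Group G] [Finite G] {P : Subgroup G}
    (hP : IsPGroup p P) (hne : P ≠ ⊥) : zOf P ≠ ⊥ := by
  haveI : Nontrivial P := (nontrivial_iff_ne_bot P).2 hne
  haveI := hP.center_nontrivial
  obtain ⟨⟨z, hz⟩, hz1⟩ := exists_ne (1 : center P)
  intro h
  apply hz1
  have hmem : (z : G) ∈ zOf P := ⟨z.2, mem_centralizer_iff.2 fun y hy =>
    congrArg Subtype.val (mem_center_iff.1 hz ⟨y, hy⟩)⟩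
  rw [h, mem_bot] at hmem
  exact Subtype.ext (Subtype.ext hmem)

theorem normalizer_le_normalizer_zOf {G : Type u} [Group G] (P : Subgroup G) :
    normalizer (P : Set G) ≤ normalizer (zOf P : Set G) := by
  intro g hg
  rw [mem_normalizer_iff]
  intro x
  have key : ∀ g ∈ normalizer (P : Set G), ∀ x ∈ zOf P, g * x * g⁻¹ ∈ zOf P := by
    intro g hg x hx
    refine mem_inf.2 ⟨(mem_normalizer_iff.1 hg x).1 hx.1, mem_centralizer_iff.2 fun y hy => ?_⟩
    have h1 := mem_centralizer_iff.1 hx.2 _ (by
      have := (mem_normalizer_iff.1 (inv_mem hg) y).1 hy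
      rwa [inv_inv, mul_assoc] at this : g⁻¹ * (y * g) ∈ P)
    calc y * (g * x * g⁻¹) = g * (g⁻¹ * (y * g) * x) * g⁻¹ := by group
      _ = g * (x * (g⁻¹ * (y * g))) * g⁻¹ := by rw [h1]
      _ = g * x * g⁻¹ * y := by group
  refine ⟨key g hg x, fun h => ?_⟩
  simpa [mul_assoc] using key g⁻¹ (inv_mem hg) _ h

variable [Fact p.Prime]

/-- In `G/M`, `M` of order prime to p, a normaliser of the image of a p-subgroup lifts. -/
theorem normalizer_map_le {G : Type u} [Group G] [Finite G] (M : Subgroup G) [M.Normal]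
    (hM : (Nat.card M).Coprime p) (X : Subgroup G) (hX : IsPGroup p X) :
    normalizer ((X.map (QuotientGroup.mk' M) : Subgroup (G ⧸ M)) : Set (G ⧸ M)) ≤
      (normalizer (X : Set G)).map (QuotientGroup.mk' M) := by
  intro q hq
  obtain ⟨g, rfl⟩ := QuotientGroup.mk'_surjective M q
  have hXM : (Nat.card X).Coprime (Nat.card M) := by
    obtain ⟨k, hk⟩ := hX.exists_card_eq
    rw [hk]; exact Nat.Coprime.pow_left k hM.symm
  haveI : Group.IsNilpotent X := hX.isNilpotent
  obtain ⟨m, hm, hconj⟩ := Coprime.exists_conj_eq_of_le_sup (N := M) (H := X)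
    (K := X.map (MulAut.conj g).toMonoidHom) (by rw [Subgroup.normalizer_eq_top]; exact le_top) (by
      rintro _ ⟨x, hx, rfl⟩
      obtain ⟨y, hy, hy'⟩ := (mem_normalizer_iff.1 hq (QuotientGroup.mk' M x)).1 ⟨x, hx, rfl⟩
      rw [← map_inv, ← map_mul, ← map_mul] at hy'
      have h2 : y⁻¹ * (g * x * g⁻¹) ∈ M := QuotientGroup.eq.1 hy'
      have := mul_mem (mem_sup_left hy : y ∈ X ⊔ M) (mem_sup_right h2 : y⁻¹ * (g * x * g⁻¹) ∈ X ⊔ M)
      rwa [mul_inv_cancel_left] at this)
    (Nat.card_congr (X.equivMapOfInjective _ (MulAut.conj g).injective).toEquiv).symm hXM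
    (Or.inr inferInstance)
  refine ⟨m⁻¹ * g, mem_normalizer_iff_map_conj_eq.2 ?_, ?_⟩
  · have e : (MulAut.conj (m⁻¹ * g) : MulAut G).toMonoidHom =
        (MulAut.conj m⁻¹ : MulAut G).toMonoidHom.comp (MulAut.conj g : MulAut G).toMonoidHom := by
      ext x; simp [mul_assoc]
    show X.map (MulAut.conj (m⁻¹ * g) : MulAut G).toMonoidHom = X
    rw [e, ← Subgroup.map_map, ← hconj]
    ext x
    simp [Subgroup.mem_pointwise_smul_iff_inv_smul_mem, mul_assoc]
    exact ⟨fun ⟨y, hy, h⟩ => h ▸ hy, fun hx => ⟨m * x * m⁻¹, by simp [mul_assoc, hx]⟩⟩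
  · rw [map_mul, show QuotientGroup.mk' M m⁻¹ = 1 from (QuotientGroup.eq_one_iff _).2 (inv_mem hm),
      one_mul]

/-- Lifting a normal p-complement through a normal p'-subgroup. -/
theorem hasNormalPComplement_of_quotient {G : Type u} [Group G] [Finite G] (M : Subgroup G)
    [M.Normal] (hM : (Nat.card M).Coprime p) (h : Cfsg.HasNormalPComplement p (G ⧸ M)) :
    Cfsg.HasNormalPComplement p G := by
  apply Transfer.hasNormalPComplement_of_coprime
  intro hdvd
  obtain ⟨x, hx⟩ := exists_prime_orderOf_dvd_card' p hdvd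
  have hmap : QuotientGroup.mk' M (x : G) ∈ Cfsg.pResidual p (G ⧸ M) :=
    Transfer.map_residual_le (QuotientGroup.mk' M) p ⟨x, x.2, rfl⟩
  have h1 := (Transfer.mem_pResidual_iff h _).1 hmap
  have h2 : orderOf (QuotientGroup.mk' M (x : G)) = 1 := by
    refine Nat.eq_one_of_dvd_coprimes h1 dvd_rfl ?_
    have := orderOf_map_dvd (QuotientGroup.mk' M) (x : G)
    rwa [Subgroup.orderOf_coe, hx] at this
  have hxM : (x : G) ∈ M := (QuotientGroup.eq_one_iff _).1 (orderOf_eq_one_iff.1 h2)
  have h3 : p ∣ Nat.card M := by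
    have := orderOf_dvd_natCard M hxM
    rwa [Subgroup.orderOf_coe, hx] at this
  exact (Fact.out : p.Prime).coprime_iff_not_dvd.1 hM.symm h3

variable (useZ : Prop) (Hyp : ∀ (G : Type u) [Group G], Prop)

/-- The main reduction. -/
theorem reduction (hW : Cfsg.IsCharPFunctor.{u} p W)
    (hsub : ∀ (G : Type u) [Group G] [Finite G] (H : Subgroup G), Hyp G → Hyp ↥H)
    (hquot : ∀ (G : Type u) [Group G] [Finite G] (N : Subgroup G) [N.Normal], Hyp G → Hyp (G ⧸ N))
    (hfin : ∀ (G : Type u) [Group G] [Finite G] (P : Sylow p G), Hyp G → Config p P →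
      Cfsg.HasNormalPComplement p (G ⧸ Cfsg.pCore p G) →
      Loc W useZ p G P → (wOf W (P : Subgroup G)).Normal)
    (G : Type u) [Group G] [Finite G] (hG : Hyp G) (P : Sylow p G) (hloc : Loc W useZ p G P) :
    Cfsg.HasNormalPComplement p G := by
  suffices H : ∀ (n : ℕ) (G : Type u) [Group G] [Finite G], Nat.card G ≤ n → Hyp G →
      ∀ P : Sylow p G, Loc W useZ p G P → Cfsg.HasNormalPComplement p G from
    H _ G le_rfl hG P hloc
  clear! G
  intro n
  induction n with
  | zero => intro G _ _ h; exact absurd h (Nat.not_le.2 Nat.card_pos)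
  | succ n ih =>
  intro G _ _ hn hG P hloc
  by_contra hbad
  have hp : p.Prime := Fact.out
  have hPne : (P : Subgroup G) ≠ ⊥ := by
    intro h
    refine hbad (Transfer.hasNormalPComplement_of_not_dvd fun hd => ?_)
    have := P.card_eq_multiplicity
    rw [h, card_bot] at this
    exact absurd this (Nat.one_lt_pow
      ((hp.dvd_iff_one_le_factorization Nat.card_pos.ne').1 hd |> Nat.one_le_iff_ne_zero.1) hp.one_lt).ne
  have hcardlt : ∀ H : Subgroup G, H ≠ ⊤ → Nat.card H ≤ n := by
    intro H hH
    have : Nat.card H < Nat.card G := by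
      by_contra hh
      exact hH (eq_top_of_card_eq H (le_antisymm (Nat.le_of_dvd Nat.card_pos H.card_subgroup_dvd_card) (not_lt.1 hh)))
    omega
  have hquotlt : ∀ (N : Subgroup G) [N.Normal], N ≠ ⊥ → Nat.card (G ⧸ N) ≤ n := by
    intro N _ hN
    have h1 := N.card_mul_index
    have h2 : 1 < Nat.card N := (one_lt_card_iff_ne_bot N).2 hN
    have h3 : 0 < N.index := Nat.pos_of_ne_zero index_ne_zero_of_finite
    have h4 : N.index < Nat.card N * N.index := lt_mul_of_one_lt_left h3 h2
    change N.index ≤ n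
    omega
  -- overgroups of P
  have hover : ∀ H : Subgroup G, (P : Subgroup G) ≤ H → H ≠ ⊤ → Cfsg.HasNormalPComplement p H := by
    intro H hPH hH
    refine ih H (hcardlt H hH) (hsub G H hG) (P.subtype hPH) ?_
    have e1 : ((P.subtype hPH : Sylow p H) : Subgroup H).map H.subtype = (P : Subgroup G) := by
      rw [Sylow.coe_subtype, map_subgroupOf_eq_of_le hPH]
    have e2 : (wOf W ((P.subtype hPH : Sylow p H) : Subgroup H)).map H.subtype =
        wOf W (P : Subgroup G) := by
      rw [wOf_map hW H.subtype _ (P.subtype hPH).2 (fun x _ hx => Subtype.ext hx), e1]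
    refine ⟨?_, fun hz => ?_⟩
    · refine Transfer.hasNormalPComplement_of_injective
        (((H.subtype).domRestrict _).codRestrict (normalizer (wOf W (P : Subgroup G) : Set G))
          fun x => ?_) (fun a b h => Subtype.ext (Subtype.ext (congrArg Subtype.val h :)))
        hloc.1
      rw [← e2]
      exact le_normalizer_map H.subtype ⟨x, x.2, rfl⟩
    · refine Transfer.hasNormalPComplement_of_injective
        (((H.subtype).domRestrict _).codRestrict
          (centralizer ((zOf (P : Subgroup G)) : Set G)) fun x => ?_)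
        (fun a b h => Subtype.ext (Subtype.ext (congrArg Subtype.val h :))) (hloc.2 hz)
      refine mem_centralizer_iff.2 fun z hz => ?_
      exact congrArg Subtype.val (mem_centralizer_iff.1 x.2 (⟨z, hPH hz.1⟩ : H)
        ⟨mem_subgroupOf.2 hz.1, mem_centralizer_iff.2 fun y hy =>
          Subtype.ext (mem_centralizer_iff.1 hz.2 y (mem_subgroupOf.1 hy))⟩)
  -- O_p'(G) = 1
  have hMbot : Cfsg.pPrimeCore p G = ⊥ := by
    by_contra hne
    set M := Cfsg.pPrimeCore p G with hMdef
    have hMc : (Nat.card M).Coprime p := PCore.coprime_card_pPrimeCore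
    set π := QuotientGroup.mk' M with hπ
    have hsurj : Function.Surjective π := QuotientGroup.mk'_surjective M
    have hinj : ∀ x ∈ (P : Subgroup G), π x = 1 → x = 1 := by
      intro x hx h1
      exact eq_one_of_mem_sylow hx
        (hMc.coprime_dvd_left (orderOf_dvd_natCard M ((QuotientGroup.eq_one_iff x).1 h1)))
    refine hbad (hasNormalPComplement_of_quotient M hMc
      (ih (G ⧸ M) (hquotlt M hne) (hquot G M hG) (P.mapSurjective hsurj) ?_))
    have ecoe : ((P.mapSurjective hsurj : Sylow p (G ⧸ M)) : Subgroup (G ⧸ M)) =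
        (P : Subgroup G).map π := rfl
    refine ⟨?_, fun hz => ?_⟩
    · refine Transfer.hasNormalPComplement_of_le ?_
        (Transfer.hasNormalPComplement_of_surjective
          (π.subgroupMap (normalizer (wOf W (P : Subgroup G) : Set G))) (π.subgroupMap_surjective _) hloc.1)
      rw [ecoe, ← wOf_map hW π _ P.2 hinj]
      exact normalizer_map_le M hMc _ (P.2.to_le (wOf_le _))
    · refine Transfer.hasNormalPComplement_of_le ?_
        (Transfer.hasNormalPComplement_of_surjective
          (π.subgroupMap (centralizer ((zOf (P : Subgroup G)) : Set G))) (π.subgroupMap_surjective _) (hloc.2 hz))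
      rw [ecoe, PCore.map_centralizer_mk' M hMc (P.2.to_le inf_le_left)]
      refine centralizer_le ?_
      rintro _ ⟨z, hz, rfl⟩
      refine ⟨⟨z, hz.1, rfl⟩, mem_centralizer_iff.2 ?_⟩
      rintro _ ⟨y, hy, rfl⟩
      rw [← map_mul, ← map_mul, mem_centralizer_iff.1 hz.2 y hy]
  -- a bad local subgroup with largest p-part
  obtain ⟨Q₀, hQ₀p, hQ₀ne, hQ₀bad⟩ : ∃ Q : Subgroup G, IsPGroup p Q ∧ Q ≠ ⊥ ∧
      ¬ Cfsg.HasNormalPComplement p ↥(normalizer (Q : Set G)) := by
    by_contra h
    push Not at h
    exact hbad (Transfer.hasNormalPComplement_of_normalizer_hasNormalPComplement h)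
  set key : Subgroup G → ℕ ×ₗ ℕ := fun Q =>
    toLex ((Nat.card ↥(normalizer (Q : Set G))).factorization p, Nat.card Q) with hkey
  obtain ⟨Q₁, ⟨hQ₁p, hQ₁ne, hQ₁bad⟩, hmax⟩ := (Set.toFinite {Q : Subgroup G | IsPGroup p Q ∧ Q ≠ ⊥ ∧
      ¬ Cfsg.HasNormalPComplement p ↥(normalizer (Q : Set G))}).exists_maximalFor key _
    ⟨Q₀, hQ₀p, hQ₀ne, hQ₀bad⟩
  have hgood : ∀ Q : Subgroup G, IsPGroup p Q → Q ≠ ⊥ → key Q₁ < key Q →
      Cfsg.HasNormalPComplement p ↥(normalizer (Q : Set G)) := by
    intro Q h1 h2 h3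
    by_contra h4
    exact absurd (hmax ⟨h1, h2, h4⟩ h3.le) (not_le_of_gt h3)
  -- move it so that a Sylow subgroup of its normaliser is inside P
  obtain ⟨Q, hQp, hQne, hQbad, hQkey, hS⟩ : ∃ Q : Subgroup G, IsPGroup p Q ∧ Q ≠ ⊥ ∧
      ¬ Cfsg.HasNormalPComplement p ↥(normalizer (Q : Set G)) ∧ key Q = key Q₁ ∧
      ∃ S : Sylow p ↥(normalizer (Q : Set G)),
        (S : Subgroup ↥(normalizer (Q : Set G))).map (normalizer (Q : Set G)).subtype ≤ P := by
    obtain ⟨R, hR⟩ := ((default : Sylow p ↥(normalizer (Q₁ : Set G))).2.map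
      (normalizer (Q₁ : Set G)).subtype).exists_le_sylow
    obtain ⟨g, hg⟩ := MulAction.exists_smul_eq G R P
    set c := (MulAut.conj g).toMonoidHom with hc
    have hN : normalizer ((Q₁.map c : Subgroup G) : Set G) = (normalizer (Q₁ : Set G)).map c :=
      (map_equiv_normalizer_eq Q₁ (MulAut.conj g)).symm
    let e : ↥(normalizer (Q₁ : Set G)) ≃* ↥(normalizer ((Q₁.map c : Subgroup G) : Set G)) :=
      ((normalizer (Q₁ : Set G)).equivMapOfInjective c (MulAut.conj g).injective).trans
        (MulEquiv.subgroupCongr hN.symm)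
    refine ⟨Q₁.map c, hQ₁p.map c, ?_, ?_, ?_,
      (default : Sylow p ↥(normalizer (Q₁ : Set G))).mapSurjective (f := e.toMonoidHom) e.surjective, ?_⟩
    · rwa [Ne, Subgroup.map_eq_bot_iff_of_injective _ (MulAut.conj g).injective]
    · exact fun h => hQ₁bad (Transfer.hasNormalPComplement_of_injective e.toMonoidHom e.injective h)
    · rw [hkey]
      simp only [← Nat.card_congr e.toEquiv,
        ← Nat.card_congr (Q₁.equivMapOfInjective c (MulAut.conj g).injective).toEquiv]
    · rintro _ ⟨x, ⟨y, hy, rfl⟩, rfl⟩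
      show c (y : G) ∈ (P : Subgroup G)
      rw [← hg, Sylow.coe_subgroup_smul]
      exact ⟨y, hR ⟨y, hy, rfl⟩, rfl⟩
  set H := normalizer (Q : Set G) with hH
  obtain ⟨S, hSP⟩ := hS
  set S₀ := (S : Subgroup H).map H.subtype with hS₀
  have hfull : S₀ = (P : Subgroup G) ∨ S₀ < (P : Subgroup G) := hSP.eq_or_lt
  have hPQ : (P : Subgroup G) ≤ H := by
    rcases hfull with h | hlt
    · rw [← h]; exact map_subtype_le _
    exfalso
    by_cases hHtop : H = ⊤
    · apply hlt.ne
      refine eq_of_le_of_card_ge hlt.le ?_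
      rw [hS₀, ← Nat.card_congr ((S : Subgroup H).equivMapOfInjective H.subtype Subtype.coe_injective).toEquiv,
        Sylow.card_eq_multiplicity, Sylow.card_eq_multiplicity, hHtop, card_top]
    apply hQbad
    have hS₀p : IsPGroup p S₀ := S.2.map _
    have hQS : Q ≤ S₀ := by
      haveI : (Q.subgroupOf H).Normal := normal_in_normalizer
      have h1 : Q.subgroupOf H ≤ (S : Subgroup H) :=
        (PCore.le_pCore (hQp.of_equiv (subgroupOfEquivOfLe le_normalizer).symm)).trans
          (PCore.pCore_le_sylow S)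
      exact fun x hx => ⟨⟨x, le_normalizer hx⟩, h1 (mem_subgroupOf.2 hx), rfl⟩
    have hS₀ne : S₀ ≠ ⊥ := fun h => hQne (le_bot_iff.1 (h ▸ hQS))
    have hPH : (P : Subgroup G) ⊓ H ≤ S₀ := by
      have hp1 : IsPGroup p ↥(((P : Subgroup G) ⊓ H).subgroupOf H) :=
        (P.2.to_le inf_le_left).of_equiv (subgroupOfEquivOfLe inf_le_right).symm
      have h1 := S.3 hp1 (fun x hx => mem_subgroupOf.2 (mem_inf.2 ⟨hSP ⟨x, hx, rfl⟩, x.2⟩))
      intro x hx
      exact ⟨⟨x, hx.2⟩, by rw [← h1]; exact mem_subgroupOf.2 hx, rfl⟩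
    refine ih H (hcardlt H hHtop) (hsub G H hG) S ⟨?_, fun hz => ?_⟩
    · have e2 : (wOf W (S : Subgroup H)).map H.subtype = wOf W S₀ :=
        wOf_map hW H.subtype _ S.2 (fun x _ hx => Subtype.ext hx)
      have hWgood : Cfsg.HasNormalPComplement p ↥(normalizer (wOf W S₀ : Set G)) := by
        refine hgood _ (hS₀p.to_le (wOf_le _)) (wOf_ne_bot hW hS₀p hS₀ne) ?_
        rw [← hQkey, hkey]
        apply Prod.Lex.toLex_lt_toLex.2
        left
        show (Nat.card ↥H).factorization p <
          (Nat.card ↥(normalizer (wOf W S₀ : Set G))).factorization p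
        -- S₀ is properly normalised inside P
        haveI : Group.IsNilpotent ↥(P : Subgroup G) := P.2.isNilpotent
        have hne : S₀.subgroupOf (P : Subgroup G) < ⊤ := by
          rw [lt_top_iff_ne_top, Ne, subgroupOf_eq_top]
          exact fun h => hlt.not_ge h
        obtain ⟨x, hx, hxS⟩ := SetLike.exists_of_lt (Group.normalizerCondition_of_isNilpotent _ hne)
        set T := (P : Subgroup G) ⊓ normalizer (S₀ : Set G)
        have hST : S₀ < T := by
          refine lt_of_le_of_ne (le_inf hlt.le le_normalizer) fun he => hxS ?_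
          have hxT : (x : G) ∈ normalizer (S₀ : Set G) := by
            have h1 := le_normalizer_map (P : Subgroup G).subtype ⟨x, hx, rfl⟩
            rwa [map_subgroupOf_eq_of_le hlt.le] at h1
          exact mem_subgroupOf.2 (he ▸ (mem_inf.2 ⟨x.2, hxT⟩ : (x : G) ∈ T))
        have hTN : T ≤ normalizer (wOf W S₀ : Set G) :=
          inf_le_right.trans (normalizer_le_normalizer_wOf hW S₀ hS₀p)
        obtain ⟨i, hi⟩ := (P.2.to_le (inf_le_left : T ≤ _)).exists_card_eq
        have hTdvd : p ^ i ∣ Nat.card ↥(normalizer (wOf W S₀ : Set G)) := hi ▸ card_dvd_of_le hTN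
        have h1 : Nat.card S₀ = p ^ (Nat.card ↥H).factorization p := by
          rw [hS₀, ← Nat.card_congr ((S : Subgroup H).equivMapOfInjective H.subtype Subtype.coe_injective).toEquiv,
            Sylow.card_eq_multiplicity]
        have h2 : Nat.card S₀ < Nat.card T := by
          by_contra hh
          exact hST.ne (eq_of_le_of_card_ge hST.le (not_lt.1 hh))
        rw [h1, hi, Nat.pow_lt_pow_iff_right hp.one_lt] at h2
        exact lt_of_lt_of_le h2 ((hp.pow_dvd_iff_le_factorization Nat.card_pos.ne').1 hTdvd)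
      refine Transfer.hasNormalPComplement_of_injective
        (((H.subtype).domRestrict _).codRestrict (normalizer (wOf W S₀ : Set G)) fun x => ?_)
        (fun a b h => Subtype.ext (Subtype.ext (congrArg Subtype.val h :))) hWgood
      rw [← e2]
      exact le_normalizer_map H.subtype ⟨x, x.2, rfl⟩
    · refine Transfer.hasNormalPComplement_of_injective
        (((H.subtype).domRestrict _).codRestrict (centralizer (zOf (P : Subgroup G) : Set G)) fun x => ?_)
        (fun a b h => Subtype.ext (Subtype.ext (congrArg Subtype.val h :))) (hloc.2 hz)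
      refine mem_centralizer_iff.2 fun z hz => ?_
      have hzH : z ∈ H := centralizer_le_normalizer _
        (mem_centralizer_iff.2 fun y hy => mem_centralizer_iff.1 hz.2 y (hSP (hQS hy)))
      have hzS : z ∈ S₀ := hPH (mem_inf.2 ⟨hz.1, hzH⟩)
      obtain ⟨w, hw, hwz⟩ := hzS
      rw [← hwz]
      exact congrArg Subtype.val (mem_centralizer_iff.1 x.2 w ⟨hw, mem_centralizer_iff.2 fun y hy =>
        Subtype.ext (by
          show (y : G) * (w : G) = w * y
          rw [show (w : G) = z from hwz]
          exact mem_centralizer_iff.1 hz.2 _ (hSP ⟨y, hy, rfl⟩))⟩)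
  have hHtop : H = ⊤ := by
    by_contra h
    exact hQbad (hover H hPQ h)
  haveI hQn : Q.Normal := normalizer_eq_top_iff.1 hHtop
  set U := Cfsg.pCore p G with hU
  have hQU : Q ≤ U := PCore.le_pCore hQp
  have hUne : U ≠ ⊥ := fun h => hQne (le_bot_iff.1 (h ▸ hQU))
  have hUP : U ≤ (P : Subgroup G) := PCore.pCore_le_sylow P
  -- normalisers of bigger p-subgroups normalised by P are good
  have hbig : ∀ X : Subgroup G, IsPGroup p X → U < X → (P : Subgroup G) ≤ normalizer (X : Set G) →
      Cfsg.HasNormalPComplement p ↥(normalizer (X : Set G)) := by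
    intro X hXp hUX hPX
    refine hgood X hXp (fun h => hUne (le_bot_iff.1 (h ▸ hUX.le))) ?_
    rw [← hQkey, hkey]
    apply Prod.Lex.toLex_lt_toLex.2
    right
    constructor
    · show (Nat.card ↥H).factorization p = (Nat.card ↥(normalizer (X : Set G))).factorization p
      apply le_antisymm
      · rw [hHtop, card_top]
        have h1 := card_dvd_of_le hPX
        rw [P.card_eq_multiplicity] at h1
        exact (hp.pow_dvd_iff_le_factorization Nat.card_pos.ne').1 h1
      · rw [hHtop, card_top]
        exact (Nat.factorization_le_iff_dvd Nat.card_pos.ne' Nat.card_pos.ne').2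
          (card_subgroup_dvd_card _) p
    · show Nat.card Q < Nat.card X
      refine lt_of_le_of_lt (Nat.le_of_dvd Nat.card_pos (card_dvd_of_le hQU)) ?_
      by_contra hh
      exact hUX.ne (eq_of_le_of_card_ge hUX.le (not_lt.1 hh))
  have hUPlt : U < (P : Subgroup G) := by
    refine lt_of_le_of_ne hUP fun h => hbad ?_
    have hn' : normalizer (wOf W (P : Subgroup G) : Set G) = ⊤ := by
      rw [eq_top_iff]
      refine le_trans (le_of_eq ?_) (normalizer_le_normalizer_wOf hW _ P.2)
      rw [← h, Subgroup.normalizer_eq_top]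
    have := hloc.1
    rw [hn'] at this
    exact Transfer.hasNormalPComplement_of_injective ((topEquiv (G := G)).symm.toMonoidHom) (topEquiv (G := G)).symm.injective this
  -- G/U
  set π := QuotientGroup.mk' U with hπ
  have hsurj : Function.Surjective π := QuotientGroup.mk'_surjective U
  set Pb := P.mapSurjective hsurj with hPb
  have ecoe : (Pb : Subgroup (G ⧸ U)) = (P : Subgroup G).map π := rfl
  have hPbne : (Pb : Subgroup (G ⧸ U)) ≠ ⊥ := by
    rw [ecoe, Ne, Subgroup.map_eq_bot_iff, QuotientGroup.ker_mk']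
    exact fun h => hUPlt.not_ge h
  have hpre : ∀ X : Subgroup (G ⧸ U), X ≤ (Pb : Subgroup (G ⧸ U)) → X ≠ ⊥ →
      (Pb : Subgroup (G ⧸ U)) ≤ normalizer (X : Set (G ⧸ U)) →
      Cfsg.HasNormalPComplement p ↥(normalizer (X : Set (G ⧸ U))) := by
    intro X hX hXne hPX
    have hle : X.comap π ≤ (P : Subgroup G) := by
      refine (comap_mono hX).trans (le_of_eq ?_)
      rw [ecoe, comap_map_eq, QuotientGroup.ker_mk', sup_eq_left.2 hUP]
    have hUX : U < X.comap π := by
      refine lt_of_le_of_ne (fun x hx => ?_) fun h => hXne ?_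
      · rw [Subgroup.mem_comap, show π x = 1 from (QuotientGroup.eq_one_iff x).2 hx]; exact one_mem _
      · rw [← map_comap_eq_self_of_surjective hsurj X, ← h, QuotientGroup.map_mk'_self]
    have hnorm : (normalizer (X : Set (G ⧸ U))).comap π = normalizer ((X.comap π : Subgroup G) : Set G) :=
      comap_normalizer_eq_of_surjective X hsurj
    have hPn : (P : Subgroup G) ≤ normalizer ((X.comap π : Subgroup G) : Set G) := by
      rw [← hnorm]
      intro x hx
      exact hPX ⟨x, hx, rfl⟩
    have h1 := hbig _ (P.2.to_le hle) hUX hPn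
    have h2 := Transfer.hasNormalPComplement_of_surjective
      (π.subgroupMap (normalizer ((X.comap π : Subgroup G) : Set G))) (π.subgroupMap_surjective _) h1
    refine Transfer.hasNormalPComplement_of_le ?_ h2
    rw [← hnorm, map_comap_eq_self_of_surjective hsurj]
  have hGU : Cfsg.HasNormalPComplement p (G ⧸ U) := by
    refine ih (G ⧸ U) (hquotlt U hUne) (hquot G U hG) Pb ⟨?_, fun _ => ?_⟩
    · exact hpre _ (wOf_le _) (wOf_ne_bot hW Pb.2 hPbne)
        (le_normalizer.trans (normalizer_le_normalizer_wOf hW _ Pb.2))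
    · exact Transfer.hasNormalPComplement_of_le (centralizer_le_normalizer _)
        (hpre _ inf_le_left (zOf_ne_bot Pb.2 hPbne) (le_normalizer.trans (normalizer_le_normalizer_zOf _)))
  -- the normal p-complement K of G/U
  set K := Cfsg.pResidual p (G ⧸ U) with hK
  haveI hKn : K.Normal := Transfer.pResidual_normal p
  have hKmem : ∀ x, x ∈ K ↔ (orderOf x).Coprime p := Transfer.mem_pResidual_iff hGU
  have hKcop : (Nat.card K).Coprime p := by
    refine (hp.coprime_iff_not_dvd.2 fun h => ?_).symm
    obtain ⟨x, hx⟩ := exists_prime_orderOf_dvd_card' p h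
    have h1 := (hKmem x).1 x.2
    rw [Subgroup.orderOf_coe, hx, Nat.coprime_self] at h1
    exact hp.one_lt.ne' h1
  have hcent : centralizer (U : Set G) ≤ U := by
    refine PCore.centralizer_pCore_le ?_ hMbot
    refine PCore.isPSolvable_of_normal U (PCore.isPSolvable_of_isPGroup PCore.isPGroup_pCore) ?_
    exact PCore.isPSolvable_of_isPGroup_quotient K (PCore.isPSolvable_of_coprime hKcop)
      (Transfer.isPGroup_quotient_pResidual p)
  have hco : IsCoatom (P : Subgroup G) := by
    refine ⟨fun h => hbad ?_, fun L hL => ?_⟩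
    · refine Transfer.hasNormalPComplement_of_isPGroup ?_
      have := P.2
      rw [h] at this
      exact this.of_equiv topEquiv
    by_contra hLtop
    have hLN := hover L hL.le hLtop
    set N := Cfsg.pResidual p ↥L
    haveI : N.Normal := Transfer.pResidual_normal p
    have hmemN : ∀ x, x ∈ N ↔ (orderOf x).Coprime p := Transfer.mem_pResidual_iff hLN
    apply hL.not_ge
    intro g hg
    have hNtriv : N = ⊥ := by
      rw [eq_bot_iff]
      intro x hx
      rw [mem_bot]
      have hxU : (x : G) ∈ centralizer (U : Set G) := by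
        rw [mem_centralizer_iff]
        intro u hu
        have huL : u ∈ L := hL.le (hUP hu)
        have h1 : ⁅(⟨u, huL⟩ : L), x⁆ ∈ N := commutator_le_right ⊤ N (commutator_mem_commutator (mem_top _) hx)
        have h2 : ⁅u, (x : G)⁆ ∈ U := commutator_le_left U ⊤ (commutator_mem_commutator hu (mem_top _))
        have h3 := (hmemN _).1 h1
        rw [← Subgroup.orderOf_coe] at h3
        exact commutatorElement_eq_one_iff_mul_comm.1 (eq_one_of_mem_sylow (P := P) (hUP h2) h3)
      have := eq_one_of_mem_sylow (P := P) (hUP (hcent hxU)) (by rw [Subgroup.orderOf_coe]; exact (hmemN x).1 hx)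
      exact Subtype.ext this
    have hLp : IsPGroup p L := by
      have := Transfer.isPGroup_quotient_pResidual (G := L) p
      change IsPGroup p (L ⧸ N) at this
      intro l
      obtain ⟨k, hk⟩ := this l
      rw [← QuotientGroup.mk_pow, QuotientGroup.eq_one_iff, hNtriv, mem_bot] at hk
      exact ⟨k, hk⟩
    rw [← P.3 hLp hL.le]; exact hg
  have hcoat : ∀ L : Subgroup (G ⧸ U), (Pb : Subgroup (G ⧸ U)) ≤ L → L = Pb ∨ L = ⊤ := by
    intro L hL
    have h1 : (P : Subgroup G) ≤ L.comap π := map_le_iff_le_comap.1 hL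
    rcases hco.le_iff.1 h1 with h | h
    · right; rw [← map_comap_eq_self_of_surjective hsurj L, h, map_top_of_surjective _ hsurj]
    · left; rw [← map_comap_eq_self_of_surjective hsurj L, h]; rfl
  have hKP : ∀ L : Subgroup (G ⧸ U), L ≤ K → (Pb : Subgroup (G ⧸ U)) ≤ normalizer (L : Set (G ⧸ U)) →
      L = ⊥ ∨ L = K := by
    intro L hLK hLP
    rcases hcoat ((Pb : Subgroup (G ⧸ U)) ⊔ L) le_sup_left with h | h
    · left
      rw [eq_bot_iff]
      intro x hx
      have hxP : x ∈ (Pb : Subgroup (G ⧸ U)) := h ▸ mem_sup_right hx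
      exact mem_bot.2 (eq_one_of_mem_sylow hxP ((hKmem x).1 (hLK hx)))
    · right
      refine le_antisymm hLK fun x hx => ?_
      obtain ⟨a, ha, l, hl, hal⟩ := (Coprime.mem_sup_iff_of_le_normalizer hLP).1 (h ▸ mem_top x)
      have haK : a ∈ K := by
        have := mul_mem hx (inv_mem (hLK hl))
        rwa [← hal, mul_inv_cancel_right] at this
      rw [← hal, eq_one_of_mem_sylow ha ((hKmem a).1 haK), one_mul]
      exact hl
  -- K is abelian
  have hKab : ∀ x ∈ K, ∀ y ∈ K, x * y = y * x := by
    by_contra hnab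
    have hKne : Nat.card K ≠ 1 := by
      intro h
      apply hnab
      intro x hx y hy
      rw [card_eq_one.1 h, mem_bot] at hx
      simp [hx]
    obtain ⟨q, hq, hqd⟩ := Nat.exists_prime_and_dvd hKne
    haveI := Fact.mk hq
    have hcop : (Nat.card ↥(Pb : Subgroup (G ⧸ U))).Coprime (Nat.card K) := by
      obtain ⟨k, hk⟩ := Pb.2.exists_card_eq
      rw [hk]
      exact (hKcop.pow_right k).symm
    haveI : Group.IsNilpotent ↥(Pb : Subgroup (G ⧸ U)) := Pb.2.isNilpotent
    obtain ⟨R, hR⟩ := Coprime.exists_invariant_sylow (p := q) (A := (Pb : Subgroup (G ⧸ U))) (K := K)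
      (by rw [Subgroup.normalizer_eq_top]; exact le_top) hcop (Or.inl inferInstance)
    rcases hKP ((R : Subgroup K).map K.subtype) (map_subtype_le _) hR with h | h
    · rw [Subgroup.map_eq_bot_iff_of_injective _ Subtype.coe_injective] at h
      have := R.card_eq_multiplicity
      rw [h, card_bot] at this
      exact (Nat.one_lt_pow ((hq.dvd_iff_one_le_factorization Nat.card_pos.ne').1 hqd |>
        Nat.one_le_iff_ne_zero.1) hq.one_lt).ne this
    have hKq : IsPGroup q K := h ▸ R.2.map K.subtype
    haveI : Group.IsNilpotent K := hKq.isNilpotent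
    rcases hKP ⁅K, K⁆ (commutator_le_left K K) (by rw [Subgroup.normalizer_eq_top]; exact le_top) with h | h
    · apply hnab
      intro x hx y hy
      exact commutatorElement_eq_one_iff_mul_comm.1 (mem_bot.1 (h ▸ commutator_mem_commutator hx hy))
    · have hser : ∀ i, K ≤ Subgroup.lowerCentralSeries K i := by
        intro i
        induction i with
        | zero => exact le_rfl
        | succ i ihi =>
          intro x hx
          rw [← h] at hx
          exact commutator_mono ihi le_rfl hx
      have := hser (Group.nilpotencyClass ↥K)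
      rw [lowerCentralSeries_eq_bot_of_nilpotencyClass_le le_rfl, le_bot_iff] at this
      exact hKne (by rw [this, card_bot])
  have hcfg : Config p P := by
    refine ⟨hco, hcent, fun x y hx hy => ?_⟩
    rw [← QuotientGroup.eq_one_iff]
    show π ⁅x, y⁆ = 1
    rw [map_commutatorElement, commutatorElement_eq_one_iff_mul_comm]
    exact hKab _ ((hKmem _).2 (hx.coprime_dvd_left (orderOf_map_dvd π x))) _
      ((hKmem _).2 (hy.coprime_dvd_left (orderOf_map_dvd π y)))
  have hWn := hfin G P hG hcfg hGU hloc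
  have h1 := hloc.1
  rw [normalizer_eq_top_iff.2 hWn] at h1
  exact hbad (Transfer.hasNormalPComplement_of_injective (topEquiv (G := G)).symm.toMonoidHom (topEquiv (G := G)).symm.injective h1)

end Cfsg.Agent.PComplement
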