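import Cfsg.Agent.Lib.PComplement.FixedPointFree
import Cfsg.Agent.Lib.Replacement.Characteristic
import Cfsg.Agent.Lib.Coprime.Stabilize

/-!
# Kegel's theorem on splitting automorphisms of prime order

`isNilpotent_of_splitting`: a finite group with an automorphism `α`, `α ^ p = 1`, satisfying
`x α(x) ⋯ α^(p-1)(x) = 1` for all `x` is nilpotent.
-/

namespace Cfsg.Agent.PComplement

open Subgroup
open scoped commutatorElement Pointwise

universe u

variable {G : Type u} [Group G] {p : ℕ}

/-- `x α(x) ⋯ α^(k-1)(x)`. -/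
def twistProd (α : MulAut G) (k : ℕ) (x : G) : G := ((List.range k).map fun i : ℕ => (α ^ i) x).prod

theorem twistProd_succ (α : MulAut G) (k : ℕ) (x : G) :
    twistProd α (k + 1) x = twistProd α k x * (α ^ k) x := by
  simp [twistProd, List.range_succ, List.map_append, List.prod_append]

/-- The splitting condition. -/
def Splits (p : ℕ) (α : MulAut G) : Prop := α ^ p = 1 ∧ ∀ x, twistProd α p x = 1

theorem shift_pow (α : MulAut G) (g : G) (k : ℕ) :
    (MulAut.conj g * α) ^ k = MulAut.conj (twistProd α k g) * α ^ k := by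
  induction k with
  | zero => simp [twistProd]
  | succ k ih =>
    apply MulEquiv.ext
    intro x
    rw [pow_succ, MulAut.mul_apply, MulAut.mul_apply, ih, MulAut.mul_apply, twistProd_succ,
      MulAut.mul_apply, pow_succ, MulAut.mul_apply, MulAut.conj_apply, MulAut.conj_apply,
      MulAut.conj_apply, map_mul, map_mul, map_inv]
    group

theorem twistProd_shift (α : MulAut G) (g x : G) (k : ℕ) :
    twistProd α k (x * g) = twistProd (MulAut.conj g * α) k x * twistProd α k g := by
  induction k with
  | zero => simp [twistProd]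
  | succ k ih =>
    rw [twistProd_succ, twistProd_succ, twistProd_succ, ih, shift_pow, MulAut.mul_apply,
      MulAut.conj_apply, map_mul]
    group

/-- Every automorphism in the coset of a splitting one splits. -/
theorem Splits.shift {α : MulAut G} (h : Splits p α) (g : G) : Splits p (MulAut.conj g * α) := by
  refine ⟨?_, fun x => ?_⟩
  · rw [shift_pow, h.2 g, map_one, h.1, mul_one]
  · have := twistProd_shift α g x p
    rw [h.2, h.2, mul_one] at this
    exact this.symm

theorem twistProd_map {H : Type*} [Group H] (f : H →* G) {α : MulAut G} {β : MulAut H}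
    (hf : ∀ x, f (β x) = α (f x)) (k : ℕ) (x : H) : f (twistProd β k x) = twistProd α k (f x) := by
  have hk : ∀ i : ℕ, ∀ y, f ((β ^ i) y) = (α ^ i) (f y) := by
    intro i
    induction i with
    | zero => intro y; rfl
    | succ i ih => intro y; rw [pow_succ', MulAut.mul_apply, hf, ih, pow_succ', MulAut.mul_apply]
  induction k with
  | zero => simp [twistProd]
  | succ k ih => rw [twistProd_succ, twistProd_succ, map_mul, ih, hk]

theorem Splits.of_injective {H : Type*} [Group H] (f : H →* G) (hfi : Function.Injective f)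
    {α : MulAut G} {β : MulAut H} (hf : ∀ x, f (β x) = α (f x)) (h : Splits p α) : Splits p β := by
  have hk : ∀ i : ℕ, ∀ y, f ((β ^ i) y) = (α ^ i) (f y) := by
    intro i
    induction i with
    | zero => intro y; rfl
    | succ i ih => intro y; rw [pow_succ', MulAut.mul_apply, hf, ih, pow_succ', MulAut.mul_apply]
  refine ⟨MulEquiv.ext fun y => hfi ?_, fun y => hfi ?_⟩
  · rw [hk, h.1]; rfl
  · rw [twistProd_map f hf, h.2, map_one]

theorem Splits.of_surjective {H : Type*} [Group H] (f : G →* H) (hfs : Function.Surjective f)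
    {α : MulAut G} {β : MulAut H} (hf : ∀ x, f (α x) = β (f x)) (h : Splits p α) : Splits p β := by
  have hk : ∀ i : ℕ, ∀ y, f ((α ^ i) y) = (β ^ i) (f y) := by
    intro i
    induction i with
    | zero => intro y; rfl
    | succ i ih => intro y; rw [pow_succ', MulAut.mul_apply, hf, ih, pow_succ', MulAut.mul_apply]
  refine ⟨MulEquiv.ext fun y => ?_, fun y => ?_⟩
  · obtain ⟨x, rfl⟩ := hfs y
    rw [← hk, h.1]; rfl
  · obtain ⟨x, rfl⟩ := hfs y
    rw [← twistProd_map f hf, h.2, map_one]

theorem Splits.pow_eq_one_of_fixed {α : MulAut G} (h : Splits p α) {x : G} (hx : α x = x) :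
    x ^ p = 1 := by
  have hk : ∀ k : ℕ, (α ^ k) x = x ∧ twistProd α k x = x ^ k := by
    intro k
    induction k with
    | zero => exact ⟨rfl, by simp [twistProd]⟩
    | succ k ih =>
      exact ⟨by rw [pow_succ', MulAut.mul_apply, ih.1, hx],
        by rw [twistProd_succ, ih.1, ih.2, pow_succ]⟩
  rw [← (hk p).2, h.2]

/-- An element `y` of order p fixed by a splitting `α` centralises the invariant abelian normal
p'-subgroup `V`. -/
theorem Splits.commute_of_fixed [Finite G] [hp : Fact p.Prime] {α : MulAut G} (h : Splits p α)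
    {y : G} (hy : α y = y) (hyp : y ^ p = 1) (V : Subgroup G) [V.Normal] (hVc : IsMulCommutative V)
    (hV : ∀ v ∈ V, α v ∈ V) (hcop : (Nat.card V).Coprime p) : ∀ v ∈ V, Commute y v := by
  classical
  letI : CommGroup V :=
    { (inferInstance : Group V) with mul_comm := fun a b => hVc.is_comm.comm a b }
  let c : G → (V →* V) := fun z =>
    { toFun := fun v => ⟨z * v * z⁻¹, (inferInstance : V.Normal).conj_mem v v.2 z⟩
      map_one' := Subtype.ext (by simp)
      map_mul' := fun a b => Subtype.ext (by simp [mul_assoc]) }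
  have hc : ∀ z w : G, ∀ v, c z (c w v) = c (z * w) v := fun z w v =>
    Subtype.ext (by simp [c, mul_assoc])
  have hpowV : ∀ i : ℕ, ∀ v ∈ V, (α ^ i) v ∈ V := by
    intro i
    induction i with
    | zero => intro v hv; exact hv
    | succ i ih => intro v hv; rw [pow_succ', MulAut.mul_apply]; exact hV _ (ih v hv)
  let a : ℕ → (V →* V) := fun i =>
    { toFun := fun v => ⟨(α ^ i) v, hpowV i v v.2⟩
      map_one' := Subtype.ext (map_one _)
      map_mul' := fun x z => Subtype.ext (map_mul _ _ _) }
  have hyi : ∀ i : ℕ, ∀ m : ℕ, twistProd α i (y ^ m) = (y ^ m) ^ i := by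
    intro i m
    induction i with
    | zero => simp [twistProd]
    | succ i ih =>
      rw [twistProd_succ, ih, pow_succ]
      congr 1
      clear ih
      induction i with
      | zero => rfl
      | succ i ih => rw [pow_succ', MulAut.mul_apply, ih, map_pow, hy]
  have hshift : ∀ (l k : ℕ) (v : V),
      (((∏ i ∈ Finset.range k, c (y ^ (l * i)) (a i v)) : V) : G) =
        twistProd (MulAut.conj (y ^ l) * α) k (v : G) := by
    intro l k v
    induction k with
    | zero => rfl
    | succ k ih =>
      rw [Finset.prod_range_succ, twistProd_succ, coe_mul, ih, shift_pow, MulAut.mul_apply,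
        MulAut.conj_apply, hyi]
      congr 1
      show y ^ (l * k) * (α ^ k) v * (y ^ (l * k))⁻¹ = _
      rw [pow_mul]
  have hnorm : ∀ (l : ℕ) (v : V), ∏ i ∈ Finset.range p, c (y ^ (l * i)) (a i v) = 1 := fun l v =>
    Subtype.ext ((hshift l p v).trans ((h.shift (y ^ l)).2 _))
  let T : V →* V :=
    { toFun := fun v => ∏ l ∈ Finset.range p, c (y ^ l) v
      map_one' := by simp
      map_mul' := fun u v => by simp [Finset.prod_mul_distrib] }
  have hymod : ∀ m : ℕ, y ^ m = y ^ (m % p) := fun m => by
    conv_lhs => rw [← Nat.mod_add_div m p, pow_add, pow_mul, hyp, one_pow, mul_one]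
  have hyT : ∀ v, c y (T v) = T v := by
    intro v
    show c y (∏ l ∈ Finset.range p, c (y ^ l) v) = ∏ l ∈ Finset.range p, c (y ^ l) v
    rw [map_prod]
    simp only [hc, ← pow_succ']
    apply mul_right_cancel (b := c (y ^ 0) v)
    rw [← Finset.prod_range_succ' (fun l => c (y ^ l) v), Finset.prod_range_succ, hyp, pow_zero]
  have hT : ∀ i ∈ (Finset.range p).erase 0, ∀ w,
      ∏ l ∈ Finset.range p, c (y ^ (l * i)) w = T w := by
    intro i hi w
    have hi0 : i ≠ 0 := Finset.ne_of_mem_erase hi
    have hip : i < p := Finset.mem_range.1 (Finset.mem_of_mem_erase hi)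
    obtain ⟨k, -, hk⟩ := Nat.exists_mul_mod_eq_one_of_coprime (n := i) (k := p)
      ((hp.out.coprime_iff_not_dvd.2 fun h => absurd (Nat.le_of_dvd (Nat.pos_of_ne_zero hi0) h)
        (Nat.not_le.2 hip)).symm) hp.out.one_lt
    show ∏ l ∈ Finset.range p, c (y ^ (l * i)) w = ∏ l ∈ Finset.range p, c (y ^ l) w
    refine Finset.prod_nbij' (fun l => l * i % p) (fun l => l * k % p) ?_ ?_ ?_ ?_ ?_
    · exact fun l _ => Finset.mem_range.2 (Nat.mod_lt _ hp.out.pos)
    · exact fun l _ => Finset.mem_range.2 (Nat.mod_lt _ hp.out.pos)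
    · intro l hl
      rw [Nat.mod_mul_mod, mul_assoc, Nat.mul_mod, hk, mul_one, Nat.mod_mod,
        Nat.mod_eq_of_lt (Finset.mem_range.1 hl)]
    · intro l hl
      rw [Nat.mod_mul_mod, mul_assoc, mul_comm k, Nat.mul_mod, hk, mul_one, Nat.mod_mod,
        Nat.mod_eq_of_lt (Finset.mem_range.1 hl)]
    · intro l _
      exact congrArg (fun z => c z w) (hymod _)
  have hmain : ∀ v : V, v ^ p = T v := by
    intro v
    have h1 : ∏ l ∈ Finset.range p, ∏ i ∈ Finset.range p, c (y ^ (l * i)) (a i v) = 1 := by
      simp only [hnorm, Finset.prod_const_one]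
    rw [Finset.prod_comm, ← Finset.mul_prod_erase _ _ (Finset.mem_range.2 hp.out.pos)] at h1
    have e0 : ∏ l ∈ Finset.range p, c (y ^ (l * 0)) (a 0 v) = v ^ p := by
      have e : ∀ l, c (y ^ (l * 0)) (a 0 v) = v := fun l => Subtype.ext (by simp [c, a])
      rw [Finset.prod_congr rfl fun l _ => e l, Finset.prod_const, Finset.card_range]
    rw [e0, Finset.prod_congr rfl fun i hi => hT i hi (a i v), ← map_prod] at h1
    have e3 : ∏ i ∈ (Finset.range p).erase 0, a i v = v⁻¹ := by
      have h0 := hnorm 0 v
      have e : ∀ i, c (y ^ (0 * i)) (a i v) = a i v := fun i => Subtype.ext (by simp [c])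
      rw [Finset.prod_congr rfl fun i _ => e i,
        ← Finset.mul_prod_erase _ _ (Finset.mem_range.2 hp.out.pos)] at h0
      rw [eq_inv_of_mul_eq_one_right h0]
      rfl
    rw [e3, map_inv] at h1
    exact mul_inv_eq_one.1 h1
  intro v hv
  obtain ⟨k, hk⟩ := exists_pow_eq_self_of_coprime (n := p) (x := (⟨v, hv⟩ : V))
    (hcop.symm.coprime_dvd_right (orderOf_dvd_natCard _))
  have hfix : c y (⟨v, hv⟩ : V) = ⟨v, hv⟩ := by rw [← hk, map_pow, hmain, hyT]
  exact mul_inv_eq_iff_eq_mul.1 (congrArg Subtype.val hfix)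

/-- An invariant Sylow subgroup for some element of the coset of `α`. -/
theorem exists_shift_fixing_sylow [Finite G] (α : MulAut G) {q : ℕ} [Fact q.Prime] (Q : Sylow q G) :
    ∃ g : G, (Q : Subgroup G).map (MulAut.conj g * α).toMonoidHom = Q := by
  obtain ⟨g, hg⟩ := MulAction.exists_smul_eq G (Q.mapSurjective (f := α.toMonoidHom) α.surjective) Q
  refine ⟨g, ?_⟩
  conv_rhs => rw [← hg]
  show _ = MulAut.conj g • ((Q : Subgroup G).map α.toMonoidHom)
  exact (Subgroup.map_map (Q : Subgroup G) (MulAut.conj g).toMonoidHom α.toMonoidHom).symm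

theorem map_shift_eq (N : Subgroup G) [N.Normal] (α : MulAut G) (g : G)
    (hN : N.map α.toMonoidHom = N) : N.map (MulAut.conj g * α).toMonoidHom = N := by
  rw [show (MulAut.conj g * α).toMonoidHom = (MulAut.conj g).toMonoidHom.comp α.toMonoidHom from rfl,
    ← Subgroup.map_map, hN]
  exact mem_normalizer_iff_map_conj_eq.1 ((normalizer_eq_top_iff.2 ‹N.Normal›).symm ▸ mem_top g)

/-- **Kegel**: splitting automorphisms of prime order force nilpotency. -/
theorem isNilpotent_of_splitting [hp : Fact p.Prime] :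
    ∀ (G : Type u) [Group G] [Finite G] (α : MulAut G), Splits p α → Group.IsNilpotent G := by
  suffices H : ∀ (n : ℕ) (G : Type u) [Group G] [Finite G], Nat.card G ≤ n → ∀ α : MulAut G,
      Splits p α → Group.IsNilpotent G from fun G _ _ => H _ G le_rfl
  intro n
  induction n with
  | zero => intro G _ _ h; exact absurd h (Nat.not_le.2 Nat.card_pos)
  | succ n ih =>
  intro G _ _ hn α₀ hα₀
  have hpmap : ∀ (α : MulAut G) (H : Subgroup G), H.map α.toMonoidHom = H → ∀ x ∈ H, α x ∈ H :=
    fun α H hH x hx => hH ▸ ⟨x, hx, rfl⟩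
  -- proper invariant subgroups are nilpotent
  have hsubN : ∀ (α : MulAut G), Splits p α → ∀ H : Subgroup G, H.map α.toMonoidHom = H → H ≠ ⊤ →
      Group.IsNilpotent H := by
    intro α hα H hH hne
    refine ih H ?_ ((α.subgroupMap H).trans (MulEquiv.subgroupCongr hH))
      (hα.of_injective H.subtype H.subtype_injective fun x => rfl)
    have : Nat.card H < Nat.card G := by
      by_contra hh
      exact hne (eq_top_of_card_eq H (le_antisymm (Nat.le_of_dvd Nat.card_pos H.card_subgroup_dvd_card) (not_lt.1 hh)))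
    omega
  -- quotients by nontrivial invariant normal subgroups are nilpotent
  have hquotN : ∀ (α : MulAut G), Splits p α → ∀ (N : Subgroup G) [N.Normal],
      N.map α.toMonoidHom = N → N ≠ ⊥ → Group.IsNilpotent (G ⧸ N) := by
    intro α hα N _ hN hne
    refine ih (G ⧸ N) ?_ (QuotientGroup.congr N N α hN)
      (hα.of_surjective (QuotientGroup.mk' N) (QuotientGroup.mk'_surjective N) fun x => rfl)
    have h1 := N.card_mul_index
    have h2 : 1 < Nat.card N := (one_lt_card_iff_ne_bot N).2 hne
    have h3 : 0 < N.index := Nat.pos_of_ne_zero index_ne_zero_of_finite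
    have h4 : N.index < Nat.card N * N.index := lt_mul_of_one_lt_left h3 h2
    change N.index ≤ n
    omega
  by_cases hp2 : p = 2
  · -- α is inversion
    subst hp2
    have hinv : ∀ x, α₀ x = x⁻¹ := fun x => by
      have h := hα₀.2 x
      rw [twistProd_succ, twistProd_succ] at h
      simp [twistProd] at h
      exact eq_inv_of_mul_eq_one_right h
    refine Group.isNilpotent_of_finite_tfae.out 3 0 rfl rfl |>.1 fun q _ Q => ⟨fun x hx g => ?_⟩
    have : g * x = x * g := by
      have h := map_mul α₀ g x
      rw [hinv, hinv, hinv, ← mul_inv_rev] at h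
      exact inv_injective h
    rwa [this, mul_inv_cancel_right]
  by_cases hpd : p ∣ Nat.card G
  swap
  · refine isNilpotent_of_fpf G α₀ hα₀.1 fun g hg => ?_
    have h1 := orderOf_dvd_of_pow_eq_one (hα₀.pow_eq_one_of_fixed hg)
    rcases (Nat.dvd_prime hp.out).1 h1 with h | h
    · exact orderOf_eq_one_iff.1 h
    · exact absurd (h ▸ orderOf_dvd_natCard g) hpd
  obtain ⟨P⟩ := (inferInstance : Nonempty (Sylow p G))
  obtain ⟨g₀, hg₀⟩ := exists_shift_fixing_sylow α₀ P
  set α := MulAut.conj g₀ * α₀ with hαdef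
  have hα : Splits p α := hα₀.shift g₀
  have hPne : (P : Subgroup G) ≠ ⊥ := by
    intro h
    have := P.card_eq_multiplicity
    rw [h, card_bot] at this
    exact absurd this (Nat.one_lt_pow ((hp.out.dvd_iff_one_le_factorization Nat.card_pos.ne').1 hpd |>
      Nat.one_le_iff_ne_zero.1) hp.out.one_lt).ne
  -- P is normal
  haveI hPn : (P : Subgroup G).Normal := by
    by_contra hPn
    set X := Cfsg.centerThompsonAOf (P : Subgroup G) with hX
    have hXα : X.map α.toMonoidHom = X := by
      rw [hX, ← Replacement.centerThompsonAOf_map_equiv, hg₀]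
    have hXP : X ≤ (P : Subgroup G) := inf_le_left.trans (PGroup.thompsonSubgroupAOf_le _)
    have hXne : X ≠ ⊥ := by
      rw [hX, ← wOf_zjA]
      exact wOf_ne_bot isCharPFunctor_zjA P.2 hPne
    have hNPC : Cfsg.HasNormalPComplement p G := by
      by_cases hN : normalizer (X : Set G) = ⊤
      · exfalso
        haveI : X.Normal := normalizer_eq_top_iff.1 hN
        haveI := hquotN α hα X hXα hXne
        haveI : (((P.mapSurjective (QuotientGroup.mk'_surjective X)) : Sylow p (G ⧸ X)) :
            Subgroup (G ⧸ X)).Normal := inferInstance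
        apply hPn
        have := this.comap (QuotientGroup.mk' X)
        rwa [Sylow.coe_mapSurjective, comap_map_eq_self ((QuotientGroup.ker_mk' X).trans_le hXP)] at this
      · haveI := hsubN α hα _ (by rw [map_equiv_normalizer_eq, hXα]) hN
        exact zjAComplement hp2 P hasNormalPComplement_of_isNilpotent
    set K := Cfsg.pResidual p G with hK
    haveI : K.Characteristic := Transfer.pResidual_characteristic p
    have hKα : K.map α.toMonoidHom = K := characteristic_iff_map_eq.1 ‹K.Characteristic› α
    have hKmem := Transfer.mem_pResidual_iff hNPC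
    have hKcop : (Nat.card K).Coprime p := by
      refine (hp.out.coprime_iff_not_dvd.2 fun h => ?_).symm
      obtain ⟨x, hx⟩ := exists_prime_orderOf_dvd_card' p h
      have h1 := (hKmem x).1 x.2
      rw [Subgroup.orderOf_coe, hx, Nat.coprime_self] at h1
      exact hp.out.one_lt.ne' h1
    have hPK : (P : Subgroup G) ⊔ K = ⊤ := by
      rw [eq_top_iff]
      intro g _
      have htop : ((P.mapSurjective (QuotientGroup.mk'_surjective K) : Sylow p (G ⧸ K)) :
          Subgroup (G ⧸ K)) = ⊤ :=
        ((P.mapSurjective (QuotientGroup.mk'_surjective K)).3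
          ((Transfer.isPGroup_quotient_pResidual p).to_subgroup ⊤) le_top).symm
      rw [Sylow.coe_mapSurjective] at htop
      have hg : g ∈ ((P : Subgroup G).map (QuotientGroup.mk' K)).comap (QuotientGroup.mk' K) := by
        rw [htop]; trivial
      rwa [comap_map_eq, QuotientGroup.ker_mk'] at hg
    -- a fixed central element of P of order p
    obtain ⟨y, hyP, hyne, hyp, hyfix, hyc⟩ : ∃ y ∈ (P : Subgroup G), y ≠ 1 ∧ y ^ p = 1 ∧ α y = y ∧
        ∀ x ∈ (P : Subgroup G), Commute x y := by
      have hZne : zOf (P : Subgroup G) ≠ ⊥ := zOf_ne_bot P.2 hPne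
      set Z := zOf (P : Subgroup G)
      have hZα : Z.map α.toMonoidHom = Z := by rw [zOf_map _ α.injective, hg₀]
      let Γ : Subgroup (MulAut G) := zpowers α
      have hΓ : IsPGroup p Γ := by
        intro γ
        obtain ⟨j, hj⟩ := mem_zpowers_iff.1 γ.2
        refine ⟨1, Subtype.ext ?_⟩
        rw [pow_one, coe_pow, ← hj, ← zpow_natCast, ← zpow_mul, mul_comm, zpow_mul, zpow_natCast,
          hα.1, one_zpow]
        rfl
      have hΓZ : ∀ γ : Γ, ∀ z ∈ Z, (γ : MulAut G) z ∈ Z := by
        intro γ z hz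
        have hle : Γ ≤ MulAction.stabilizer (MulAut G) (Z : Set G) := by
          rw [zpowers_le, MulAction.mem_stabilizer_iff]
          conv_rhs => rw [← hZα]
          ext w
          simp [Set.mem_smul_set]
        have := hle γ.2
        rw [MulAction.mem_stabilizer_iff] at this
        rw [← SetLike.mem_coe, ← this]
        exact ⟨z, hz, rfl⟩
      letI : MulAction Γ Z :=
        { smul := fun γ z => ⟨(γ : MulAut G) z, hΓZ γ z z.2⟩
          one_smul := fun z => rfl
          mul_smul := fun a b z => rfl }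
      have hd : p ∣ Nat.card Z := by
        obtain ⟨k, hk⟩ := (P.2.to_le (inf_le_left : Z ≤ _)).exists_card_eq
        rcases k with _ | k
        · rw [pow_zero, card_eq_one] at hk; exact absurd hk hZne
        · exact hk ▸ dvd_pow_self p k.succ_ne_zero
      obtain ⟨⟨y, hyZ⟩, hy, hne⟩ := hΓ.exists_fixed_point_of_prime_dvd_card_of_fixed_point Z hd
        (a := (1 : Z)) (fun γ => Subtype.ext (map_one (γ : MulAut G)))
      have hfix : α y = y := congrArg Subtype.val (hy ⟨α, mem_zpowers α⟩)
      exact ⟨y, hyZ.1, fun e => hne (Subtype.ext e.symm), hα.pow_eq_one_of_fixed hfix, hfix,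
        fun x hx => (mem_centralizer_iff.1 hyZ.2 x hx :)⟩
    have hKne : K ≠ ⊥ := fun h => hPn (by
      rw [h, sup_bot_eq] at hPK
      rw [hPK]; infer_instance)
    -- y centralises K
    haveI := isNilpotent_of_fpf K ((α.subgroupMap K).trans (MulEquiv.subgroupCongr hKα))
      (hα.of_injective K.subtype K.subtype_injective fun x => rfl).1 (fun k hk => by
        have h1 := orderOf_dvd_of_pow_eq_one
          (hα.pow_eq_one_of_fixed (x := (k : G)) (congrArg Subtype.val hk))
        exact Subtype.ext (orderOf_eq_one_iff.1 (Nat.eq_one_of_dvd_coprimes ((hKmem k).1 k.2) dvd_rfl h1)))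
    set V := zOf K with hV
    haveI : V.Normal := zOf_normal
    have hVα : V.map α.toMonoidHom = V := by rw [hV, zOf_map _ α.injective, hKα]
    have hVne : V ≠ ⊥ := by
      haveI : Nontrivial K := (nontrivial_iff_ne_bot K).2 hKne
      haveI : Nontrivial (center K) :=
        (nontrivial_iff_ne_bot _).2 (Group.IsNilpotent.center_ne_bot K)
      obtain ⟨⟨z, hz⟩, hz1⟩ := exists_ne (1 : center K)
      intro h
      apply hz1
      have hmem : (z : G) ∈ V := ⟨z.2, mem_centralizer_iff.2 fun w hw =>
        congrArg Subtype.val (mem_center_iff.1 hz ⟨w, hw⟩)⟩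
      rw [h, mem_bot] at hmem
      exact Subtype.ext (Subtype.ext hmem)
    have hyV := hα.commute_of_fixed hyfix hyp V (isMulCommutative_zOf K) (hpmap α V hVα)
      (hKcop.coprime_dvd_left (card_dvd_of_le inf_le_left))
    haveI := hquotN α hα V hVα hVne
    have hycop : ∀ k ∈ K, Commute y k := by
      intro k hk
      have hkp : (orderOf k).Coprime p := (hKmem k).1 hk
      have h1 : Commute (y : G ⧸ V) (k : G ⧸ V) :=
        (Subnormal.commute_of_coprime (p := p) (k := 1) (u := (y : G ⧸ V)) (y := (k : G ⧸ V))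
          (by rw [← QuotientGroup.mk_pow, pow_one, hyp]; rfl)
          (hkp.coprime_dvd_left (orderOf_map_dvd (QuotientGroup.mk' V) k))).symm
      have hz : ⁅y, k⁆ ∈ V := by
        refine (QuotientGroup.eq_one_iff _).1 ?_
        show QuotientGroup.mk' V ⁅y, k⁆ = 1
        rw [map_commutatorElement]
        exact commutatorElement_eq_one_iff_commute.2 h1
      refine Coprime.commute_of_translate (z := ⁅y, k⁆)
        (by rw [commutatorElement_def, inv_mul_cancel_right]) (hyV _ hz) ?_
      refine Nat.Coprime.coprime_dvd_left (orderOf_dvd_of_pow_eq_one hyp) ?_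
      exact (hKcop.coprime_dvd_left (orderOf_dvd_natCard K hz.1)).symm
    set Y := zpowers y with hY
    have hYcen : Y ≤ center G := by
      rw [zpowers_le, mem_center_iff]
      intro g
      have hle : (P : Subgroup G) ⊔ K ≤ centralizer {y} :=
        sup_le (fun x hx => mem_centralizer_singleton_iff.2 (hyc x hx).eq)
          (fun k hk => mem_centralizer_singleton_iff.2 (hycop k hk).eq.symm)
      exact mem_centralizer_singleton_iff.1 (hle (hPK ▸ mem_top g))
    haveI : Y.Normal := ⟨fun z hz g => by
      rw [mem_center_iff.1 (hYcen hz) g, mul_inv_cancel_right]; exact hz⟩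
    haveI := hquotN α hα Y (by
      rw [hY, MonoidHom.map_zpowers, show α.toMonoidHom y = α y from rfl, hyfix])
      (fun h => hyne (zpowers_eq_bot.1 h))
    apply hPn
    rw [← normalizer_eq_top_iff, eq_top_iff, ← hPK]
    refine sup_le le_normalizer fun k hk => centralizer_le_normalizer _ (mem_centralizer_iff.2 fun x hx => ?_)
    obtain ⟨i, hi⟩ := P.2 ⟨x, hx⟩
    have hkp : (orderOf k).Coprime p := (hKmem k).1 hk
    have hxi : x ^ p ^ i = 1 := congrArg Subtype.val hi
    have h1 : Commute (x : G ⧸ Y) (k : G ⧸ Y) :=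
      (Subnormal.commute_of_coprime (p := p) (k := i) (u := (x : G ⧸ Y)) (y := (k : G ⧸ Y))
        (by rw [← QuotientGroup.mk_pow, hxi]; rfl)
        (hkp.coprime_dvd_left (orderOf_map_dvd (QuotientGroup.mk' Y) k))).symm
    have hz : ⁅x, k⁆ ∈ Y := by
      refine (QuotientGroup.eq_one_iff _).1 ?_
      show QuotientGroup.mk' Y ⁅x, k⁆ = 1
      rw [map_commutatorElement]
      exact commutatorElement_eq_one_iff_commute.2 h1
    have hzK : ⁅x, k⁆ ∈ K := commutator_le_right ⊤ K (commutator_mem_commutator (mem_top x) hk)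
    have hz1 : ⁅x, k⁆ = 1 := by
      obtain ⟨j, hj⟩ := mem_zpowers_iff.1 hz
      refine orderOf_eq_one_iff.1 (Nat.eq_one_of_dvd_coprimes ((hKmem _).1 hzK) dvd_rfl ?_)
      refine orderOf_dvd_of_pow_eq_one ?_
      rw [← hj, ← zpow_natCast, ← zpow_mul, mul_comm, zpow_mul, zpow_natCast, hyp, one_zpow]
    exact commutatorElement_eq_one_iff_mul_comm.1 hz1
  -- every Sylow subgroup is normal
  haveI : (P : Subgroup G).Characteristic := P.characteristic_of_normal hPn
  have hPinv : ∀ β : MulAut G, (P : Subgroup G).map β.toMonoidHom = P := fun β =>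
    characteristic_iff_map_eq.1 inferInstance β
  refine Group.isNilpotent_of_finite_tfae.out 3 0 rfl rfl |>.1 fun q hq Q => ?_
  haveI := hq
  by_cases hqp : q = p
  · subst hqp
    haveI := Sylow.unique_of_normal P hPn
    rw [Subsingleton.elim Q P]; exact hPn
  obtain ⟨g₁, hg₁⟩ := exists_shift_fixing_sylow α Q
  set β := MulAut.conj g₁ * α
  have hβ : Splits p β := hα.shift g₁
  have hPβ := hPinv β
  -- Q centralises P
  have hcent : ∀ x ∈ (Q : Subgroup G), ∀ u ∈ (P : Subgroup G), Commute x u := by
    have hxo : ∀ x ∈ (Q : Subgroup G), (orderOf x).Coprime p := by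
      intro x hx
      obtain ⟨i, hi⟩ := Q.2 ⟨x, hx⟩
      exact (((Nat.coprime_primes hq.out hp.out).2 hqp).pow_left i).coprime_dvd_left
        (orderOf_dvd_of_pow_eq_one (congrArg Subtype.val hi : x ^ q ^ i = 1))
    set Z := zOf (P : Subgroup G)
    haveI : Z.Normal := zOf_normal
    have hZβ : Z.map β.toMonoidHom = Z := by rw [zOf_map _ β.injective, hPβ]
    have hcopZ : (Nat.card (Q : Subgroup G)).Coprime (Nat.card Z) := by
      obtain ⟨i, hi⟩ := Q.2.exists_card_eq
      obtain ⟨j, hj⟩ := (P.2.to_le (inf_le_left : Z ≤ _)).exists_card_eq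
      rw [hi, hj]
      exact ((Nat.coprime_primes hq.out hp.out).2 hqp).pow i j
    have hQZ := commute_of_norm β hβ.1 Z (Q : Subgroup G)
      (fun x hx hfix => orderOf_eq_one_iff.1 (Nat.eq_one_of_dvd_coprimes (hxo x hx) dvd_rfl
        (orderOf_dvd_of_pow_eq_one (hβ.pow_eq_one_of_fixed hfix))))
      (fun v _ => hβ.2 v) (isMulCommutative_zOf _) (hpmap β Z hZβ) (hpmap β _ hg₁) hcopZ
    haveI := hquotN β hβ Z hZβ (zOf_ne_bot P.2 hPne)
    intro x hx u hu
    obtain ⟨j, hj⟩ := P.2 ⟨u, hu⟩
    have hj' : u ^ p ^ j = 1 := congrArg Subtype.val hj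
    have h1 : Commute (x : G ⧸ Z) (u : G ⧸ Z) :=
      Subnormal.commute_of_coprime (p := p) (k := j)
        (by rw [← QuotientGroup.mk_pow, hj']; rfl)
        ((hxo x hx).coprime_dvd_left (orderOf_map_dvd (QuotientGroup.mk' Z) x))
    have hz : ⁅x, u⁆ ∈ Z := by
      refine (QuotientGroup.eq_one_iff _).1 ?_
      show QuotientGroup.mk' Z ⁅x, u⁆ = 1
      rw [map_commutatorElement]
      exact commutatorElement_eq_one_iff_commute.2 h1
    refine Coprime.commute_of_translate (z := ⁅x, u⁆)
      (by rw [commutatorElement_def, inv_mul_cancel_right]) (hQZ x hx _ hz) ?_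
    obtain ⟨l, hl⟩ := P.2 ⟨⁅x, u⁆, hz.1⟩
    exact ((hxo x hx).pow_right l).coprime_dvd_right
      (orderOf_dvd_of_pow_eq_one (congrArg Subtype.val hl : ⁅x, u⁆ ^ p ^ l = 1))
  haveI := hquotN β hβ (P : Subgroup G) hPβ hPne
  haveI hQP : ((Q : Subgroup G) ⊔ (P : Subgroup G)).Normal := by
    haveI : (((Q.mapSurjective (QuotientGroup.mk'_surjective (P : Subgroup G))) :
        Sylow q (G ⧸ (P : Subgroup G))) : Subgroup (G ⧸ (P : Subgroup G))).Normal := inferInstance
    have := this.comap (QuotientGroup.mk' (P : Subgroup G))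
    rwa [Sylow.coe_mapSurjective, comap_map_eq, QuotientGroup.ker_mk'] at this
  set L := (Q : Subgroup G) ⊔ (P : Subgroup G)
  have hQL : L ≤ normalizer ((Q : Subgroup G) : Set G) :=
    sup_le le_normalizer fun u hu => centralizer_le_normalizer _
      (mem_centralizer_iff.2 fun x hx => (hcent x hx u hu).eq)
  haveI hLn : ((Q : Subgroup G).subgroupOf L).Normal :=
    normal_subgroupOf_iff_le_normalizer le_sup_left |>.2 hQL
  haveI := (Q.subtype (le_sup_left : (Q : Subgroup G) ≤ L)).characteristic_of_normal
    (by rw [Sylow.coe_subtype]; exact hLn)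
  rw [Sylow.coe_subtype] at this
  have h2 := ConjAct.normal_of_characteristic_of_normal (H := L) (K := (Q : Subgroup G).subgroupOf L)
  rwa [map_subgroupOf_eq_of_le le_sup_left] at h2

end Cfsg.Agent.PComplement
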