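import Cfsg.Agent.Lib.PComplement.Reduction
import Cfsg.Agent.Lib.PGroup.Frattini
import Cfsg.Agent.Lib.PGroup.Thompson
import Cfsg.Agent.Lib.Offender.StableClosure

/-!
# The minimal configuration is p-stable, and Thompson's complement theorem for `W(S)`

`Config.mem_pCore_of_quadratic`: in a minimal configuration (p odd), an element quadratic on a normal
elementary abelian p-subgroup `V` lies in `O_p` modulo `C(V)`. `Config.isActionPStable`,
`stableComplement`.
-/

namespace Cfsg.Agent.PComplement

open Subgroup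
open scoped commutatorElement

universe u

section Elements

variable {G : Type u} [Group G] [Finite G] {p : ℕ} [Fact p.Prime]

/-- A p'-element of an image lifts to a p'-element. -/
theorem exists_coprime_preimage {H : Type*} [Group H] (f : G →* H) (g : G)
    (hg : (orderOf (f g)).Coprime p) :
    ∃ x : G, (orderOf x).Coprime p ∧ f x = f g := by
  obtain ⟨k, m, hm, hkm⟩ :=
    Nat.exists_eq_pow_mul_and_not_dvd (orderOf_pos g).ne' p (Fact.out : p.Prime).ne_one
  have hcop : (orderOf (f g)).Coprime (p ^ k) := hg.pow_right k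
  obtain ⟨t, ht⟩ : ∃ t : ℕ, ((f g) ^ p ^ k) ^ t = f g :=
    ⟨_, (exists_pow_eq_self_of_coprime hcop.symm).choose_spec⟩
  refine ⟨(g ^ p ^ k) ^ t, ?_, by rw [map_pow, map_pow, ht]⟩
  refine Nat.Coprime.coprime_dvd_left (orderOf_pow_dvd t) ?_
  rw [orderOf_pow_of_dvd (pow_ne_zero _ (Fact.out : p.Prime).ne_zero) ⟨m, hkm⟩, hkm,
    Nat.mul_div_cancel_left _ (pow_pos (Fact.out : p.Prime).pos k)]
  exact ((Fact.out : p.Prime).coprime_iff_not_dvd.2 hm).symm

/-- An element whose image has p-power order has the same image as some p-element. -/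
theorem exists_pPower_preimage {H : Type*} [Group H] (f : G →* H) (g : G) {n : ℕ}
    (hg : f g ^ p ^ n = 1) : ∃ (x : G) (i : ℕ), x ^ p ^ i = 1 ∧ f x = f g := by
  obtain ⟨k, m, hm, hkm⟩ :=
    Nat.exists_eq_pow_mul_and_not_dvd (orderOf_pos g).ne' p (Fact.out : p.Prime).ne_one
  have hcop : (orderOf (f g)).Coprime m :=
    (Nat.Coprime.pow_left n ((Fact.out : p.Prime).coprime_iff_not_dvd.2 hm)).coprime_dvd_left
      (orderOf_dvd_of_pow_eq_one hg)
  obtain ⟨t, ht⟩ : ∃ t : ℕ, ((f g) ^ m) ^ t = f g :=
    ⟨_, (exists_pow_eq_self_of_coprime hcop.symm).choose_spec⟩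
  refine ⟨(g ^ m) ^ t, k, ?_, by rw [map_pow, map_pow, ht]⟩
  rw [← pow_mul, ← pow_mul, show m * (t * p ^ k) = p ^ k * m * t by ring, pow_mul, ← hkm,
    pow_orderOf_eq_one, one_pow]

end Elements

variable {G : Type u} [Group G] [Finite G] {p : ℕ} [Fact p.Prime] {P : Sylow p G}

/-- A quadratic element lies in `O_p` modulo the centraliser. -/
theorem Config.mem_pCore_of_quadratic (h : Config p P) (hp : p ≠ 2) (V : Subgroup G) [V.Normal]
    (hV : IsPGroup p V) (hVc : IsMulCommutative V) (hVe : ∀ v ∈ V, v ^ p = 1) {a : G}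
    (ha : ⁅⁅V, zpowers a⁆, zpowers a⁆ = ⊥) :
    (QuotientGroup.mk a : G ⧸ centralizer (V : Set G)) ∈
      Cfsg.pCore p (G ⧸ centralizer (V : Set G)) := by
  set C := centralizer (V : Set G) with hC
  set π := QuotientGroup.mk' C with hπ
  by_cases hCP : C ≤ (P : Subgroup G)
  · -- the image of `a` is a p-element
    have hq : ∀ v ∈ V, ⁅⁅v, a⁆, a⁆ = 1 := fun v hv => mem_bot.1
      (ha ▸ commutator_mem_commutator (commutator_mem_commutator hv (mem_zpowers a)) (mem_zpowers a))
    have hap : π a ^ p ^ 1 = 1 := by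
      rw [pow_one, ← map_pow]
      refine (QuotientGroup.eq_one_iff _).2 (mem_centralizer_iff.2 fun v hv => ?_)
      set d := a * v * a⁻¹ * v⁻¹ with hd
      have hdV : d ∈ V := mul_mem ((inferInstance : V.Normal).conj_mem v hv a) (inv_mem hv)
      have hda : a * d * a⁻¹ = d := by
        have h1 : Commute ⁅v, a⁆ a := commutatorElement_eq_one_iff_commute.1 (hq v hv)
        have e : d = ⁅v, a⁆⁻¹ := by rw [hd, commutatorElement_inv, commutatorElement_def]
        rw [e, h1.inv_left.eq.symm, mul_inv_cancel_right]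
      have hk : ∀ i : ℕ, a ^ i * v * (a ^ i)⁻¹ = d ^ i * v := by
        intro i
        induction i with
        | zero => simp
        | succ i ihi =>
          calc a ^ (i + 1) * v * (a ^ (i + 1))⁻¹ = a * (a ^ i * v * (a ^ i)⁻¹) * a⁻¹ := by
                rw [pow_succ', mul_inv_rev]; simp only [mul_assoc]
            _ = (a * d ^ i * a⁻¹) * (a * v * a⁻¹) := by rw [ihi]; group
            _ = d ^ i * (d * v) := by
              rw [← conj_pow, hda, show d * v = a * v * a⁻¹ by rw [hd, inv_mul_cancel_right]]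
            _ = d ^ (i + 1) * v := by rw [pow_succ, ← mul_assoc]
      have := hk p
      rw [hVe d hdV, one_mul, mul_inv_eq_iff_eq_mul] at this
      exact this.symm
    obtain ⟨x, i, hxi, hx⟩ := exists_pPower_preimage π a hap
    have hxp : IsPGroup p (zpowers x) := IsPGroup.of_card (n := (orderOf x).factorization p) (by
      rw [Nat.card_zpowers]
      obtain ⟨j, -, hj⟩ := (Nat.dvd_prime_pow Fact.out).1 (orderOf_dvd_of_pow_eq_one hxi)
      rw [hj, (Fact.out : p.Prime).factorization_pow, Finsupp.single_eq_same])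
    obtain ⟨Q, hQ⟩ := hxp.exists_le_sylow
    obtain ⟨g, hg⟩ := MulAction.exists_smul_eq G Q P
    have hgx : g * x * g⁻¹ ∈ (P : Subgroup G) := by
      rw [← hg]
      exact ⟨x, hQ (mem_zpowers x), rfl⟩
    have hact : ∀ {y z : G}, π y = π z → ∀ v ∈ V, y * v * y⁻¹ = z * v * z⁻¹ := by
      intro y z hyz v hv
      have hc : z⁻¹ * y ∈ C := QuotientGroup.eq.1 hyz.symm
      have := mem_centralizer_iff.1 hc v hv
      calc y * v * y⁻¹ = z * ((z⁻¹ * y) * v) * y⁻¹ := by group
        _ = z * (v * (z⁻¹ * y)) * y⁻¹ := by rw [this]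
        _ = z * v * z⁻¹ := by group
    have hqx : ∀ v ∈ V, ⁅⁅v, x⁆, x⁆ = 1 := by
      intro v hv
      have h2 : ∀ w ∈ V, ⁅w, x⁆ = ⁅w, a⁆ := fun w hw => by
        rw [commutatorElement_def, commutatorElement_def,
          show w * x * w⁻¹ * x⁻¹ = w * (x * w⁻¹ * x⁻¹) by group, hact hx _ (inv_mem hw)]
        group
      rw [h2 v hv, h2 _ (mul_mem (mul_mem hv ((inferInstance : V.Normal).conj_mem _ (inv_mem hv) a))
        (one_mem V) |> fun h => by simpa [commutatorElement_def, mul_assoc] using h)]
      exact hq v hv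
    have hmem : g * x * g⁻¹ ∈ Cfsg.pCore p G := by
      refine h.mem_core_of_quadratic hp V (hV.le_sylow_of_normal P) hCP hgx fun v hv => ?_
      have h1 := hqx _ ((inferInstance : V.Normal).conj_mem v hv g⁻¹)
      have h2 := congrArg (MulAut.conj g) h1
      rw [map_one, map_commutatorElement, map_commutatorElement] at h2
      simpa [mul_assoc] using h2
    have hxU : x ∈ Cfsg.pCore p G := by
      simpa [mul_assoc] using (PCore.pCore_normal (p := p)).conj_mem _ hmem g⁻¹
    show π a ∈ _
    rw [← hx]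
    exact PCore.map_pCore_le π (QuotientGroup.mk'_surjective C) ⟨x, hxU, rfl⟩
  · have hpq : IsPGroup p (G ⧸ C) := by
      intro q
      obtain ⟨g, rfl⟩ := QuotientGroup.mk'_surjective C q
      obtain ⟨k, m, hm, hkm⟩ :=
        Nat.exists_eq_pow_mul_and_not_dvd (orderOf_pos g).ne' p (Fact.out : p.Prime).ne_one
      refine ⟨k, ?_⟩
      rw [← map_pow]
      refine (QuotientGroup.eq_one_iff _).2 (h.mem_of_coprime C hCP ?_)
      rw [orderOf_pow_of_dvd (pow_ne_zero _ (Fact.out : p.Prime).ne_zero) ⟨m, hkm⟩, hkm,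
        Nat.mul_div_cancel_left _ (pow_pos (Fact.out : p.Prime).pos k)]
      exact ((Fact.out : p.Prime).coprime_iff_not_dvd.2 hm).symm
    rw [PCore.pCore_eq_top_of_isPGroup hpq]
    trivial

/-- The configuration passes to the quotient by `Φ(O_p G)`. -/
theorem Config.quotient (h : Config p P) (Φ : Subgroup G) [Φ.Normal] (hΦ : Φ ≤ Cfsg.pCore p G)
    (hker : Cfsg.sectionKernel (Cfsg.pCore p G) Φ ≤ Cfsg.pCore p G) :
    Config p (P.mapSurjective (QuotientGroup.mk'_surjective Φ)) := by
  set π := QuotientGroup.mk' Φ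
  have hsurj : Function.Surjective π := QuotientGroup.mk'_surjective Φ
  have hΦp : IsPGroup p Φ := PCore.isPGroup_pCore.to_le hΦ
  have hcore : (Cfsg.pCore p G).map π = Cfsg.pCore p (G ⧸ Φ) := PCore.map_pCore_quotient Φ hΦp
  refine ⟨?_, ?_, ?_⟩
  · have hle : π.ker ≤ (P : Subgroup G) :=
      (QuotientGroup.ker_mk' Φ).trans_le (hΦ.trans (PCore.pCore_le_sylow P))
    refine ⟨fun htop => h.coatom.1 ?_, fun L hL => ?_⟩
    · have := congrArg (Subgroup.comap π) htop
      rwa [Sylow.coe_mapSurjective, comap_map_eq_self hle, comap_top] at this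
    · rw [Sylow.coe_mapSurjective] at hL
      have h1 : (P : Subgroup G) < L.comap π := by
        rw [← comap_map_eq_self hle]
        exact (comap_lt_comap_of_surjective hsurj).2 hL
      rw [← map_comap_eq_self_of_surjective hsurj L, h.coatom.2 _ h1, map_top_of_surjective _ hsurj]
  · rw [← hcore]
    intro q hq
    obtain ⟨g, rfl⟩ := hsurj q
    exact ⟨g, hker hq, rfl⟩
  · intro x y hx hy
    obtain ⟨x₀, rfl⟩ := hsurj x
    obtain ⟨y₀, rfl⟩ := hsurj y
    obtain ⟨x₁, hx₁, ex⟩ := exists_coprime_preimage π x₀ hx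
    obtain ⟨y₁, hy₁, ey⟩ := exists_coprime_preimage π y₀ hy
    rw [← ex, ← ey, ← map_commutatorElement, ← hcore]
    exact ⟨_, h.comm x₁ y₁ hx₁ hy₁, rfl⟩

/-- A minimal configuration is p-stable in the action sense. -/
theorem Config.isActionPStable (h : Config p P) (hp : p ≠ 2) : Cfsg.IsActionPStable p G := by
  set U := Cfsg.pCore p G with hU
  haveI hΦn : ((frattini ↥U).map U.subtype).Normal := by
    have : (frattini ↥U).Characteristic := frattini_characteristic
    exact ConjAct.normal_of_characteristic_of_normal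
  refine ⟨fun V _ hV a ha => h.mem_pCore_of_quadratic hp V
    (fun v => ⟨1, Subtype.ext (by simpa using hV.2 v v.2)⟩) hV.1 hV.2 ha, fun a ha => ?_,
    fun S V _ hV => ?_⟩
  · set Φ := (frattini ↥U).map U.subtype with hΦdef
    set π := QuotientGroup.mk' Φ with hπ
    have hΦU : Φ ≤ U := map_subtype_le _
    have hker : Cfsg.sectionKernel U Φ ≤ U := by
      haveI : (Cfsg.sectionKernel U Φ).Normal := by
        haveI : (U.map π).Normal := (inferInstance : U.Normal).map π (QuotientGroup.mk'_surjective Φ)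
        exact Normal.comap inferInstance _
      exact PCore.le_pCore (Offender.isPGroup_sectionKernel h.cent)
    have hq := h.quotient Φ hΦU hker
    haveI hVn : (U.map π).Normal := (inferInstance : U.Normal).map π (QuotientGroup.mk'_surjective Φ)
    have hUp : IsPGroup p U := PCore.isPGroup_pCore
    have hVc : IsMulCommutative (U.map π) := by
      constructor; constructor
      rintro ⟨_, x, hx, rfl⟩ ⟨_, y, hy, rfl⟩
      refine Subtype.ext (commutatorElement_eq_one_iff_mul_comm.1 ?_)
      rw [← map_commutatorElement]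
      refine (QuotientGroup.eq_one_iff _).2 ⟨⁅(⟨x, hx⟩ : U), ⟨y, hy⟩⁆,
        PGroup.commutator_le_frattini hUp (commutator_mem_commutator (mem_top _) (mem_top _)), rfl⟩
    have hVe : ∀ v ∈ U.map π, v ^ p = 1 := by
      rintro _ ⟨x, hx, rfl⟩
      rw [← map_pow]
      exact (QuotientGroup.eq_one_iff _).2 ⟨_, PGroup.pow_mem_frattini hUp ⟨x, hx⟩, rfl⟩
    have ha' : ⁅⁅U.map π, zpowers (π a)⁆, zpowers (π a)⁆ = ⊥ := by
      rw [← MonoidHom.map_zpowers, ← map_commutator, ← map_commutator, Subgroup.map_eq_bot_iff,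
        QuotientGroup.ker_mk']
      exact ha
    have hmem := hq.mem_pCore_of_quadratic hp _ (hUp.map π) hVc hVe ha'
    set σ := QuotientGroup.mk' (centralizer ((U.map π : Subgroup (G ⧸ Φ)) : Set (G ⧸ Φ)))
    have hkerσ : (σ.comp π).ker = Cfsg.sectionKernel U Φ := by
      rw [← MonoidHom.comap_ker, QuotientGroup.ker_mk']
      rfl
    have hsurj : Function.Surjective (σ.comp π) :=
      (QuotientGroup.mk'_surjective _).comp (QuotientGroup.mk'_surjective Φ)
    refine ⟨(Cfsg.pCore p _).comap (σ.comp π), inferInstance, ?_, ?_, hmem⟩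
    · rw [← hkerσ]; exact ker_le_comap _ _
    · obtain ⟨k, hk⟩ := PCore.exists_card_pCore
        (G := (G ⧸ Φ) ⧸ centralizer ((U.map π : Subgroup (G ⧸ Φ)) : Set (G ⧸ Φ))) (p := p)
      refine ⟨k, ?_⟩
      rw [← hk, ← hkerσ, MonoidHom.comap_bot (σ.comp π) |>.symm,
        relIndex_comap, map_comap_eq_self_of_surjective hsurj, relIndex_bot_left]
  · intro a ha
    have hSN : (S : Subgroup G) ≤ (normalizer (Cfsg.thompsonSubgroupOf p (S : Subgroup G) : Set G)) :=
      le_normalizer.trans (PGroup.normalizer_le_normalizer_thompsonOf _)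
    obtain ⟨g, hg⟩ := MulAction.exists_smul_eq G P S
    have hSco : IsCoatom (S : Subgroup G) := by
      rw [← hg, Sylow.coe_subgroup_smul]
      exact (OrderIso.isCoatom_iff (MulEquiv.mapSubgroup (MulAut.conj g)) _).2 h.coatom
    rcases hSco.le_iff.1 hSN with hh | hh
    · -- (normalizer (Cfsg.thompsonSubgroupOf p (S : Subgroup G) : Set G)) = ⊤
      set V' := V.map (normalizer (Cfsg.thompsonSubgroupOf p (S : Subgroup G) : Set G)).subtype
      haveI : V'.Normal := by
        refine ⟨fun v hv x => ?_⟩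
        obtain ⟨w, hw, rfl⟩ := hv
        exact ⟨_, Normal.conj_mem ‹_› w hw ⟨x, hh ▸ mem_top x⟩, rfl⟩
      have hV' : Cfsg.IsElementaryAbelian p V' := PGroup.isElementaryAbelian_mono
        (PGroup.isElementaryAbelian_map
          (show Cfsg.IsElementaryAbelian p (Cfsg.omegaCenterThompson p ↥(S : Subgroup G)) from
            PGroup.isElementaryAbelian_omegaOne
              (PGroup.isMulCommutative_of_forall fun _ hx _ hy => (hx.2 _ hy.1).symm)) _) hV
      have hmem := h.mem_pCore_of_quadratic hp V' (fun v => ⟨1, Subtype.ext (by simpa using hV'.2 v v.2)⟩)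
        hV'.1 hV'.2 (a := (a : G)) (by
          rw [← coe_subtype, ← MonoidHom.map_zpowers, ← map_commutator, ← map_commutator, ha,
            Subgroup.map_bot])
      let e : (↥(normalizer (Cfsg.thompsonSubgroupOf p (S : Subgroup G) : Set G)) ⧸ centralizer (V : Set ↥(normalizer (Cfsg.thompsonSubgroupOf p (S : Subgroup G) : Set G)))) →* G ⧸ centralizer (V' : Set G) :=
        QuotientGroup.map _ _ (normalizer (Cfsg.thompsonSubgroupOf p (S : Subgroup G) : Set G)).subtype fun x hx => mem_centralizer_iff.2 (by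
          rintro _ ⟨w, hw, rfl⟩
          exact congrArg Subtype.val (mem_centralizer_iff.1 hx w hw))
      have he : Function.Bijective e := by
        refine ⟨(injective_iff_map_eq_one e).2 fun q hq => ?_, fun q => ?_⟩
        · induction q using QuotientGroup.induction_on with | _ x =>
          refine (QuotientGroup.eq_one_iff x).2 (mem_centralizer_iff.2 fun w hw => Subtype.ext ?_)
          exact mem_centralizer_iff.1 ((QuotientGroup.eq_one_iff (x : G)).1 hq) _ ⟨w, hw, rfl⟩
        · induction q using QuotientGroup.induction_on with | _ x =>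
          exact ⟨QuotientGroup.mk ⟨x, hh ▸ mem_top x⟩, rfl⟩
      exact (PCore.mem_pCore_congr (MulEquiv.ofBijective e he)).1 hmem
    · -- (normalizer (Cfsg.thompsonSubgroupOf p (S : Subgroup G) : Set G)) = S
      have hNp : IsPGroup p (normalizer (Cfsg.thompsonSubgroupOf p (S : Subgroup G) : Set G)) := by rw [hh]; exact S.2
      rw [PCore.pCore_eq_top_of_isPGroup (hNp.to_quotient _)]
      trivial

/-- **Thompson's normal p-complement theorem** in the form with `W(S)`. -/
theorem stableComplement (hp : p ≠ 2) (S : Sylow p G)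
    (hN : Cfsg.HasNormalPComplement p
      ↥(normalizer (((Cfsg.stableNormalClosure p ↥(S : Subgroup G)).map (S : Subgroup G).subtype) : Set G))) :
    Cfsg.HasNormalPComplement p G := by
  refine reduction (W := fun Q _ => Cfsg.stableNormalClosure p Q) False (fun _ _ => True)
    ⟨fun Q _ _ hQ hne => Offender.stableNormalClosure_ne_bot hQ,
      fun Q R _ _ _ _ φ => Offender.map_stableNormalClosure φ⟩
    (fun _ _ _ _ _ => trivial) (fun _ _ _ _ _ _ => trivial)
    (fun G _ _ P _ hc _ _ => ?_) G trivial S ⟨hN, False.elim⟩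
  exact Offender.normal_stableNormalClosure (hc.isActionPStable hp) hc.cent P

end Cfsg.Agent.PComplement
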